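import Mathlib
set_option linter.all false
/-!
S1144, rank two: the common interface between [M] (split ⟹ Moufang) and the classification of the
root group systems ([3], [4], [6], [8]).

`RootSys m G`: root groups `X i`, `i ∈ ZMod (2m)`, of a Moufang `m`-gon inside `G`; `X (i+1), …, X (i+m)` are
the positive root groups of a chamber, `X (i+m)` is opposite to `X i`.
-/

set_option autoImplicit false

namespace Cfsg.Agent.SplitTwo

/-- Root group system of rank two (output of [M]). Left conjugation throughout. -/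
structure RootSys (m : ℕ) (G : Type*) [Group G] where
  /-- the root groups -/
  X : ZMod (2 * m) → Subgroup G
  /-- the torus (pointwise stabiliser of the apartment) -/
  H : Subgroup G
  two_lt : 2 < m
  ne_bot : ∀ i, X i ≠ ⊥
  /-- `[X i, X (i+k)] ≤ ⟨X (i+1), …, X (i+k-1)⟩` for `1 ≤ k < m` -/
  comm : ∀ (i : ZMod (2 * m)) (k : ℕ), 1 ≤ k → k < m →
    ⁅X i, X (i + (k : ZMod (2 * m)))⁆ ≤ ⨆ r ∈ Set.Ioo 0 k, X (i + ((r : ℕ) : ZMod (2 * m)))
  /-- `X i ∩ ⟨X (i+1), …, X (i+m-1)⟩ = 1` -/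
  inter : ∀ i : ZMod (2 * m),
    X i ⊓ (⨆ r ∈ Set.Ioo 0 m, X (i + ((r : ℕ) : ZMod (2 * m)))) = ⊥
  /-- for `1 ≠ u ∈ X i` there are `v, v' ∈ X (i+m)` with `n = v u v'`, `n X j n⁻¹ = X (2i+m-j)` -/
  mu : ∀ i, ∀ u ∈ X i, u ≠ 1 → ∃ v ∈ X (i + (m : ZMod (2 * m))), ∃ v' ∈ X (i + (m : ZMod (2 * m))),
    ∀ j x, (v * u * v') * x * (v * u * v')⁻¹ ∈ X (2 * i + (m : ZMod (2 * m)) - j) ↔ x ∈ X j
  gen : (⨆ i, X i) = ⊤
  /-- the prime -/
  p : ℕ
  prime : p.Prime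
  isPGroup : ∀ i, IsPGroup p (X i)
  H_conj : ∀ h ∈ H, ∀ i, ∀ x ∈ X i, h * x * h⁻¹ ∈ X i

end Cfsg.Agent.SplitTwo
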