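import Cfsg.Agent.Tits.Labels
import Cfsg.Agent.Tits.Rigid
import Cfsg.Agent.Tits.Gate
import Cfsg.Prelude.Def_LieRecognition
import Cfsg.Agent.Lib.LocalCore
import Cfsg.Agent.Tits.Chart
import Cfsg.Agent.Tits.Generic
import Mathlib
import Cfsg.Agent.Tits.Opp
import Cfsg.Agent.Tits.OppRes
import Cfsg.Agent.HKS.LinTriv_m3
import Cfsg.Agent.S1180
import Cfsg.Agent.S0215
import Cfsg.Agent.S0205
import Cfsg.Agent.S1220
import Cfsg.Agent.S1221
import Cfsg.Agent.S1225
import Cfsg.Agent.Lib.Cores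
import Cfsg.Agent.HKS.RankOne
import Cfsg.Agent.S1128
import Cfsg.Agent.S1131
import Cfsg.Agent.S0885
import Cfsg.Agent.S0347
import Cfsg.Agent.PermutationGroups.TwoTransitiveNormal
import Cfsg.Agent.Lib.SubnormalJoin
import Cfsg.Agent.S1174
import Cfsg.Agent.FastGrp
import Cfsg.Agent.Prune
set_option linter.all false

section
prune_inst 0x7ff0fef90fb88ddeffff7e7ffff1dffc18d0dfffefdff94bffe9ebff7fbf23672fc5fbaf0de4d0ffcef6e29410b87813f9ffcabfea6bdc7ffffd5ff45ffbee1fe5febd8911d698341ffc6ffffbf27fae7f1fffffffffffffffffffffffffffffffffffffffff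

-- part: SplitTwo/Glue
section
prune_inst 0xd0102b044722100000180000e0003e52f2000102006b00014140080404c88d0300010f21b0c003101110ae74203e8020034400590030000020008200411c01a0142266c29248b00021000040d805180e00000000000000000000000000000000000000000
set_option linter.all false
open scoped Cfsg.Agent.FastGrp

-- part: SplitTwo/Reducible
section
/-!
A finite simple group with a split (B,N)-pair of rank at least one has an irreducible (B,N)-pair
(part [RED] of S1144, proof of helper493), modulo the rank one fact `RankOneR` on doubly transitive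
groups whose point stabiliser has a nilpotent normal subgroup transitive on the other points.
-/

set_option autoImplicit false
set_option linter.unusedSectionVars false

namespace Cfsg.Agent.SplitTwo.Reducible

universe u v

/-- The rank one fact: `R` is doubly transitive on `Ω`, `M` is a nilpotent normal subgroup of the
stabiliser of `a` which is transitive on the other points. Then the stabiliser `M_b` of another point
has order at most two, and if it is not trivial, then `R` has a regular normal abelian subgroup. -/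
def RankOneR : Prop :=
  ∀ (Ω : Type u) [Finite Ω] (R M : Subgroup (Equiv.Perm Ω)) (a b : Ω), b ≠ a →
    (∀ x y x' y' : Ω, x ≠ y → x' ≠ y' → ∃ g ∈ R, g x = x' ∧ g y = y') →
    M ≤ R → (∀ m ∈ M, m a = a) → (∀ r ∈ R, r a = a → ∀ m ∈ M, r * m * r⁻¹ ∈ M) →
    Group.IsNilpotent M → (∀ x y : Ω, x ≠ a → y ≠ a → ∃ m ∈ M, m x = y) →
    (∀ m ∈ M, ∀ m' ∈ M, m b = b → m' b = b → m ≠ 1 → m' ≠ 1 → m = m') ∧
    ((∃ m ∈ M, m b = b ∧ m ≠ 1) → ∃ A : Subgroup (Equiv.Perm Ω), A ≤ R ∧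
      (∀ r ∈ R, ∀ x ∈ A, r * x * r⁻¹ ∈ A) ∧ (∀ x ∈ A, ∀ y ∈ A, x * y = y * x) ∧
      ∀ x y : Ω, ∃ g ∈ A, g x = y)

/-- If `A` is a transitive abelian normal subgroup of a permutation group and `E` is a subgroup of
exponent two fixing `a` and transitive on the other points, then there are at most three points. -/
theorem perm_contra {Ω : Type*} {R A E : Subgroup (Equiv.Perm Ω)} {a b : Ω}
    (hAn : ∀ r ∈ R, ∀ x ∈ A, r * x * r⁻¹ ∈ A) (hAc : ∀ x ∈ A, ∀ y ∈ A, x * y = y * x)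
    (hAt : ∀ x y : Ω, ∃ g ∈ A, g x = y) (hER : E ≤ R) (hEa : ∀ e ∈ E, e a = a)
    (hE2 : ∀ e ∈ E, e * e = 1) (hEt : ∀ x y, x ≠ a → y ≠ a → ∃ e ∈ E, e x = y)
    {m : Equiv.Perm Ω} (hba : b ≠ a) (hma : m a = a) (hmb : m b = b) : m = 1 := by
  have hinvE : ∀ e ∈ E, e⁻¹ = e := fun e he => inv_eq_of_mul_eq_one_left (hE2 e he)
  have hEc : ∀ e ∈ E, ∀ e' ∈ E, e * e' = e' * e := by
    intro e he e' he'
    rw [← hinvE _ (mul_mem he he'), mul_inv_rev, hinvE e he, hinvE e' he']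
  have hAreg : ∀ x ∈ A, x a = a → x = 1 := by
    intro x hx hxa
    ext y
    obtain ⟨g, hg, rfl⟩ := hAt a y
    rw [Equiv.Perm.one_apply, ← Equiv.Perm.mul_apply, hAc x hx g hg, Equiv.Perm.mul_apply, hxa]
  have hfree : ∀ e ∈ E, ∀ y, y ≠ a → e y = y → e = 1 := by
    intro e he y hy hey
    ext z
    rw [Equiv.Perm.one_apply]
    by_cases hz : z = a
    · rw [hz, hEa e he]
    · obtain ⟨e', he', rfl⟩ := hEt y z hy hz
      rw [← Equiv.Perm.mul_apply, hEc e he e' he', Equiv.Perm.mul_apply, hey]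
  have hinv : ∀ e ∈ E, e ≠ 1 → ∀ x ∈ A, e * x * e⁻¹ = x⁻¹ := by
    intro e he he1 x hx
    have hx' := hAn e (hER he) x hx
    have hw : x * (e * x * e⁻¹) ∈ A := mul_mem hx hx'
    have h1 : e * (x * (e * x * e⁻¹)) * e⁻¹ = x * (e * x * e⁻¹) := by
      have h2 : e * (x * (e * x * e⁻¹)) * e⁻¹ = (e * x * e⁻¹) * ((e * e) * x * (e * e)⁻¹) := by
        group
      rw [h2, hE2 e he, one_mul, inv_one, mul_one, hAc _ hx' _ hx]
    have h3 : e ((x * (e * x * e⁻¹)) a) = (x * (e * x * e⁻¹)) a := by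
      have h4 : e * (x * (e * x * e⁻¹)) = (x * (e * x * e⁻¹)) * e := by
        rw [mul_inv_eq_iff_eq_mul] at h1
        exact h1
      rw [← Equiv.Perm.mul_apply, h4, Equiv.Perm.mul_apply, hEa e he]
    have h5 : (x * (e * x * e⁻¹)) a = a := by
      by_contra hne
      exact he1 (hfree e he _ hne h3)
    have h6 := hAreg _ hw h5
    exact eq_inv_of_mul_eq_one_right h6
  have htwo : ∀ e ∈ E, ∀ e' ∈ E, e ≠ 1 → e' ≠ 1 → e = e' := by
    intro e he e' he' h1 h2
    have h3 : e * e' = 1 := by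
      ext y
      obtain ⟨x, hx, rfl⟩ := hAt a y
      have h4 : e * e' * x = x * (e * e') := by
        have h5 : (e * e') * x * (e * e')⁻¹ = e * (e' * x * e'⁻¹) * e⁻¹ := by group
        rw [hinv e' he' h2 x hx, hinv e he h1 _ (inv_mem hx), inv_inv,
          mul_inv_eq_iff_eq_mul] at h5
        exact h5
      rw [← Equiv.Perm.mul_apply, h4, Equiv.Perm.mul_apply, Equiv.Perm.mul_apply, hEa e' he',
        hEa e he]
      rfl
    rw [← hinvE e' he']
    exact eq_inv_of_mul_eq_one_left h3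
  ext z
  rw [Equiv.Perm.one_apply]
  by_cases hza : z = a
  · rw [hza, hma]
  by_cases hzb : z = b
  · rw [hzb, hmb]
  have hmza : m z ≠ a := fun h => hza (m.injective (h.trans hma.symm))
  have hmzb : m z ≠ b := fun h => hzb (m.injective (h.trans hmb.symm))
  obtain ⟨e, he, h1⟩ := hEt b z hba hza
  obtain ⟨e', he', h2⟩ := hEt b (m z) hba hmza
  have h3 : e ≠ 1 := by
    rintro rfl
    exact hzb h1.symm
  have h4 : e' ≠ 1 := by
    rintro rfl
    exact hmzb h2.symm
  rw [← h2, ← htwo e he e' he' h3 h4, h1]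

open Cfsg.Agent.Tits.Core Cfsg.Agent.Tits.OppRes Cfsg.Agent.Tits.Rigid

section Building

variable {I : Type*} {M : CoxeterMatrix I} {W : Type*} [Group W] {cs : CoxeterSystem M W}
variable {C : Type u} (Δ : Bldg cs C) [F : Cox cs]
variable {G : Type v} [Group G] [MulAction G C]

/-- A group of isometries with a nilpotent normal subgroup `U` of the stabiliser of `c`, transitive
on the chambers at each distance from `c`. -/
structure Split (c : C) (U : Subgroup G) : Prop where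
  iso : ∀ (g : G) x y, Δ.δ (g • x) (g • y) = Δ.δ x y
  trans : ∀ x y x' y', Δ.δ x y = Δ.δ x' y' → ∃ g : G, g • x = x' ∧ g • y = y'
  thick : Δ.Thick
  fix : ∀ u ∈ U, u • c = c
  normal : ∀ b : G, b • c = c → ∀ u ∈ U, b * u * b⁻¹ ∈ U
  nilp : Group.IsNilpotent U
  sphere : ∀ x y, Δ.δ c x = Δ.δ c y → ∃ u ∈ U, u • x = y

variable {Δ} {c : C} {U : Subgroup G} (H : Split Δ c U)

include H

theorem Split.smul_Pan {s : I} {x : C} {g : G} (hg : g • c ∈ Δ.Pan s c) (hx : x ∈ Δ.Pan s c) :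
    g • x ∈ Δ.Pan s c := by
  rw [Pan_eq_Res] at hg hx ⊢
  refine delta_mem_of_mem (y := g • c) hg ?_
  rw [H.iso]
  exact hx

/-- The stabiliser of the panel of type `s` of `c`. -/
def Split.panStab (s : I) : Subgroup G where
  carrier := {g | g • c ∈ Δ.Pan s c}
  mul_mem' := by
    intro g h hg hh
    rw [Set.mem_ofPred_eq, mul_smul]
    exact H.smul_Pan hg hh
  one_mem' := by
    rw [Set.mem_ofPred_eq, one_smul]
    exact Or.inl rfl
  inv_mem' := by
    intro g hg
    rw [Set.mem_ofPred_eq, Pan_eq_Res] at hg ⊢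
    change Δ.δ c (g⁻¹ • c) ∈ WJ cs {s}
    rw [← H.iso g, smul_inv_smul, Δ.symm c (g • c)]
    exact inv_mem hg

theorem Split.mem_panStab {s : I} {g : G} : g ∈ H.panStab s ↔ g • c ∈ Δ.Pan s c := Iff.rfl

theorem Split.le_panStab (s : I) : U ≤ H.panStab s := fun u hu => by
  rw [H.mem_panStab, H.fix u hu]
  exact Or.inl rfl

/-- The action of the stabiliser of a panel on the panel. -/
def Split.perm (s : I) : H.panStab s →* Equiv.Perm (Δ.Pan s c) where
  toFun g :=
    { toFun := fun x => ⟨(g : G) • (x : C), H.smul_Pan g.2 x.2⟩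
      invFun := fun x => ⟨(g : G)⁻¹ • (x : C), H.smul_Pan (inv_mem g.2) x.2⟩
      left_inv := fun x => Subtype.ext (inv_smul_smul _ _)
      right_inv := fun x => Subtype.ext (smul_inv_smul _ _) }
  map_one' := by
    ext x
    exact one_smul G (x : C)
  map_mul' g h := by
    ext x
    exact mul_smul (g : G) (h : G) (x : C)

theorem Split.perm_eq_one {s : I} (g : H.panStab s) :
    H.perm s g = 1 ↔ ∀ x ∈ Δ.Pan s c, (g : G) • x = x := by
  constructor
  · intro h x hx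
    have := congrArg (fun σ : Equiv.Perm (Δ.Pan s c) => ((σ ⟨x, hx⟩ : Δ.Pan s c) : C)) h
    exact this
  · intro h
    ext x
    exact h x x.2

theorem Split.delta_Pan {s : I} {x y : C} (hx : x ∈ Δ.Pan s c) (hy : y ∈ Δ.Pan s c) (hxy : x ≠ y) :
    Δ.δ x y = cs.simple s := by
  rw [Pan_eq_Res] at hx hy
  rcases WJ_singleton (delta_mem_of_Res hx hy) with h | h
  · exact absurd ((Δ.eq_one x y).1 h) hxy
  · exact h

/-- The rank one fact for a panel of `c`. -/
theorem Split.rankOne (hR : RankOneR.{u}) [Finite C] {s : I} {b : C} (hb : b ∈ Δ.Pan s c)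
    (hbc : b ≠ c) :
    (∀ v ∈ U, v • b = b → ∀ x ∈ Δ.Pan s c, (v * v) • x = x) ∧
    ((∃ v ∈ U, v • b = b ∧ ∃ x ∈ Δ.Pan s c, v • x ≠ x) → ∀ E : Subgroup G, E ≤ U →
      (∀ e ∈ E, e * e = 1) → ¬ ∀ x ∈ Δ.Pan s c, ∀ y ∈ Δ.Pan s c, x ≠ c → y ≠ c →
        ∃ e ∈ E, e • x = y) := by
  have hc : c ∈ Δ.Pan s c := Or.inl rfl
  set f := H.perm s with hf
  set MM : Subgroup (Equiv.Perm (Δ.Pan s c)) := (U.subgroupOf (H.panStab s)).map f with hMM
  have hmemM : ∀ v (hv : v ∈ U), f ⟨v, H.le_panStab s hv⟩ ∈ MM := fun v hv => ⟨_, hv, rfl⟩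
  have hMex : ∀ m ∈ MM, ∃ v, ∃ hv : v ∈ U, m = f ⟨v, H.le_panStab s hv⟩ := by
    rintro _ ⟨v, hv, rfl⟩
    exact ⟨(v : G), hv, rfl⟩
  have key := hR (Δ.Pan s c) f.range MM ⟨c, hc⟩ ⟨b, hb⟩
    (fun h => hbc (congrArg Subtype.val h)) ?_ ?_ ?_ ?_ ?_ ?_
  · obtain ⟨k1, k2⟩ := key
    constructor
    · intro v hv hvb x hx
      have h1 : f ⟨v, H.le_panStab s hv⟩ * f ⟨v, H.le_panStab s hv⟩ = 1 := by
        by_cases h : f ⟨v, H.le_panStab s hv⟩ = 1
        · rw [h, one_mul]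
        · have hfb : f ⟨v, H.le_panStab s hv⟩ ⟨b, hb⟩ = ⟨b, hb⟩ := Subtype.ext hvb
          have hfb' : (f ⟨v, H.le_panStab s hv⟩)⁻¹ ⟨b, hb⟩ = ⟨b, hb⟩ := by
            rw [Equiv.Perm.inv_eq_iff_eq, hfb]
          have := k1 _ (hmemM v hv) _ (inv_mem (hmemM v hv)) hfb hfb' h (inv_ne_one.2 h)
          rw [eq_inv_iff_mul_eq_one] at this
          exact this
      rw [← map_mul, H.perm_eq_one] at h1
      exact h1 x hx
    · rintro ⟨v, hv, hvb, y, hy, hvy⟩ E hEU hE2 hEt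
      have hne : f ⟨v, H.le_panStab s hv⟩ ≠ 1 := by
        intro h
        rw [H.perm_eq_one] at h
        exact hvy (h y hy)
      obtain ⟨A, hAR, hAn, hAc, hAt⟩ := k2 ⟨_, hmemM v hv, Subtype.ext hvb, hne⟩
      apply hne
      refine perm_contra (R := f.range) (A := A) (E := (E.subgroupOf (H.panStab s)).map f)
        (a := ⟨c, hc⟩) (b := ⟨b, hb⟩) hAn hAc hAt ?_ ?_ ?_ ?_ (fun h => hbc (congrArg Subtype.val h))
        (Subtype.ext (H.fix v hv)) (Subtype.ext hvb)
      · rintro _ ⟨e, _, rfl⟩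
        exact ⟨e, rfl⟩
      · rintro _ ⟨e, he, rfl⟩
        exact Subtype.ext (H.fix _ (hEU he))
      · rintro _ ⟨e, he, rfl⟩
        rw [← map_mul]
        have : e * e = 1 := Subtype.ext (hE2 _ he)
        rw [this, map_one]
      · rintro ⟨x, hx⟩ ⟨y, hy⟩ hxc hyc
        obtain ⟨e, he, hexy⟩ := hEt x hx y hy (fun h => hxc (Subtype.ext h))
          (fun h => hyc (Subtype.ext h))
        exact ⟨f ⟨e, H.le_panStab s (hEU he)⟩, ⟨_, he, rfl⟩, Subtype.ext hexy⟩
  · rintro ⟨x, hx⟩ ⟨y, hy⟩ ⟨x', hx'⟩ ⟨y', hy'⟩ hxy hxy'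
    have h1 := H.delta_Pan hx hy (fun h => hxy (Subtype.ext h))
    have h2 := H.delta_Pan hx' hy' (fun h => hxy' (Subtype.ext h))
    obtain ⟨g, hg1, hg2⟩ := H.trans x y x' y' (h1.trans h2.symm)
    have hg : g ∈ H.panStab s := by
      rw [H.mem_panStab, Pan_eq_Res]
      rw [Pan_eq_Res] at hx hx'
      refine delta_mem_of_mem (y := x') hx' ?_
      rw [← hg1, H.iso, Δ.symm c x]
      exact inv_mem hx
    exact ⟨f ⟨g, hg⟩, ⟨_, rfl⟩, Subtype.ext hg1, Subtype.ext hg2⟩
  · rintro _ ⟨v, _, rfl⟩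
    exact ⟨v, rfl⟩
  · rintro _ ⟨v, hv, rfl⟩
    exact Subtype.ext (H.fix _ hv)
  · rintro _ ⟨r, rfl⟩ hr _ ⟨v, hv, rfl⟩
    refine ⟨r * v * r⁻¹, ?_, by rw [map_mul, map_mul, map_inv]⟩
    exact H.normal (r : G) (congrArg Subtype.val hr) _ hv
  · have h1 := H.nilp
    have h2 : Group.IsNilpotent (U.subgroupOf (H.panStab s)) :=
      Group.nilpotent_of_mulEquiv (Subgroup.subgroupOfEquivOfLe (H.le_panStab s)).symm
    exact Group.nilpotent_of_surjective (f.subgroupMap (U.subgroupOf (H.panStab s)))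
      (f.subgroupMap_surjective _)
  · rintro ⟨x, hx⟩ ⟨y, hy⟩ hxc hyc
    have h1 := H.delta_Pan hc hx (fun h => hxc (Subtype.ext h.symm))
    have h2 := H.delta_Pan hc hy (fun h => hyc (Subtype.ext h.symm))
    obtain ⟨v, hv, hvxy⟩ := H.sphere x y (h1.trans h2.symm)
    exact ⟨f ⟨v, H.le_panStab s hv⟩, hmemM v hv, Subtype.ext hvxy⟩

/-! ### The reducible case -/

variable {J : Set I} (hcomm : ∀ i ∈ J, ∀ k ∉ J, cs.simple i * cs.simple k = cs.simple k * cs.simple i)

omit H F in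
include hcomm in
theorem comm_WJ {a b : W} (ha : a ∈ WJ cs J) (hb : b ∈ WJ cs Jᶜ) : a * b = b * a := by
  unfold WJ at ha hb
  induction ha using Subgroup.closure_induction with
  | mem x hx =>
    obtain ⟨i, hi, rfl⟩ := hx
    induction hb using Subgroup.closure_induction with
    | mem y hy =>
      obtain ⟨k, hk, rfl⟩ := hy
      exact hcomm i hi k hk
    | one => rw [mul_one, one_mul]
    | mul y z _ _ h1 h2 => rw [← mul_assoc, h1, mul_assoc, h2, mul_assoc]
    | inv y _ h => exact (Commute.inv_right (show Commute _ _ from h)).eq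
  | one => rw [mul_one, one_mul]
  | mul y z _ _ h1 h2 => rw [mul_assoc, h2, ← mul_assoc, h1, mul_assoc]
  | inv y _ h => exact (Commute.inv_left (show Commute _ _ from h)).eq

omit H F in
include hcomm in
theorem exists_mul (w : W) : ∃ a ∈ WJ cs J, ∃ b ∈ WJ cs Jᶜ, w = a * b := by
  induction w using cs.simple_induction_right with
  | one => exact ⟨1, one_mem _, 1, one_mem _, (one_mul 1).symm⟩
  | mul_simple_right w i ih =>
    obtain ⟨a, ha, b, hb, rfl⟩ := ih
    by_cases hi : i ∈ J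
    · have h1 := simple_mem_WJ (cs := cs) hi
      refine ⟨a * cs.simple i, mul_mem ha h1, b, hb, ?_⟩
      rw [mul_assoc, mul_assoc, comm_WJ hcomm h1 hb]
    · exact ⟨a, ha, b * cs.simple i, mul_mem hb (simple_mem_WJ (J := Jᶜ) hi), by rw [mul_assoc]⟩

omit H in
include hcomm in
/-- Every residue of type `Jᶜ` meets the residue of type `J` of `c`. -/
theorem exists_meet (x : C) : ∃ y ∈ Δ.Res J c, x ∈ Δ.Res Jᶜ y := by
  have hp := isProj_proj (Δ := Δ) Jᶜ x c
  obtain ⟨a, ha, b, hb, h1⟩ := exists_mul hcomm (Δ.δ c (Δ.proj Jᶜ x c))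
  have h2 : ∃ z, Δ.δ (Δ.proj Jᶜ x c) z = b⁻¹ := exists_delta Δ _ _
  obtain ⟨z, hz⟩ := h2
  have hz1 : z ∈ Δ.Res Jᶜ (Δ.proj Jᶜ x c) := by
    change Δ.δ _ z ∈ WJ cs Jᶜ
    rw [hz]
    exact inv_mem hb
  have hz2 : z ∈ Δ.Res Jᶜ x := by
    rw [← Res_eq hp.1]
    exact hz1
  refine ⟨z, ?_, ?_⟩
  · change Δ.δ c z ∈ WJ cs J
    rw [(hp.2 z hz2).1, hz, h1, mul_inv_cancel_right]
    exact ha
  · rw [Res_eq hz2]
    exact mem_Res_self _ _

omit H in
variable (Δ G) in
/-- The elements fixing all residues of type `K`. -/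
def resKer (K : Set I) : Subgroup G where
  carrier := {g | ∀ x, g • x ∈ Δ.Res K x}
  mul_mem' := by
    intro g h hg hh x
    rw [mul_smul]
    exact delta_mem_of_mem (hh x) (hg _)
  one_mem' := by
    intro x
    rw [one_smul]
    exact mem_Res_self _ _
  inv_mem' := by
    intro g hg x
    have h1 := hg (g⁻¹ • x)
    rw [smul_inv_smul] at h1
    change Δ.δ x (g⁻¹ • x) ∈ WJ cs K
    rw [Δ.symm (g⁻¹ • x) x]
    exact inv_mem h1

theorem Split.resKer_normal (K : Set I) : (resKer Δ G K).Normal := by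
  constructor
  intro n hn g x
  have h1 := hn (g⁻¹ • x)
  change Δ.δ x ((g * n * g⁻¹) • x) ∈ WJ cs K
  have h2 : Δ.δ x ((g * n * g⁻¹) • x) = Δ.δ (g⁻¹ • x) (n • g⁻¹ • x) := by
    rw [← H.iso g (g⁻¹ • x), smul_inv_smul, mul_smul, mul_smul]
  rw [h2]
  exact h1

theorem Split.resKer_eq_bot [IsSimpleGroup G] {K : Set I} {j : I} (hj : j ∉ K) :
    resKer Δ G K = ⊥ := by
  rcases (H.resKer_normal K).eq_bot_or_eq_top with h | h
  · exact h
  · exfalso
    obtain ⟨y, hy⟩ := exists_delta Δ c (cs.simple j)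
    obtain ⟨g, hg, _⟩ := H.trans c c y y (by rw [delta_self, delta_self])
    have h1 : g ∈ resKer Δ G K := by rw [h]; trivial
    have h2 := h1 c
    rw [hg] at h2
    change Δ.δ c y ∈ WJ cs K at h2
    rw [hy] at h2
    have h3 : cs.length (cs.simple j * cs.simple j) < cs.length (cs.simple j) := by
      rw [cs.simple_mul_simple_self, cs.length_one, cs.length_simple]
      exact Nat.one_pos
    exact hj (F.descent_mem K _ h2 j h3)

include hcomm in
/-- An element fixing the `J`-panels of `c` and a chamber opposite in the `J`-residue is trivial. -/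
theorem Split.eq_one_of_fix [IsSimpleGroup G] (hJ : J.Nonempty) {d : C} (hd : Δ.δ c d = wJ cs J)
    {v : G} (hvd : v • d = d) (hv : ∀ s ∈ J, ∀ x ∈ Δ.Pan s c, v • x = x) : v = 1 := by
  obtain ⟨j, hj⟩ := hJ
  have h1 := rigid (Δ' := Δ) H.thick (J := J) (c := c) (d := d) (φ := fun x => v • x)
    (ψ := fun x => x) (fun a _ b _ => H.iso v a b) (fun a _ b _ => rfl)
    (fun s hs y hy => hv s hs y hy) hd hvd
  have h2 : v ∈ resKer Δ G Jᶜ := by
    intro x
    obtain ⟨y, hy, hxy⟩ := exists_meet (Δ := Δ) (c := c) hcomm x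
    have h3 : v • y = y := h1 y hy
    refine delta_mem_of_mem (y := y) ?_ ?_
    · rw [Δ.symm y x]
      exact inv_mem hxy
    · have h4 : Δ.δ y (v • x) = Δ.δ y x := by
        conv_lhs => rw [← h3]
        rw [H.iso]
      rw [h4]
      exact hxy
  rw [H.resKer_eq_bot (K := Jᶜ) (j := j) (fun h => h hj), Subgroup.mem_bot] at h2
  exact h2

/-- The stabiliser of `d` (opposite `c` in its `J`-residue) fixes a second chamber of each `J`-panel
of `c`. -/
theorem Split.exists_fix {d : C} (hd : Δ.δ c d = wJ cs J) {s : I} (hs : s ∈ J) :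
    ∃ b ∈ Δ.Pan s c, b ≠ c ∧ ∀ v ∈ U, v • d = d → v • b = b := by
  obtain ⟨b, hb1, hb2⟩ := Δ.exists_step d c s
  have hdc : Δ.δ d c = wJ cs J := by rw [Δ.symm c d, hd, F.wJ_inv]
  rw [hdc] at hb2
  refine ⟨b, Or.inr hb1, ?_, ?_⟩
  · rintro rfl
    rw [delta_self] at hb1
    have := congrArg cs.length hb1
    rw [cs.length_one, cs.length_simple] at this
    omega
  · intro v hv hvd
    symm
    refine eq_of_short (Δ := Δ) (x := d) (j := s) hb2 ?_ ?_ ?_
    · conv_lhs => rw [← hvd]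
      rw [H.iso, hb2]
    · rw [mul_assoc, cs.simple_mul_simple_self, mul_one]
      have h1 := F.len_wJ_mul (simple_mem_WJ (cs := cs) hs)
      rw [cs.length_simple] at h1
      omega
    · refine delta_mem_of_mem (y := c) ?_ ?_
      · rw [Δ.symm c b, hb1]
        exact inv_mem (simple_mem_WJ (Set.mem_singleton s))
      · have h2 : Δ.δ c (v • b) = cs.simple s := by
          conv_lhs => rw [← H.fix v hv]
          rw [H.iso, hb1]
        rw [h2]
        exact simple_mem_WJ (Set.mem_singleton s)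

include hcomm in
theorem Split.sq_eq_one (hR : RankOneR.{u}) [Finite C] [IsSimpleGroup G] (hJ : J.Nonempty) {d : C}
    (hd : Δ.δ c d = wJ cs J) {v : G} (hv : v ∈ U) (hvd : v • d = d) : v * v = 1 := by
  apply H.eq_one_of_fix hcomm hJ hd (by rw [mul_smul, hvd, hvd])
  intro s hs x hx
  obtain ⟨b, hb, hbc, hb'⟩ := H.exists_fix hd hs
  exact (H.rankOne hR hb hbc).1 v hv (hb' v hv hvd) x hx

/-- The stabiliser in `U` of a chamber `d` at distance `w` such that `w < w s_k` is not trivial. -/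
theorem Split.exists_ne_one {d : C} {k : I}
    (hk : cs.length (Δ.δ c d) < cs.length (Δ.δ c d * cs.simple k)) :
    ∃ v ∈ U, v • d = d ∧ v ≠ 1 := by
  obtain ⟨y, z, hyz, hy, hz⟩ := H.thick d k
  have h1 := Δ.step_lt c d y k hy hk
  have h2 := Δ.step_lt c d z k hz hk
  obtain ⟨v, hv, hvyz⟩ := H.sphere y z (h1.trans h2.symm)
  refine ⟨v, hv, ?_, ?_⟩
  · refine (eq_of_short (Δ := Δ) (x := c) (w := Δ.δ c d) (j := k) rfl ?_ hk ?_).symm
    · conv_lhs => rw [← H.fix v hv]
      rw [H.iso]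
    · refine delta_mem_of_mem (y := z) ?_ ?_
      · rw [hz]
        exact simple_mem_WJ (Set.mem_singleton k)
      · have h3 : Δ.δ z (v • d) = cs.simple k := by
          rw [← hvyz, H.iso, Δ.symm d y, hy, cs.inv_simple]
        rw [h3]
        exact simple_mem_WJ (Set.mem_singleton k)
  · rintro rfl
    rw [one_smul] at hvyz
    exact hyz hvyz

/-- Let `s` commute with `w`, and let `l (w s) > l w`. The stabiliser in `U` of a chamber `d` at distance `w`
is transitive on the other chambers of the panel of type `s` of `c`. -/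
theorem Split.trans_Pan {d : C} {s : I} {w : W} (hd : Δ.δ c d = w)
    (hlen : cs.length w < cs.length (w * cs.simple s))
    (hsw : cs.simple s * w = w * cs.simple s) {x y : C}
    (hx : Δ.δ c x = cs.simple s) (hy : Δ.δ c y = cs.simple s) :
    ∃ v ∈ U, v • d = d ∧ v • x = y := by
  have key : ∀ x, Δ.δ c x = cs.simple s → ∃ x', Δ.δ d x' = cs.simple s ∧ Δ.δ x x' = w ∧
      Δ.δ c x' = w * cs.simple s := by
    intro x hx
    have h1 : Δ.δ x d = cs.simple s * w := by
      have h2 : Δ.δ x c = cs.simple s := by rw [Δ.symm c x, hx, cs.inv_simple]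
      rw [← hd] at hlen hsw ⊢
      exact Δ.step_lt_left h2 (by rw [hsw]; exact hlen)
    obtain ⟨x', h2, h3⟩ := Δ.exists_step x d s
    refine ⟨x', h2, ?_, ?_⟩
    · rw [h3, h1, hsw, mul_assoc, cs.simple_mul_simple_self, mul_one]
    · rw [← hd]
      rw [← hd] at hlen
      exact Δ.step_lt c d x' s h2 hlen
  obtain ⟨x', hx1, hx2, hx3⟩ := key x hx
  obtain ⟨y', hy1, hy2, hy3⟩ := key y hy
  obtain ⟨v, hv, hvxy⟩ := H.sphere x' y' (hx3.trans hy3.symm)
  refine ⟨v, hv, ?_, ?_⟩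
  · refine (eq_of_short (Δ := Δ) (x := c) (w := w) (j := s) hd ?_ hlen ?_).symm
    · conv_lhs => rw [← H.fix v hv]
      rw [H.iso, hd]
    · refine delta_mem_of_mem (y := y') ?_ ?_
      · rw [hy1]
        exact simple_mem_WJ (Set.mem_singleton s)
      · have h3 : Δ.δ y' (v • d) = cs.simple s := by
          rw [← hvxy, H.iso, Δ.symm d x', hx1, cs.inv_simple]
        rw [h3]
        exact simple_mem_WJ (Set.mem_singleton s)
  · have hw : cs.length w⁻¹ < cs.length (w⁻¹ * cs.simple s) := by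
      have h4 := cs.length_inv (w * cs.simple s)
      rw [mul_inv_rev, cs.inv_simple] at h4
      have h5 : cs.simple s * w⁻¹ = w⁻¹ * cs.simple s := by
        exact (Commute.inv_right (show Commute (cs.simple s) w from hsw)).eq
      rw [← h5, h4, cs.length_inv]
      exact hlen
    refine eq_of_short (Δ := Δ) (x := y') (w := w⁻¹) (j := s) ?_ ?_ hw ?_
    · rw [← hvxy, H.iso, Δ.symm x x', hx2]
    · rw [Δ.symm y y', hy2]
    · refine delta_mem_of_mem (y := c) ?_ ?_
      · have h3 : Δ.δ (v • x) c = cs.simple s := by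
          conv_lhs => rw [← H.fix v hv]
          rw [H.iso, Δ.symm c x, hx, cs.inv_simple]
        rw [h3]
        exact simple_mem_WJ (Set.mem_singleton s)
      · rw [hy]
        exact simple_mem_WJ (Set.mem_singleton s)

omit H in
theorem len_lt_wJ {K : Set I} {k : I} (hk : k ∉ K) :
    cs.length (wJ cs K) < cs.length (wJ cs K * cs.simple k) := by
  by_contra hcon
  have h1 : cs.length (wJ cs K * cs.simple k) < cs.length (wJ cs K) :=
    lt_of_le_of_ne (not_lt.1 hcon) (cs.length_mul_simple_ne _ k)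
  exact hk (F.descent_mem K _ (F.wJ_mem K) k h1)

include hcomm in
theorem Split.false (hR : RankOneR.{u}) [Finite C] [IsSimpleGroup G] (hJ : J.Nonempty)
    (hK : Jᶜ.Nonempty) : False := by
  obtain ⟨k, hk⟩ := hK
  obtain ⟨dJ, hdJ⟩ := exists_delta Δ c (wJ cs J)
  obtain ⟨dK, hdK⟩ := exists_delta Δ c (wJ cs Jᶜ)
  have hcomm' : ∀ i ∈ Jᶜ, ∀ k ∉ Jᶜ, cs.simple i * cs.simple k = cs.simple k * cs.simple i := by
    intro i hi k hk
    rw [Set.mem_compl_iff, not_not] at hk
    exact (hcomm k hk i hi).symm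
  obtain ⟨v, hv, hvd, hv1⟩ := H.exists_ne_one (d := dJ) (k := k) (by
    rw [hdJ]
    exact len_lt_wJ hk)
  have h1 : ∃ s ∈ J, ∃ x ∈ Δ.Pan s c, v • x ≠ x := by
    by_contra hcon
    push Not at hcon
    exact hv1 (H.eq_one_of_fix hcomm hJ hdJ hvd hcon)
  obtain ⟨s, hs, x, hx, hvx⟩ := h1
  obtain ⟨b, hb, hbc, hb'⟩ := H.exists_fix hdJ hs
  refine (H.rankOne hR hb hbc).2 ⟨v, hv, hb' v hv hvd, x, hx, hvx⟩
    (U ⊓ MulAction.stabilizer G dK) inf_le_left ?_ ?_
  · rintro e ⟨he1, he2⟩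
    exact H.sq_eq_one hcomm' hR ⟨k, hk⟩ hdK he1 he2
  · intro x hx y hy hxc hyc
    have hc : c ∈ Δ.Pan s c := Or.inl rfl
    have h2 := H.delta_Pan hc hx (Ne.symm hxc)
    have h3 := H.delta_Pan hc hy (Ne.symm hyc)
    obtain ⟨e, he1, he2, he3⟩ := H.trans_Pan (d := dK) hdK (len_lt_wJ (fun h => h hs))
      (comm_WJ hcomm (simple_mem_WJ hs) (F.wJ_mem _)) h2 h3
    exact ⟨e, ⟨he1, he2⟩, he3⟩

end Building

/-! ### (B,N)-pairs -/

section BN

open Cfsg Cfsg.Agent.LieExceptional.BNPairCore Cfsg.Agent.Tits.OfBN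

/-- A finite simple group with a split (B,N)-pair has an irreducible (B,N)-pair, modulo the rank one
fact `RankOneR`. -/
theorem irreducible_of_split {G : Type u} [Group G] [Finite G] [IsSimpleGroup G]
    (hR : RankOneR.{u}) (P : Cfsg.BNPair G) (hP : P.IsSplit) : P.Irreducible := by
  intro J hJS hJne hKne
  by_contra hcon
  push Not at hcon
  obtain ⟨U, hUB, hUn, hUnil, hUT⟩ := hP
  obtain ⟨M, hN, cs, hcs⟩ := Tits.Labels.exists_bnType P
  have hth := thick P (Equiv.refl P.S) cs hcs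
  have hmem : ∀ g : G, g • (QuotientGroup.mk (1 : G) : G ⧸ P.B) = QuotientGroup.mk 1 ↔ g ∈ P.B := by
    intro g
    change (QuotientGroup.mk (g * 1) : G ⧸ P.B) = QuotientGroup.mk 1 ↔ g ∈ P.B
    rw [mul_one, eq_comm, QuotientGroup.eq, inv_one, one_mul]
  have H : Split (bldg P (Equiv.refl P.S) cs hcs) (QuotientGroup.mk (1 : G) : G ⧸ P.B) U := by
    refine ⟨fun g x y => dist_smul P g x y, fun x y x' y' h => trans P x y x' y' h, hth, ?_, ?_,
      hUnil, ?_⟩
    · intro u hu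
      exact (hmem u).2 (hUB hu)
    · intro b hb
      exact hUn b ((hmem b).1 hb)
    · intro x y hxy
      induction x using QuotientGroup.induction_on with
      | _ a =>
      induction y using QuotientGroup.induction_on with
      | _ b =>
      rw [bldg_δ_mk, bldg_δ_mk, inv_one, one_mul, one_mul] at hxy
      obtain ⟨n, hn⟩ := exists_mem_C P a
      rw [wt_of_mem P hn] at hxy
      have hn' := mem_C_of_wt P hxy.symm
      have key : ∀ g ∈ C P (n : G), ∃ u ∈ U, (QuotientGroup.mk g : G ⧸ P.B) =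
          QuotientGroup.mk (u * n) := by
        intro g hg
        obtain ⟨b₁, hb₁, b₂, hb₂, rfl⟩ := mem_C.1 hg
        rw [← hUT] at hb₁
        have hnorm : (P.B ⊓ P.N) ≤ Subgroup.normalizer (U : Set G) := by
          intro t ht
          rw [Subgroup.mem_normalizer_iff]
          intro u
          refine ⟨fun hu => hUn t ht.1 u hu, fun hu => ?_⟩
          have := hUn t⁻¹ (inv_mem ht.1) _ hu
          have h2 : t⁻¹ * (t * u * t⁻¹) * t⁻¹⁻¹ = u := by group
          rwa [h2] at this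
        rw [← SetLike.mem_coe, Subgroup.coe_mul_of_right_le_normalizer_left _ _ hnorm] at hb₁
        obtain ⟨u, hu, t, ht, rfl⟩ := hb₁
        refine ⟨u, hu, ?_⟩
        rw [eq_comm, QuotientGroup.eq]
        have h3 : (u * (n : G))⁻¹ * (u * t * (n : G) * b₂) = ((n : G)⁻¹ * t * (n : G)⁻¹⁻¹) * b₂ := by
          group
        rw [h3]
        exact mul_mem (P.conj_mem _ (inv_mem n.2) t ht) hb₂
      obtain ⟨u, hu, hu'⟩ := key a hn
      obtain ⟨w, hw, hw'⟩ := key b hn'
      refine ⟨w * u⁻¹, mul_mem hw (inv_mem hu), ?_⟩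
      rw [hu', hw']
      change (QuotientGroup.mk (w * u⁻¹ * (u * n)) : G ⧸ P.B) = QuotientGroup.mk (w * n)
      congr 1
      group
  refine H.false (J := {s | (s : G) ∈ J}) ?_ hR ?_ ?_
  · intro s hs t ht
    have h1 := hcon s hs t ⟨t.2, ht⟩
    rw [hcs, hcs, ← QuotientGroup.mk_mul, ← QuotientGroup.mk_mul, mk_eq_iff]
    change ((s : G) * t)⁻¹ * (t * s) ∈ P.B
    have h2 := inv_mem (conj_mem' (P := P) (n := ((s : G) * t)⁻¹)
      (inv_mem (mul_mem (P.subset s.2) (P.subset t.2))) h1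
      (by
        exact mul_mem (mul_mem (mul_mem (P.subset s.2) (P.subset t.2)) (inv_mem (P.subset s.2)))
          (inv_mem (P.subset t.2))))
    have h3 : (((s : G) * t)⁻¹ * ((s : G) * t * (s : G)⁻¹ * (t : G)⁻¹) * ((s : G) * t)⁻¹⁻¹)⁻¹ =
        ((s : G) * t)⁻¹ * (t * s) := by group
    rwa [h3] at h2
  · obtain ⟨s, hs⟩ := hJne
    exact ⟨⟨s, hJS hs⟩, hs⟩
  · obtain ⟨s, hs⟩ := hKne
    exact ⟨⟨s, hs.1⟩, hs.2⟩

end BN

end Cfsg.Agent.SplitTwo.Reducible
end

-- part: SplitTwo/Glue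
section
/-!
S1144, rank two, glue between [RED], [N] and [M].

* `fit G c` : the Fitting subgroup of the stabiliser of the chamber `c`, `oc p G c` : its `p`-core;
* `split_fit` : if `Split Δ c U` for one chamber, then `Split Δ d (fit G d)` for all chambers;
* `kx Δ G s c` : the elements fixing the panel of type `s` of `c` pointwise;
* `mem_fit_of_mem_kx` : `fit G c ⊓ kx = F(kx) = fit G d ⊓ kx` for all chambers `c`, `d` of a panel;
* `split_of_bn` : the building of a split (B,N)-pair.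
-/

set_option autoImplicit false
set_option linter.unusedSectionVars false

namespace Cfsg.Agent.SplitTwo.Glue

open Cfsg Cfsg.Agent.Tits.Core Cfsg.Agent.Tits.OppRes Cfsg.Agent.Tits.Rigid
open Cfsg.Agent.SplitTwo.Reducible MulAction
open Subgroup

universe u v

/-! ### Fitting subgroups and `p`-cores of chamber stabilisers -/

section Fit

variable (G : Type v) [Group G] {C : Type u} [MulAction G C]

/-- The Fitting subgroup of the stabiliser of `c`. -/
def fit (c : C) : Subgroup G := (fittingSubgroup (stabilizer G c)).map (stabilizer G c).subtype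

theorem fit_le (c : C) : fit G c ≤ stabilizer G c := map_subtype_le _

theorem smul_of_mem_fit {c : C} {u : G} (hu : u ∈ fit G c) : u • c = c :=
  mem_stabilizer_iff.mp (fit_le G c hu)

theorem le_normalizer_fit (c : C) : stabilizer G c ≤ normalizer (fit G c : Set G) :=
  Lib.LocalCore.le_normalizer_map_fittingSubgroup _

theorem isNilpotent_fit [Finite G] (c : C) : Group.IsNilpotent (fit G c) := by
  have := Lib.Cores.fittingSubgroup_isNilpotent (G := stabilizer G c)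
  exact (Lib.Cores.isNilpotent_map_equiv (stabilizer G c).subtype_injective _).mpr this

theorem le_fit {c : C} {U : Subgroup G} (h1 : U ≤ stabilizer G c) (h2 : Group.IsNilpotent U)
    (h3 : stabilizer G c ≤ normalizer (U : Set G)) : U ≤ fit G c :=
  Lib.LocalCore.le_map_fittingSubgroup h1 h2 h3

theorem conj_mem {A B : Subgroup G} (h : A ≤ normalizer (B : Set G)) {a b : G} (ha : a ∈ A)
    (hb : b ∈ B) : a * b * a⁻¹ ∈ B := (mem_normalizer_iff.mp (h ha) b).mp hb

theorem le_normalizer_of {A B : Subgroup G} (h : ∀ a ∈ A, ∀ b ∈ B, a * b * a⁻¹ ∈ B) :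
    A ≤ normalizer (B : Set G) := by
  intro a ha
  rw [mem_normalizer_iff]
  intro b
  refine ⟨h a ha b, fun hb => ?_⟩
  have := h a⁻¹ (inv_mem ha) _ hb
  have e : a⁻¹ * (a * b * a⁻¹) * a⁻¹⁻¹ = b := by group
  rwa [e] at this

theorem conj_mem_stabilizer {g b : G} {c : C} : g * b * g⁻¹ ∈ stabilizer G (g • c) ↔
    b ∈ stabilizer G c := by
  rw [mem_stabilizer_iff, mem_stabilizer_iff, mul_smul, mul_smul, inv_smul_smul, smul_left_cancel_iff]

theorem conj_mem_fit [Finite G] {g u : G} {c : C} (hu : u ∈ fit G c) :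
    g * u * g⁻¹ ∈ fit G (g • c) := by
  have h1 : (fit G c).map (MulAut.conj g).toMonoidHom ≤ fit G (g • c) := by
    refine le_fit G ?_ ?_ ?_
    · rintro _ ⟨x, hx, rfl⟩
      exact (conj_mem_stabilizer G).mpr (fit_le G c hx)
    · exact (Lib.Cores.isNilpotent_map_equiv (MulAut.conj g).injective _).mpr (isNilpotent_fit G c)
    · refine le_normalizer_of G ?_
      rintro a ha _ ⟨x, hx, rfl⟩
      have e : a = g * (g⁻¹ * a * g) * g⁻¹ := by group
      have ha' : g⁻¹ * a * g ∈ stabilizer G c := by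
        rw [e] at ha
        exact (conj_mem_stabilizer G).mp ha
      refine ⟨(g⁻¹ * a * g) * x * (g⁻¹ * a * g)⁻¹, conj_mem G (le_normalizer_fit G c) ha' hx, ?_⟩
      change g * ((g⁻¹ * a * g) * x * (g⁻¹ * a * g)⁻¹) * g⁻¹ = a * (g * x * g⁻¹) * a⁻¹
      group
  exact h1 ⟨u, hu, rfl⟩

theorem conj_mem_fit_iff [Finite G] {g u : G} {c : C} :
    g * u * g⁻¹ ∈ fit G (g • c) ↔ u ∈ fit G c := by
  refine ⟨fun h => ?_, conj_mem_fit G⟩
  have := conj_mem_fit G (g := g⁻¹) h
  rw [inv_smul_smul] at this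
  have e : g⁻¹ * (g * u * g⁻¹) * g⁻¹⁻¹ = u := by group
  rwa [e] at this

theorem fit_smul [Finite G] (g : G) (c : C) :
    fit G (g • c) = (fit G c).map (MulAut.conj g).toMonoidHom := by
  ext x
  constructor
  · intro hx
    refine ⟨g⁻¹ * x * g, ?_, by change g * (g⁻¹ * x * g) * g⁻¹ = x; group⟩
    refine (conj_mem_fit_iff G (g := g)).mp ?_
    have e : g * (g⁻¹ * x * g) * g⁻¹ = x := by group
    rwa [e]
  · rintro ⟨y, hy, rfl⟩
    exact conj_mem_fit G hy

/-- Two chambers whose stabilisers normalise `K ≤ G_c ∩ G_d`: `F(G_c) ∩ K = F(K) = F(G_d) ∩ K`. -/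
theorem mem_fit_of_mem [Finite G] {c d : C} {K : Subgroup G} (h1 : K ≤ stabilizer G c)
    (h3 : K ≤ stabilizer G d)
    (h4 : stabilizer G d ≤ normalizer (K : Set G)) {u : G} (hu : u ∈ fit G c) (huK : u ∈ K) :
    u ∈ fit G d := by
  -- `F(G_c) ∩ K ≤ F(K)`
  have h5 : fit G c ⊓ K ≤ (fittingSubgroup K).map K.subtype := by
    refine Lib.LocalCore.le_map_fittingSubgroup inf_le_right ?_ ?_
    · have := isNilpotent_fit G c
      exact (Group.isNilpotent_congr (subgroupOfEquivOfLe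
        (inf_le_left : fit G c ⊓ K ≤ fit G c))).mp inferInstance
    · refine le_normalizer_of G fun a ha b hb => mem_inf.mpr ⟨?_, ?_⟩
      · exact conj_mem G (le_normalizer_fit G c) (h1 ha) hb.1
      · exact mul_mem (mul_mem ha hb.2) (inv_mem ha)
  -- `F(K) ≤ F(G_d)`
  have h6 : (fittingSubgroup K).map K.subtype ≤ fit G d := by
    refine le_fit G ((map_subtype_le _).trans h3) ?_ ?_
    · have := Lib.Cores.fittingSubgroup_isNilpotent (G := K)
      exact (Lib.Cores.isNilpotent_map_equiv K.subtype_injective _).mpr this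
    · refine le_normalizer_of G ?_
      rintro a ha _ ⟨x, hx, rfl⟩
      have h7 := characteristic_iff_map_le.mp (Lib.Cores.fittingSubgroup_characteristic (G := K))
        (K.normalizerMonoidHom ⟨a, h4 ha⟩)
      have h8 : (K.normalizerMonoidHom ⟨a, h4 ha⟩) x ∈ fittingSubgroup K := h7 ⟨x, hx, rfl⟩
      exact ⟨_, h8, rfl⟩
  exact h6 (h5 ⟨hu, huK⟩)

end Fit

/-! ### The family of all chambers -/

section Family

variable {I : Type*} {M : CoxeterMatrix I} {W : Type*} [Group W] {cs : CoxeterSystem M W}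
variable {C : Type u} {Δ : Bldg cs C} [F : Cox cs] {G : Type v} [Group G] [Finite G] [MulAction G C]

omit F in
theorem split_fit {c : C} {U : Subgroup G} (H : Split Δ c U) (d : C) : Split Δ d (fit G d) := by
  obtain ⟨g, rfl, -⟩ := H.trans c c d d (by
    rw [(Δ.eq_one c c).2 rfl, (Δ.eq_one d d).2 rfl])
  have hU : U ≤ fit G c := by
    refine le_fit G (fun u hu => mem_stabilizer_iff.mpr (H.fix u hu)) H.nilp
      (le_normalizer_of G fun a ha b hb => H.normal a (mem_stabilizer_iff.mp ha) b hb)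
  refine ⟨H.iso, H.trans, H.thick, fun u hu => smul_of_mem_fit G hu, ?_, isNilpotent_fit G _, ?_⟩
  · intro b hb u hu
    exact conj_mem G (le_normalizer_fit G _) (mem_stabilizer_iff.mpr hb) hu
  · intro x y hxy
    obtain ⟨u, hu, hux⟩ := H.sphere (g⁻¹ • x) (g⁻¹ • y) (by
      rw [← H.iso g c (g⁻¹ • x), ← H.iso g c (g⁻¹ • y), smul_inv_smul, smul_inv_smul, hxy])
    refine ⟨g * u * g⁻¹, conj_mem_fit G (hU hu), ?_⟩
    rw [mul_smul, mul_smul, hux, smul_inv_smul]

variable (Δ G) in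
/-- The elements fixing the panel of type `s` of `c` pointwise. -/
def kx (s : I) (c : C) : Subgroup G where
  carrier := {g | ∀ x ∈ Δ.Pan s c, g • x = x}
  mul_mem' := by
    intro g h hg hh x hx
    rw [mul_smul, hh x hx, hg x hx]
  one_mem' := fun x _ => one_smul G x
  inv_mem' := by
    intro g hg x hx
    rw [inv_smul_eq_iff, hg x hx]

omit [Finite G] in
theorem mem_kx {s : I} {c : C} {g : G} : g ∈ kx Δ G s c ↔ ∀ x ∈ Δ.Pan s c, g • x = x := Iff.rfl

theorem Pan_eq {s : I} {c d : C} (hd : d ∈ Δ.Pan s c) : Δ.Pan s d = Δ.Pan s c := by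
  rw [Pan_eq_Res] at hd ⊢
  rw [Pan_eq_Res, Res_eq hd]

omit [Finite G] in
theorem kx_eq {s : I} {c d : C} (hd : d ∈ Δ.Pan s c) : kx Δ G s d = kx Δ G s c := by
  ext g
  rw [mem_kx, mem_kx, Pan_eq hd]

omit [Finite G] in
theorem kx_le (s : I) (c : C) : kx Δ G s c ≤ stabilizer G c := fun _ hg =>
  mem_stabilizer_iff.mpr (hg c (Or.inl rfl))

omit [Finite G] in
theorem smul_mem_Pan (iso : ∀ (g : G) x y, Δ.δ (g • x) (g • y) = Δ.δ x y) {s : I} {c x : C} {g : G}
    (hx : x ∈ Δ.Pan s c) : g • x ∈ Δ.Pan s (g • c) := by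
  rcases hx with rfl | hx
  · exact Or.inl rfl
  · exact Or.inr (by rw [iso]; exact hx)

omit [Finite G] in
theorem le_normalizer_kx (iso : ∀ (g : G) x y, Δ.δ (g • x) (g • y) = Δ.δ x y) (s : I) (c : C) :
    stabilizer G c ≤ normalizer (kx Δ G s c : Set G) := by
  refine le_normalizer_of G fun a ha b hb x hx => ?_
  have h1 : a⁻¹ • x ∈ Δ.Pan s c := by
    have h2 := smul_mem_Pan iso (g := a⁻¹) hx
    rwa [mem_stabilizer_iff.mp (inv_mem ha)] at h2
  rw [mul_smul, mul_smul, hb _ h1, smul_inv_smul]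

/-- `fit G c ⊓ K_x = fit G d ⊓ K_x` for two chambers of the panel `x`. -/
theorem mem_fit_of_mem_kx (iso : ∀ (g : G) x y, Δ.δ (g • x) (g • y) = Δ.δ x y) {s : I} {c d : C}
    (hd : d ∈ Δ.Pan s c) {u : G} (hu : u ∈ fit G c) (hk : u ∈ kx Δ G s c) : u ∈ fit G d := by
  refine mem_fit_of_mem G (kx_le s c) ?_ ?_ hu hk
  · rw [← kx_eq hd]; exact kx_le s d
  · rw [← kx_eq hd]; exact le_normalizer_kx iso s d

/-- (REG) from the regularity on panels. -/
theorem reg (iso : ∀ (g : G) x y, Δ.δ (g • x) (g • y) = Δ.δ x y)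
    (hreg : ∀ (c : C) (s : I) (b : C), b ∈ Δ.Pan s c → b ≠ c → ∀ u ∈ fit G c, u • b = b →
      ∀ x ∈ Δ.Pan s c, u • x = x)
    {c b : C} {s : I} (hb : b ∈ Δ.Pan s c) (hbc : b ≠ c) {u : G} (hu : u ∈ fit G c)
    (hub : u • b = b) : (∀ x ∈ Δ.Pan s c, u • x = x) ∧ ∀ d ∈ Δ.Pan s c, u ∈ fit G d :=
  ⟨hreg c s b hb hbc u hu hub, fun _ hd => mem_fit_of_mem_kx iso hd hu (hreg c s b hb hbc u hu hub)⟩

end Family

/-! ### (B,N)-pairs -/

section BN

open Cfsg.Agent.LieExceptional.BNPairCore Cfsg.Agent.Tits.OfBN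

/-- The building of a split (B,N)-pair (the construction inside helper866's
`Reducible.irreducible_of_split`). -/
theorem split_of_bn {G : Type u} [Group G] (P : Cfsg.BNPair G) {U : Subgroup G} (hUB : U ≤ P.B)
    (hUn : ∀ b ∈ P.B, ∀ u ∈ U, b * u * b⁻¹ ∈ U) (hUnil : Group.IsNilpotent U)
    (hUT : U ⊔ (P.B ⊓ P.N) = P.B) {I : Type*} {M : CoxeterMatrix I} (e : I ≃ P.S)
    [hN : ((P.B ⊓ P.N).subgroupOf P.N).Normal]
    (cs : CoxeterSystem M (P.N ⧸ (P.B ⊓ P.N).subgroupOf P.N))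
    (hcs : ∀ i, cs.simple i = QuotientGroup.mk (⟨(e i : G), P.subset (e i).2⟩ : P.N)) :
    Split (bldg P e cs hcs) (QuotientGroup.mk (1 : G) : G ⧸ P.B) U := by
  have hth := thick P e cs hcs
  have hmem : ∀ g : G, g • (QuotientGroup.mk (1 : G) : G ⧸ P.B) = QuotientGroup.mk 1 ↔ g ∈ P.B := by
    intro g
    change (QuotientGroup.mk (g * 1) : G ⧸ P.B) = QuotientGroup.mk 1 ↔ g ∈ P.B
    rw [mul_one, eq_comm, QuotientGroup.eq, inv_one, one_mul]
  refine ⟨fun g x y => dist_smul P g x y, fun x y x' y' h => trans P x y x' y' h, hth, ?_, ?_,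
    hUnil, ?_⟩
  · intro u hu
    exact (hmem u).2 (hUB hu)
  · intro b hb
    exact hUn b ((hmem b).1 hb)
  · intro x y hxy
    induction x using QuotientGroup.induction_on with
    | _ a =>
    induction y using QuotientGroup.induction_on with
    | _ b =>
    rw [bldg_δ_mk, bldg_δ_mk, inv_one, one_mul, one_mul] at hxy
    obtain ⟨n, hn⟩ := exists_mem_C P a
    rw [wt_of_mem P hn] at hxy
    have hn' := mem_C_of_wt P hxy.symm
    have key : ∀ g ∈ C P (n : G), ∃ u ∈ U, (QuotientGroup.mk g : G ⧸ P.B) =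
        QuotientGroup.mk (u * n) := by
      intro g hg
      obtain ⟨b₁, hb₁, b₂, hb₂, rfl⟩ := mem_C.1 hg
      rw [← hUT] at hb₁
      have hnorm : (P.B ⊓ P.N) ≤ Subgroup.normalizer (U : Set G) :=
        le_normalizer_of G fun t ht u hu => hUn t ht.1 u hu
      rw [← SetLike.mem_coe, Subgroup.coe_mul_of_right_le_normalizer_left _ _ hnorm] at hb₁
      obtain ⟨u, hu, t, ht, rfl⟩ := hb₁
      refine ⟨u, hu, ?_⟩
      rw [eq_comm, QuotientGroup.eq]
      have h3 : (u * (n : G))⁻¹ * (u * t * (n : G) * b₂) = ((n : G)⁻¹ * t * (n : G)⁻¹⁻¹) * b₂ := by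
        group
      rw [h3]
      exact mul_mem (P.conj_mem _ (inv_mem n.2) t ht) hb₂
    obtain ⟨u, hu, hu'⟩ := key a hn
    obtain ⟨w, hw, hw'⟩ := key b hn'
    refine ⟨w * u⁻¹, mul_mem hw (inv_mem hu), ?_⟩
    rw [hu', hw']
    change (QuotientGroup.mk (w * u⁻¹ * (u * n)) : G ⧸ P.B) = QuotientGroup.mk (w * n)
    congr 1
    group

end BN

end Cfsg.Agent.SplitTwo.Glue
end
end

-- part: SplitTwo/DihPath605
section
prune_inst 0xb0106d047322100000180000e2002030500001000060000141400804014981000041090102a0010000120e000804002003540050420000000a0000000004012010200200906c0000000000001004000200000000000000000000000000000000000000000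
set_option linter.all false
open scoped Cfsg.Agent.FastGrp
/-!
S1144, [M]: the elements of a finite dihedral Coxeter group in cyclic order.

`w cs a b j`, `j : ℤ`, is the alternating product `s_a s_b s_a ⋯` of `j` factors (for `j < 0` the product
`s_b s_a s_b ⋯` of `-j` factors).
-/

set_option autoImplicit false

namespace Cfsg.Agent.SplitTwo.DihPath

open Cfsg.Agent.Tits.Core

variable {I : Type*} {M : CoxeterMatrix I} {W : Type*} [Group W] (cs : CoxeterSystem M W) (a b : I)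

local notation "ℓ" => cs.length

/-- The type of the panel between the chambers `j` and `j+1`. -/
def ty (j : ℤ) : I := if Even j then a else b

/-- The elements of the dihedral group in cyclic order. -/
def w (j : ℤ) : W :=
  (cs.simple a * cs.simple b) ^ (j / 2) * (if Even j then 1 else cs.simple a)

theorem w_even (k : ℤ) : w cs a b (2 * k) = (cs.simple a * cs.simple b) ^ k := by
  have h : Even (2 * k) := even_two_mul k
  rw [w, if_pos h, mul_one]
  congr 1
  omega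

theorem w_odd (k : ℤ) : w cs a b (2 * k + 1) = (cs.simple a * cs.simple b) ^ k * cs.simple a := by
  have h : ¬ Even (2 * k + 1) := by
    rw [Int.not_even_iff_odd]
    exact ⟨k, rfl⟩
  rw [w, if_neg h]
  congr 2
  omega

theorem w_zero : w cs a b 0 = 1 := by
  have := w_even cs a b 0
  rwa [mul_zero, zpow_zero] at this

theorem conj_p (k : ℤ) : cs.simple a * (cs.simple a * cs.simple b) ^ k =
    (cs.simple a * cs.simple b) ^ (-k) * cs.simple a := by
  have h : cs.simple a * (cs.simple a * cs.simple b) * (cs.simple a)⁻¹ =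
      (cs.simple a * cs.simple b)⁻¹ := by
    rw [mul_inv_rev, cs.inv_simple, cs.inv_simple, cs.simple_mul_simple_cancel_left]
  have h2 := conj_zpow (a := cs.simple a) (b := cs.simple a * cs.simple b) (i := k)
  rw [h, inv_zpow'] at h2
  rw [h2, inv_mul_cancel_right]

variable {a b}

theorem w_succ (j : ℤ) : w cs a b (j + 1) = w cs a b j * cs.simple (ty a b j) := by
  rcases Int.even_or_odd' j with ⟨k, rfl | rfl⟩
  · rw [w_odd, w_even, ty, if_pos (even_two_mul k)]
  · have h : ¬ Even (2 * k + 1) := by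
      rw [Int.not_even_iff_odd]
      exact ⟨k, rfl⟩
    have e : 2 * k + 1 + 1 = 2 * (k + 1) := by ring
    rw [e, w_odd, w_even, ty, if_neg h, zpow_add_one, mul_assoc]

theorem w_pred (j : ℤ) : w cs a b (j - 1) = w cs a b j * cs.simple (ty a b (j - 1)) := by
  have h := w_succ (a := a) (b := b) cs (j - 1)
  rw [sub_add_cancel] at h
  rw [h, cs.simple_mul_simple_cancel_right]

/-- The reflection `w_i ↔ w_{i-1}`. -/
theorem w_refl (i j : ℤ) : w cs a b (i - 1) * (w cs a b i)⁻¹ * w cs a b j =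
    w cs a b (2 * i - 1 - j) := by
  have ht : w cs a b (i - 1) * (w cs a b i)⁻¹ =
      (cs.simple a * cs.simple b) ^ (i - 1) * cs.simple a := by
    rcases Int.even_or_odd' i with ⟨k, rfl | rfl⟩
    · have e : 2 * k - 1 = 2 * (k - 1) + 1 := by ring
      rw [e, w_odd, w_even, ← zpow_neg, mul_assoc, conj_p, neg_neg, ← mul_assoc, ← zpow_add]
      congr 2
      ring
    · have e : 2 * k + 1 - 1 = 2 * k := by ring
      rw [e, w_odd, w_even, mul_inv_rev, cs.inv_simple, ← zpow_neg, conj_p, neg_neg, ← mul_assoc,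
        ← zpow_add]
      congr 2
      ring
  rw [ht]
  rcases Int.even_or_odd' j with ⟨k, rfl | rfl⟩
  · have e : 2 * i - 1 - 2 * k = 2 * (i - 1 - k) + 1 := by ring
    rw [e, w_odd, w_even, mul_assoc, conj_p, ← mul_assoc, ← zpow_add]
    rfl
  · have e : 2 * i - 1 - (2 * k + 1) = 2 * (i - 1 - k) := by ring
    rw [e, w_odd, w_even, mul_assoc, ← mul_assoc (cs.simple a), conj_p, ← mul_assoc, ← mul_assoc,
      ← zpow_add, cs.simple_mul_simple_cancel_right]
    rfl

theorem w_inv_mul (j k : ℤ) : (w cs a b j)⁻¹ * w cs a b (j + k) =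
    w cs a b (if Even j then k else -k) := by
  rcases Int.even_or_odd' j with ⟨l, rfl | rfl⟩
  · rw [if_pos (even_two_mul l), w_even, inv_mul_eq_iff_eq_mul]
    rcases Int.even_or_odd' k with ⟨r, rfl | rfl⟩
    · rw [← mul_add, w_even, w_even, zpow_add]
    · have e : 2 * l + (2 * r + 1) = 2 * (l + r) + 1 := by ring
      rw [e, w_odd, w_odd, zpow_add, mul_assoc]
  · have h : ¬ Even (2 * l + 1) := by
      rw [Int.not_even_iff_odd]
      exact ⟨l, rfl⟩
    rw [if_neg h, w_odd, mul_inv_rev, cs.inv_simple, ← zpow_neg, conj_p, neg_neg]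
    rcases Int.even_or_odd' k with ⟨r, rfl | rfl⟩
    · have e : 2 * l + 1 + 2 * r = 2 * (l + r) + 1 := by ring
      have e2 : -(2 * r) = 2 * (-r) := by ring
      rw [e, e2, w_odd, w_even, mul_assoc, ← mul_assoc (cs.simple a), conj_p, ← mul_assoc,
        ← mul_assoc, ← zpow_add, cs.simple_mul_simple_cancel_right]
      congr 1
      ring
    · have e : 2 * l + 1 + (2 * r + 1) = 2 * (l + r + 1) := by ring
      have e2 : -(2 * r + 1) = 2 * (-r - 1) + 1 := by ring
      rw [e, e2, w_odd, w_even, mul_assoc, conj_p, ← mul_assoc, ← zpow_add]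
      congr 2
      ring

section finite

variable [Finite W] (hI : ∀ i, i = a ∨ i = b) {m : ℕ} (hm : M a b = m)

include hI in
theorem finI : Finite I := by
  classical
  have : Function.Surjective (fun x : Bool => if x then a else b) := by
    intro i
    rcases hI i with h | h
    · exact ⟨true, by simp [h]⟩
    · exact ⟨false, by simp [h]⟩
  exact Finite.of_surjective _ this

include hI hm in
theorem orderOf_p : orderOf (cs.simple a * cs.simple b) = m := by
  have := finI hI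
  rw [← hm]
  exact Cfsg.Agent.Tits.Generic.orderOf_eq cs a b

include hI hm in
theorem w_eq_iff {j k : ℤ} : w cs a b j = w cs a b k ↔ ((2 * m : ℕ) : ℤ) ∣ j - k := by
  have hord := orderOf_p cs hI hm
  have hpar : ∀ r l : ℤ, (cs.simple a * cs.simple b) ^ r * cs.simple a ≠
      (cs.simple a * cs.simple b) ^ l := by
    intro r l h
    have h1 := congrArg cs.lengthParity h
    rw [map_mul, map_zpow, map_zpow, map_mul, cs.lengthParity_simple, cs.lengthParity_simple] at h1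
    have h2 : (Multiplicative.ofAdd (1 : ZMod 2)) * Multiplicative.ofAdd (1 : ZMod 2) = 1 := by
      decide
    rw [h2, one_zpow, one_zpow, one_mul] at h1
    exact absurd h1 (by decide)
  have hpow : ∀ r l : ℤ, (cs.simple a * cs.simple b) ^ r = (cs.simple a * cs.simple b) ^ l ↔
      (m : ℤ) ∣ r - l := by
    intro r l
    rw [← hord, orderOf_dvd_iff_zpow_eq_one, zpow_sub, mul_inv_eq_one]
  have hpow2 : ∀ r l : ℤ, (m : ℤ) ∣ r - l ↔ ((2 * m : ℕ) : ℤ) ∣ 2 * (r - l) := by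
    intro r l
    push_cast
    exact (mul_dvd_mul_iff_left two_ne_zero).symm
  have h2m : (2 : ℤ) ∣ ((2 * m : ℕ) : ℤ) := by
    push_cast
    exact Dvd.intro _ rfl
  rcases Int.even_or_odd' j with ⟨r, rfl | rfl⟩ <;> rcases Int.even_or_odd' k with ⟨l, rfl | rfl⟩
  · rw [w_even, w_even, hpow, hpow2, mul_sub]
  · rw [w_even, w_odd]
    constructor
    · intro h
      exact absurd h.symm (hpar l r)
    · intro h
      have := h2m.trans h
      omega
  · rw [w_even, w_odd]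
    constructor
    · intro h
      exact absurd h (hpar r l)
    · intro h
      have := h2m.trans h
      omega
  · rw [w_odd, w_odd, mul_left_inj, hpow, hpow2]
    have e : 2 * r + 1 - (2 * l + 1) = 2 * (r - l) := by ring
    rw [e]

include hI in
omit [Finite W] in
/-- Every element of `W` is some `w_j` with `|j| ≤ ℓ`. -/
theorem exists_w (v : W) : ∃ j : ℤ, w cs a b j = v ∧ j.natAbs ≤ ℓ v := by
  induction hn : ℓ v generalizing v with
  | zero =>
    refine ⟨0, ?_, by simp⟩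
    rw [w_zero]
    exact (cs.length_eq_zero_iff.1 hn).symm
  | succ n ih =>
    have hne : v ≠ 1 := by
      rintro rfl
      rw [cs.length_one] at hn
      omega
    obtain ⟨i, hi⟩ := cs.exists_rightDescent_of_ne_one hne
    have hi' := cs.isRightDescent_iff.1 hi
    obtain ⟨j, hj, hjn⟩ := ih (v * cs.simple i) (by omega)
    have e : v = w cs a b j * cs.simple i := by rw [hj, cs.simple_mul_simple_cancel_right]
    by_cases hti : i = ty a b j
    · exact ⟨j + 1, by rw [w_succ, e, hti], by omega⟩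
    · refine ⟨j - 1, ?_, by omega⟩
      rw [w_pred, e]
      congr 2
      rcases Int.even_or_odd j with h | h
      · have h' : ¬ Even (j - 1) := by
          rw [Int.not_even_iff_odd]
          exact h.sub_odd odd_one
        rw [ty, if_pos h] at hti
        rw [ty, if_neg h']
        exact ((hI i).resolve_left hti).symm
      · have h' : Even (j - 1) := h.sub_odd odd_one
        rw [ty, if_neg (Int.not_even_iff_odd.2 h)] at hti
        rw [ty, if_pos h']
        exact ((hI i).resolve_right hti).symm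

omit [Finite W] in
theorem length_w_le (j : ℤ) : ℓ (w cs a b j) ≤ j.natAbs := by
  have h1 : ∀ n : ℕ, ℓ (w cs a b n) ≤ n ∧ ℓ (w cs a b (-n)) ≤ n := by
    intro n
    induction n with
    | zero => simp [w_zero]
    | succ n ih =>
      constructor
      · push_cast
        rw [w_succ]
        have := cs.length_mul_le (w cs a b n) (cs.simple (ty a b n))
        rw [cs.length_simple] at this
        omega
      · have e : (-((n + 1 : ℕ) : ℤ)) = -(n : ℤ) - 1 := by push_cast; ring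
        rw [e, w_pred]
        have := cs.length_mul_le (w cs a b (-n)) (cs.simple (ty a b (-n - 1)))
        rw [cs.length_simple] at this
        omega
  generalize hn : j.natAbs = n
  rcases Int.natAbs_eq j with h | h
  · rw [h, hn]
    exact (h1 n).1
  · rw [h, hn]
    exact (h1 n).2

include hI hm in
theorem length_w {j : ℤ} (hj : j.natAbs ≤ m) : ℓ (w cs a b j) = j.natAbs := by
  refine le_antisymm (length_w_le cs j) ?_
  obtain ⟨k, hk, hkl⟩ := exists_w cs hI (w cs a b j)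
  rw [w_eq_iff cs hI hm] at hk
  obtain ⟨r, hr⟩ := hk
  have hle := length_w_le cs (a := a) (b := b) j
  push_cast at hr
  rcases lt_trichotomy r 0 with h | h | h
  · have : (m : ℤ) * r ≤ -m := by nlinarith
    have : k - j ≤ -(2 * m) := by
      rw [hr]
      nlinarith
    omega
  · subst h
    rw [mul_zero] at hr
    have : k = j := by omega
    rw [this] at hkl
    exact hkl
  · have : (m : ℤ) ≤ m * r := by nlinarith
    have : 2 * m ≤ k - j := by
      rw [hr]
      nlinarith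
    omega

include hI hm in
/-- The distance of two chambers in the apartment. -/
theorem length_delta (j : ℤ) {k : ℤ} (hk : k.natAbs ≤ m) :
    ℓ ((w cs a b j)⁻¹ * w cs a b (j + k)) = k.natAbs := by
  rw [w_inv_mul, length_w cs hI hm (by split_ifs <;> simpa using hk)]
  split_ifs <;> simp

include cs hI hm in
theorem m_pos : 0 < m := by
  have := orderOf_p cs hI hm
  rw [← this]
  exact orderOf_pos _

include hI hm in
/-- Every element of `W` is some `w_j` with `|j| ≤ m`. -/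
theorem exists_w' (v : W) : ∃ j : ℤ, w cs a b j = v ∧ j.natAbs ≤ m := by
  obtain ⟨j, hj, -⟩ := exists_w cs hI v
  have hpos := m_pos cs hI hm
  refine ⟨(j + m) % (2 * m : ℕ) - m, ?_, ?_⟩
  · rw [← hj, w_eq_iff cs hI hm]
    have h1 := Int.emod_def (j + m) (2 * m : ℕ)
    refine ⟨-((j + m) / (2 * m : ℕ)), ?_⟩
    rw [h1]
    ring
  · have h1 := Int.emod_nonneg (j + m) (b := ((2 * m : ℕ) : ℤ)) (by push_cast; omega)
    have h2 := Int.emod_lt_of_pos (j + m) (b := ((2 * m : ℕ) : ℤ)) (by push_cast; omega)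
    push_cast at h1 h2 ⊢
    omega

include hI hm in
theorem length_w0 : ℓ (w0 cs) = m := by
  have := finI hI
  apply le_antisymm
  · obtain ⟨j, hj, hjm⟩ := exists_w' cs hI hm (w0 cs)
    rw [← hj]
    exact (length_w_le cs j).trans hjm
  · have h1 := length_w cs hI hm (j := m) (by simp)
    rw [Int.natAbs_natCast] at h1
    rw [← h1]
    exact Cfsg.Agent.Tits.Exchange.length_le_w0 cs _

include hI hm in
theorem w_inv_mul_m (j : ℤ) : (w cs a b j)⁻¹ * w cs a b (j + m) = w0 cs := by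
  apply Cfsg.Agent.Tits.Exchange.eq_w0_of_length
  rw [length_w0 cs hI hm, length_delta cs hI hm j (k := m) (by simp)]
  simp

include hI hm in
theorem w_add_m (j : ℤ) : w cs a b (j + m) = w cs a b j * w0 cs := by
  rw [← w_inv_mul_m cs hI hm j, mul_inv_cancel_left]

include hI hm in
theorem w_add_two_m (j : ℤ) : w cs a b (j + 2 * m) = w cs a b j := by
  rw [w_eq_iff cs hI hm]
  refine ⟨1, by push_cast; ring⟩

end finite

end Cfsg.Agent.SplitTwo.DihPath

private theorem dce_f482a93ab698 : _root_.True := by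
  try have : _root_.True := by simp only [_root_.Cfsg.Agent.SplitTwo.DihPath.w.eq_1]
  try have : _root_.True := by simp only [_root_.Cfsg.Agent.SplitTwo.DihPath.ty.eq_1]
  exact _root_.True.intro
end

-- part: SplitTwo/ExcHyp168_mg
section
prune_inst 0x2000000000000000000000000000000000200000000000000000000000000000000000000000000000000000000000000000000040000000000000000000000000000000000000000000000000000000000000000000
set_option linter.all false
open scoped Cfsg.Agent.FastGrp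

-- part: SplitTwo/PGroup168
section
/-!
S1144, part [N]: a nilpotent normal subgroup `U` of the Borel subgroup `B` of a rank two geometry,
containing every nilpotent normal subgroup of `B` and transitive on the chambers opposite to the given
one, is a `p`-group, and both parameters are powers of `p`. Everything is stated locally: two subgroups
`P₁`, `P₂` containing `B`, with normal subgroups `K₁`, `K₂` (the kernels of `Pᵢ` on `Pᵢ/B`).
-/

set_option autoImplicit false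
set_option linter.unusedSectionVars false
set_option linter.style.haveILetI false

namespace Cfsg.Agent.SplitTwo.PGroup168

variable {G : Type*} [Group G] [Finite G]

/-! ### Sylow subgroups of nilpotent subgroups -/

/-- The Sylow `r`-subgroup of a nilpotent subgroup. -/
noncomputable def syl (r : ℕ) [Fact r.Prime] (U : Subgroup G) : Subgroup G :=
  ((default : Sylow r U) : Subgroup U).map U.subtype

section syl

variable {U : Subgroup G} {r s : ℕ} [Fact r.Prime] [Fact s.Prime]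

theorem syl_le : syl r U ≤ U := by
  rintro _ ⟨x, _, rfl⟩
  exact x.2

theorem isPGroup_syl : IsPGroup r (syl r U) := (default : Sylow r U).isPGroup'.map _

theorem card_syl : Nat.card (syl r U) = r ^ (Nat.card U).factorization r := by
  have h1 : Nat.card (syl r U) = Nat.card ((default : Sylow r U) : Subgroup U) :=
    Nat.card_congr (((default : Sylow r U) : Subgroup U).equivMapOfInjective U.subtype
      U.subtype_injective).symm.toEquiv
  rw [h1]
  exact (default : Sylow r U).card_eq_multiplicity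

theorem normal_syl (h : Group.IsNilpotent U) (P : Sylow r U) : (P : Subgroup U).Normal :=
  (Group.isNilpotent_of_finite_tfae.out 0 3 rfl rfl).1 h r inferInstance P

theorem mem_syl (h : Group.IsNilpotent U) {u : G} (hu : u ∈ U) {k : ℕ} (hk : u ^ r ^ k = 1) :
    u ∈ syl r U := by
  have h1 : IsPGroup r (Subgroup.zpowers (⟨u, hu⟩ : U)) := by
    rintro ⟨x, n, rfl⟩
    refine ⟨k, Subtype.ext ?_⟩
    have h2 : (⟨u, hu⟩ : U) ^ r ^ k = 1 := Subtype.ext hk
    change (((⟨u, hu⟩ : U) ^ n) ^ r ^ k : U) = 1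
    rw [← zpow_natCast, ← zpow_mul, mul_comm, zpow_mul, zpow_natCast, h2, one_zpow]
  obtain ⟨Q, hQ⟩ := h1.exists_le_sylow
  have := normal_syl h (default : Sylow r U)
  obtain ⟨g, hg⟩ := MulAction.exists_smul_eq U (default : Sylow r U) Q
  rw [Sylow.smul_eq_of_normal] at hg
  rw [← hg] at hQ
  exact ⟨⟨u, hu⟩, hQ (Subgroup.mem_zpowers _), rfl⟩

theorem le_syl (h : Group.IsNilpotent U) {V : Subgroup G} (hV : V ≤ U) (hp : IsPGroup r V) :
    V ≤ syl r U := by
  intro v hv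
  obtain ⟨k, hk⟩ := hp ⟨v, hv⟩
  exact mem_syl h (hV hv) (congrArg Subtype.val hk)

theorem exists_pow {u : G} (hu : u ∈ syl r U) : ∃ k : ℕ, u ^ r ^ k = 1 := by
  obtain ⟨k, hk⟩ := isPGroup_syl (U := U) (r := r) ⟨u, hu⟩
  exact ⟨k, congrArg Subtype.val hk⟩

theorem conj_syl (h : Group.IsNilpotent U) {b : G} (hb : ∀ u ∈ U, b * u * b⁻¹ ∈ U) {u : G}
    (hu : u ∈ syl r U) : b * u * b⁻¹ ∈ syl r U := by
  obtain ⟨k, hk⟩ := exists_pow hu
  refine mem_syl h (hb u (syl_le hu)) (k := k) ?_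
  rw [conj_pow, hk, mul_one, mul_inv_cancel]

theorem comm_syl (h : Group.IsNilpotent U) (hrs : r ≠ s) {x y : G} (hx : x ∈ syl r U)
    (hy : y ∈ syl s U) : x * y = y * x := by
  obtain ⟨x, hx, rfl⟩ := hx
  obtain ⟨y, hy, rfl⟩ := hy
  have h1 := normal_syl h (default : Sylow r U)
  have h2 := normal_syl h (default : Sylow s U)
  have h3 : Disjoint ((default : Sylow r U) : Subgroup U) ((default : Sylow s U) : Subgroup U) :=
    IsPGroup.disjoint_of_ne r s hrs _ _ (default : Sylow r U).isPGroup' (default : Sylow s U).isPGroup'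
  have h4 := Subgroup.commute_of_normal_of_disjoint _ _ h1 h2 h3 x y hx hy
  exact congrArg Subtype.val h4

end syl

/-! ### The largest normal `r`-subgroup of the kernel -/

theorem exists_largest (K : Subgroup G) (r : ℕ) [Fact r.Prime] : ∃ X : Subgroup G, X ≤ K ∧
    (∀ k ∈ K, ∀ x ∈ X, k * x * k⁻¹ ∈ X) ∧ IsPGroup r X ∧ ∀ Y : Subgroup G, Y ≤ K →
    (∀ k ∈ K, ∀ x ∈ Y, k * x * k⁻¹ ∈ Y) → IsPGroup r Y → Y ≤ X := by
  set S : Set (Subgroup G) := {X | X ≤ K ∧ (∀ k ∈ K, ∀ x ∈ X, k * x * k⁻¹ ∈ X) ∧ IsPGroup r X} with hS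
  have hfin : S.Finite := Set.toFinite _
  have hne : S.Nonempty := ⟨⊥, bot_le, by
    intro k _ x hx
    rw [Subgroup.mem_bot] at hx ⊢
    rw [hx, mul_one, mul_inv_cancel], IsPGroup.of_bot⟩
  obtain ⟨X, hX⟩ := hfin.exists_maximal hne
  obtain ⟨⟨h1, h2, h3⟩, hmax⟩ := hX
  refine ⟨X, h1, h2, h3, fun Y hY hYn hYp => ?_⟩
  have h4 : X ⊔ Y ∈ S := by
    refine ⟨sup_le h1 hY, ?_, ?_⟩
    · intro k hk x hx
      have h5 : (X ⊔ Y).map (MulAut.conj k).toMonoidHom ≤ X ⊔ Y := by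
        rw [Subgroup.map_sup]
        refine sup_le_sup ?_ ?_
        · rintro _ ⟨x, hx, rfl⟩
          exact h2 k hk x hx
        · rintro _ ⟨x, hx, rfl⟩
          exact hYn k hk x hx
      exact h5 ⟨x, hx, rfl⟩
    · refine h3.to_sup_of_normal_left' hYp ?_
      intro y hy
      rw [Subgroup.mem_normalizer_iff]
      intro x
      refine ⟨fun hx => h2 y (hY hy) x hx, fun hx => ?_⟩
      have := h2 y⁻¹ (hY (inv_mem hy)) _ hx
      have e : y⁻¹ * (y * x * y⁻¹) * y⁻¹⁻¹ = x := by group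
      rwa [e] at this
  exact le_sup_right.trans (hmax h4 le_sup_left)

section local_

variable {B U P₁ K₁ P₂ K₂ : Subgroup G}

/-- One of the two minimal parabolic subgroups: `K` is the kernel of the action of `P` on `P/B`, which
is primitive of degree `q + 1`; `U` is a group of order `q ε` modulo `K`. -/
structure Side (B U P K : Subgroup G) (q ε : ℕ) : Prop where
  B_le : B ≤ P
  K_le : K ≤ B
  conj : ∀ g ∈ P, ∀ k ∈ K, g * k * g⁻¹ ∈ K
  prim : ∀ N : Subgroup G, N ≤ P → (∀ g ∈ P, ∀ n ∈ N, g * n * g⁻¹ ∈ N) →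
    N ≤ K ∨ ∀ g ∈ P, ∃ n ∈ N, ∃ b ∈ B, g = n * b
  q_gt : 1 < q
  index : K.relIndex U = q * ε
  eps : ε = 1 ∨ (ε = 2 ∧ 4 ∣ q)

/-- `U` is the Fitting subgroup of `B`. -/
structure Fit (B U : Subgroup G) : Prop where
  le : U ≤ B
  conj : ∀ b ∈ B, ∀ u ∈ U, b * u * b⁻¹ ∈ U
  nil : Group.IsNilpotent U
  max : ∀ V : Subgroup G, V ≤ B → (∀ b ∈ B, ∀ v ∈ V, b * v * b⁻¹ ∈ V) → Group.IsNilpotent V → V ≤ U

variable (hU : Fit B U)

include hU in
/-- `U_r ⊓ K` is normal in `P`. -/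
theorem inf_conj {q ε : ℕ} (h : Side B U P₁ K₁ q ε) (r : ℕ) [Fact r.Prime] {g : G} (hg : g ∈ P₁) {x : G}
    (hx : x ∈ syl r U ⊓ K₁) : g * x * g⁻¹ ∈ syl r U ⊓ K₁ := by
  obtain ⟨X, hX1, hX2, hX3, hX4⟩ := exists_largest K₁ r
  have hcon : ∀ g ∈ P₁, ∀ x ∈ X, g * x * g⁻¹ ∈ X := by
    intro g hg x hx
    refine hX4 (X.map (MulAut.conj g).toMonoidHom) ?_ ?_ ?_ ⟨x, hx, rfl⟩
    · rintro _ ⟨x, hx, rfl⟩
      exact h.conj g hg x (hX1 hx)
    · rintro k hk _ ⟨x, hx, rfl⟩
      refine ⟨(g⁻¹ * k * g) * x * (g⁻¹ * k * g)⁻¹, ?_, ?_⟩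
      · refine hX2 _ ?_ x hx
        have := h.conj g⁻¹ (inv_mem hg) k hk
        rwa [inv_inv] at this
      · change g * ((g⁻¹ * k * g) * x * (g⁻¹ * k * g)⁻¹) * g⁻¹ = k * (g * x * g⁻¹) * k⁻¹
        group
    · exact hX3.map _
  have h1 : X ≤ syl r U ⊓ K₁ := by
    refine le_inf (le_syl hU.nil (hU.max X (hX1.trans h.K_le)
      (fun b hb => hcon b (h.B_le hb)) ?_) hX3) hX1
    exact hX3.isNilpotent
  have h2 : syl r U ⊓ K₁ ≤ X := by
    refine hX4 _ inf_le_right ?_ (isPGroup_syl.to_le inf_le_left)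
    intro k hk x hx
    exact ⟨conj_syl hU.nil (hU.conj k (h.K_le hk)) hx.1, K₁.mul_mem (K₁.mul_mem hk hx.2) (K₁.inv_mem hk)⟩
  exact h1 (hcon g hg x (h2 hx))

/-- `E_r = O_r(K₁ ⊓ K₂)`. -/
noncomputable def EE (r : ℕ) [Fact r.Prime] (U K₁ K₂ : Subgroup G) : Subgroup G := syl r U ⊓ K₁ ⊓ K₂

include hU in
theorem EE_conj_B {q₁ ε₁ q₂ ε₂ : ℕ} (h₁ : Side B U P₁ K₁ q₁ ε₁) (h₂ : Side B U P₂ K₂ q₂ ε₂)
    (r : ℕ) [Fact r.Prime] {b : G} (hb : b ∈ B) {x : G} (hx : x ∈ EE r U K₁ K₂) :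
    b * x * b⁻¹ ∈ EE r U K₁ K₂ :=
  ⟨⟨conj_syl hU.nil (hU.conj b hb) hx.1.1, h₁.conj b (h₁.B_le hb) x hx.1.2⟩,
    h₂.conj b (h₂.B_le hb) x hx.2⟩

theorem not_dvd_mul_eps {q ε r : ℕ} (hr : r.Prime) (heps : ε = 1 ∨ (ε = 2 ∧ 4 ∣ q)) (hrq : ¬ r ∣ q) :
    ¬ r ∣ q * ε := by
  intro h
  rcases hr.dvd_mul.1 h with h | h
  · exact hrq h
  · rcases heps with rfl | ⟨rfl, h4⟩
    · exact hr.one_lt.ne' (Nat.dvd_one.1 h)
    · have : r = 2 := (Nat.prime_dvd_prime_iff_eq hr Nat.prime_two).1 h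
      subst this
      exact hrq (dvd_trans (by norm_num) h4)

theorem conj_subgroupOf_normal {K : Subgroup G} (hK : ∀ g ∈ U, ∀ k ∈ K, g * k * g⁻¹ ∈ K) :
    (K.subgroupOf U).Normal := by
  constructor
  rintro ⟨n, hn⟩ hn' ⟨g, hg⟩
  exact hK g hg n hn'

include hU in
/-- If `r` does not divide `q` then `U_r` is trivial on the panel. -/
theorem syl_le_of_not_dvd {q ε : ℕ} (h : Side B U P₁ K₁ q ε) (r : ℕ) [hr : Fact r.Prime] (hrq : ¬ r ∣ q) :
    syl r U ≤ K₁ := by
  intro u hu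
  obtain ⟨k, hk⟩ := exists_pow hu
  have huU := syl_le hu
  have hn : (K₁.subgroupOf U).Normal :=
    conj_subgroupOf_normal fun g hg => h.conj g (h.B_le (hU.le hg))
  have h1 : (⟨u, huU⟩ : U) ^ (q * ε) ∈ K₁.subgroupOf U := by
    rw [← h.index]
    exact Subgroup.pow_index_mem _ _
  have h2 : u ^ (q * ε) ∈ K₁ := h1
  have hcop : Nat.Coprime (r ^ k) (q * ε) :=
    Nat.Coprime.pow_left _ ((Nat.Prime.coprime_iff_not_dvd hr.out).2 (not_dvd_mul_eps hr.out h.eps hrq))
  have h3 : u ∈ Subgroup.zpowers (u ^ (q * ε)) := by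
    have h4 : (orderOf u).Coprime (q * ε) :=
      Nat.Coprime.coprime_dvd_left (orderOf_dvd_of_pow_eq_one hk) hcop
    obtain ⟨n, hn⟩ := exists_pow_eq_self_of_coprime h4.symm
    rw [Subgroup.mem_zpowers_iff]
    exact ⟨n, by rw [zpow_natCast]; exact hn⟩
  exact (Subgroup.zpowers_le.2 h2) h3

/-- If `r` divides `q` then `U_r` is not trivial on the panel. -/
theorem not_syl_le_of_dvd {q ε : ℕ} (h : Side B U P₁ K₁ q ε) (r : ℕ) [hr : Fact r.Prime] (hrq : r ∣ q) :
    ¬ syl r U ≤ K₁ := by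
  intro hle
  have h1 : ((default : Sylow r U) : Subgroup U) ≤ K₁.subgroupOf U := by
    intro u hu
    exact hle ⟨u, hu, rfl⟩
  have h2 := Subgroup.index_dvd_of_le h1
  have h3 : (K₁.subgroupOf U).index = q * ε := h.index
  rw [h3] at h2
  exact (default : Sylow r U).not_dvd_index (dvd_trans (dvd_mul_of_dvd_left hrq ε) h2)

include hU in
/-- If another prime divides `q₁`, then `E_r` is normal in `P₁`. -/
theorem EE_conj_of_dvd {q₁ ε₁ q₂ ε₂ : ℕ} (h₁ : Side B U P₁ K₁ q₁ ε₁) (h₂ : Side B U P₂ K₂ q₂ ε₂)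
    (r s : ℕ) [Fact r.Prime] [Fact s.Prime] (hrs : s ≠ r) (hs : s ∣ q₁) {g : G} (hg : g ∈ P₁) {x : G}
    (hx : x ∈ EE r U K₁ K₂) : g * x * g⁻¹ ∈ EE r U K₁ K₂ := by
  have hC := h₁.prim (P₁ ⊓ Subgroup.centralizer ((syl r U ⊓ K₁ : Subgroup G) : Set G)) inf_le_left ?_
  · rcases hC with hC | hC
    · exfalso
      refine not_syl_le_of_dvd h₁ s hs ((le_inf ?_ ?_).trans hC)
      · exact (syl_le.trans hU.le).trans h₁.B_le
      · intro u hu
        rw [Subgroup.mem_centralizer_iff]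
        intro y hy
        exact (comm_syl hU.nil hrs.symm hy.1 hu)
    · obtain ⟨n, hn, b, hb, rfl⟩ := hC g hg
      have h3 := EE_conj_B hU h₁ h₂ r hb hx
      have h4 := (Subgroup.mem_centralizer_iff.1 hn.2) (b * x * b⁻¹) h3.1
      have h5 : n * b * x * (n * b)⁻¹ = b * x * b⁻¹ := by
        have h6 : n * b * x * (n * b)⁻¹ = n * (b * x * b⁻¹) * n⁻¹ := by group
        rw [h6, ← h4, mul_inv_cancel_right]
      rw [h5]
      exact h3
  · intro g hg n hn
    refine ⟨P₁.mul_mem (P₁.mul_mem hg hn.1) (P₁.inv_mem hg), ?_⟩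
    apply Subgroup.mem_centralizer_iff.2
    intro y hy
    have h3 := inf_conj hU h₁ r (inv_mem hg) hy
    have h4 := (Subgroup.mem_centralizer_iff.1 hn.2) _ h3
    have h5 : y * (g * n * g⁻¹) = g * ((g⁻¹ * y * g⁻¹⁻¹) * n) * g⁻¹ := by group
    have h6 : g * n * g⁻¹ * y = g * (n * (g⁻¹ * y * g⁻¹⁻¹)) * g⁻¹ := by group
    rw [h5, h6, h4]

include hU in
/-- If `r` does not divide `q₂`, then `E_r` is normal in `P₁`. -/
theorem EE_conj_of_not_dvd {q₁ ε₁ q₂ ε₂ : ℕ} (h₁ : Side B U P₁ K₁ q₁ ε₁) (h₂ : Side B U P₂ K₂ q₂ ε₂)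
    (r : ℕ) [Fact r.Prime] (hr : ¬ r ∣ q₂) {g : G} (hg : g ∈ P₁) {x : G}
    (hx : x ∈ EE r U K₁ K₂) : g * x * g⁻¹ ∈ EE r U K₁ K₂ := by
  have h3 := inf_conj hU h₁ r hg hx.1
  exact ⟨h3, syl_le_of_not_dvd hU h₂ r hr h3.1⟩

include hU in
theorem EE_conj {q₁ ε₁ q₂ ε₂ : ℕ} (h₁ : Side B U P₁ K₁ q₁ ε₁) (h₂ : Side B U P₂ K₂ q₂ ε₂)
    (r : ℕ) [Fact r.Prime] (hbad : ¬ ((∀ s : ℕ, s.Prime → s ∣ q₁ → s = r) ∧ r ∣ q₂)) {g : G}
    (hg : g ∈ P₁) {x : G} (hx : x ∈ EE r U K₁ K₂) : g * x * g⁻¹ ∈ EE r U K₁ K₂ := by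
  by_cases hr : r ∣ q₂
  · have h3 : ∃ s : ℕ, s.Prime ∧ s ∣ q₁ ∧ s ≠ r := by
      by_contra hcon
      push Not at hcon
      exact hbad ⟨hcon, hr⟩
    obtain ⟨s, hs, hs1, hs2⟩ := h3
    haveI : Fact s.Prime := ⟨hs⟩
    exact EE_conj_of_dvd hU h₁ h₂ r s hs2 hs1 hg hx
  · exact EE_conj_of_not_dvd hU h₁ h₂ r hr hg hx

theorem EE_comm (r : ℕ) [Fact r.Prime] (U K₁ K₂ : Subgroup G) : EE r U K₁ K₂ = EE r U K₂ K₁ := by
  unfold EE
  rw [inf_assoc, inf_comm K₁ K₂, ← inf_assoc]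

include hU in
theorem EE_eq_bot {q₁ ε₁ q₂ ε₂ : ℕ} (h₁ : Side B U P₁ K₁ q₁ ε₁) (h₂ : Side B U P₂ K₂ q₂ ε₂)
    (hcore : ∀ V : Subgroup G, V ≤ B → (∀ g ∈ P₁, ∀ v ∈ V, g * v * g⁻¹ ∈ V) →
      (∀ g ∈ P₂, ∀ v ∈ V, g * v * g⁻¹ ∈ V) → V = ⊥)
    (r : ℕ) [Fact r.Prime] (hbad₁ : ¬ ((∀ s : ℕ, s.Prime → s ∣ q₁ → s = r) ∧ r ∣ q₂))
    (hbad₂ : ¬ ((∀ s : ℕ, s.Prime → s ∣ q₂ → s = r) ∧ r ∣ q₁)) : EE r U K₁ K₂ = ⊥ := by
  apply hcore
  · exact (inf_le_left.trans inf_le_left).trans (syl_le.trans hU.le)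
  · exact fun g hg v hv => EE_conj hU h₁ h₂ r hbad₁ hg hv
  · intro g hg v hv
    rw [EE_comm] at hv ⊢
    exact EE_conj hU h₂ h₁ r hbad₂ hg hv

include hU in
theorem relIndex_syl_le {q ε : ℕ} (h : Side B U P₁ K₁ q ε) (r : ℕ) [hr : Fact r.Prime] :
    K₁.relIndex (syl r U) ≤ r ^ (q * ε).factorization r := by
  have hn : (K₁.subgroupOf U).Normal :=
    conj_subgroupOf_normal fun g hg => h.conj g (h.B_le (hU.le hg))
  have h1 : K₁.relIndex (syl r U) ∣ q * ε := by
    rw [← Subgroup.relIndex_subgroupOf (H := K₁) (syl_le (U := U) (r := r)), ← h.index]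
    exact Subgroup.relIndex_dvd_index_of_normal _ _
  have h2 : K₁.relIndex (syl r U) ∣ Nat.card (syl r U) := Subgroup.relIndex_dvd_card _ _
  rw [card_syl, Nat.dvd_prime_pow hr.out] at h2
  obtain ⟨k, _, hk⟩ := h2
  have h0 : q * ε ≠ 0 := by
    have h3 := h.q_gt
    rcases h.eps with h4 | h4
    · rw [h4]
      omega
    · rw [h4.1]
      omega
  rw [hk] at h1 ⊢
  exact Nat.pow_le_pow_right hr.out.pos ((hr.out.pow_dvd_iff_le_factorization h0).1 h1)

include hU in
/-- The order of `U_r` if `E_r = 1`. -/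
theorem factorization_le {q₁ ε₁ q₂ ε₂ : ℕ} (h₁ : Side B U P₁ K₁ q₁ ε₁) (h₂ : Side B U P₂ K₂ q₂ ε₂)
    (r : ℕ) [hr : Fact r.Prime] (hE : EE r U K₁ K₂ = ⊥) :
    (Nat.card U).factorization r ≤ (q₁ * ε₁).factorization r + (q₂ * ε₂).factorization r := by
  have h3 : Nat.card (syl r U) ≤ K₁.relIndex (syl r U) * K₂.relIndex (syl r U) := by
    refine le_trans (le_of_eq ?_) (Subgroup.relIndex_inf_le)
    rw [← Subgroup.inf_relIndex_right]
    have h4 : K₁ ⊓ K₂ ⊓ syl r U = ⊥ := by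
      rw [← hE]
      unfold EE
      ac_rfl
    rw [h4, Subgroup.relIndex_bot_left]
  have h5 := h3.trans (Nat.mul_le_mul (relIndex_syl_le hU h₁ r) (relIndex_syl_le hU h₂ r))
  rw [card_syl, ← pow_add] at h5
  exact (Nat.pow_le_pow_iff_right hr.out.one_lt).1 h5

theorem fact_eps {q ε r : ℕ} (hr : r.Prime) (hq : 1 < q) (heps : ε = 1 ∨ (ε = 2 ∧ 4 ∣ q)) :
    (q * ε).factorization r = q.factorization r ∨
      ((q * ε).factorization r = q.factorization r + 1 ∧ r = 2 ∧ 2 ≤ q.factorization r) := by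
  rcases heps with rfl | ⟨rfl, h4⟩
  · left
    rw [mul_one]
  · rw [Nat.factorization_mul (by omega) (by norm_num), Finsupp.add_apply,
      Nat.Prime.factorization Nat.prime_two]
    by_cases h : r = 2
    · right
      subst h
      refine ⟨by simp, rfl, ?_⟩
      have h5 : 2 ^ 2 ∣ q := by
        norm_num
        exact h4
      exact (Nat.prime_two.pow_dvd_iff_le_factorization (by omega)).1 h5
    · left
      rw [Finsupp.single_apply, if_neg (Ne.symm h), add_zero]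

include hU in
/-- The main result: `U` is a `p`-group and both parameters are powers of `p`. -/
theorem main {q₁ ε₁ q₂ ε₂ m N : ℕ} (h₁ : Side B U P₁ K₁ q₁ ε₁) (h₂ : Side B U P₂ K₂ q₂ ε₂)
    (hcore : ∀ V : Subgroup G, V ≤ B → (∀ g ∈ P₁, ∀ v ∈ V, g * v * g⁻¹ ∈ V) →
      (∀ g ∈ P₂, ∀ v ∈ V, g * v * g⁻¹ ∈ V) → V = ⊥)
    (hm : 3 ≤ m) (hodd : Odd m → q₁ = q₂) (hN : N ∣ Nat.card U) (hN2 : N ^ 2 = (q₁ * q₂) ^ m) :
    ∃ p : ℕ, p.Prime ∧ IsPGroup p U ∧ (∃ a, q₁ = p ^ a) ∧ ∃ b, q₂ = p ^ b := by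
  have hq₁ := h₁.q_gt
  have hq₂ := h₂.q_gt
  have hE : ∀ (r : ℕ) [Fact r.Prime], ¬ ((∀ s : ℕ, s.Prime → s ∣ q₁ → s = r) ∧ r ∣ q₂) →
      ¬ ((∀ s : ℕ, s.Prime → s ∣ q₂ → s = r) ∧ r ∣ q₁) → EE r U K₁ K₂ = ⊥ :=
    fun r _ => EE_eq_bot hU h₁ h₂ hcore r
  have hcount : ∀ r : ℕ, r.Prime → ¬ ((∀ s : ℕ, s.Prime → s ∣ q₁ → s = r) ∧ r ∣ q₂) →
      ¬ ((∀ s : ℕ, s.Prime → s ∣ q₂ → s = r) ∧ r ∣ q₁) →
      m * (q₁.factorization r + q₂.factorization r) ≤
        2 * ((q₁ * ε₁).factorization r + (q₂ * ε₂).factorization r) := by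
    intro r hr hb₁ hb₂
    haveI : Fact r.Prime := ⟨hr⟩
    have h3 := factorization_le hU h₁ h₂ r (hE r hb₁ hb₂)
    have h4 : N.factorization r ≤ (Nat.card U).factorization r :=
      (Nat.factorization_le_iff_dvd (by
        rintro rfl
        have : 0 < (q₁ * q₂) ^ m := by positivity
        omega) Nat.card_pos.ne').2 hN r
    have h5 := congrArg (fun n => n.factorization r) hN2
    simp only [Nat.factorization_pow, Finsupp.smul_apply, smul_eq_mul] at h5
    rw [Nat.factorization_mul (by omega) (by omega), Finsupp.add_apply] at h5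
    omega
  have hex : ∃ p : ℕ, p.Prime ∧ (∀ s : ℕ, s.Prime → s ∣ q₁ → s = p) ∧
      (∀ s : ℕ, s.Prime → s ∣ q₂ → s = p) := by
    rcases Nat.even_or_odd m with hev | hod
    · -- m even
      have hm4 : 4 ≤ m := by
        obtain ⟨k, hk⟩ := hev
        omega
      have hallbad : ∀ r : ℕ, r.Prime → (r ∣ q₁ ∨ r ∣ q₂) →
          ((∀ s : ℕ, s.Prime → s ∣ q₁ → s = r) ∧ r ∣ q₂) ∨
          ((∀ s : ℕ, s.Prime → s ∣ q₂ → s = r) ∧ r ∣ q₁) := by
        intro r hr hrd
        by_contra hcon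
        push Not at hcon
        have h3 := hcount r hr (fun h => hcon.1 h.1 h.2) (fun h => hcon.2 h.1 h.2)
        have h4 : 1 ≤ q₁.factorization r + q₂.factorization r := by
          rcases hrd with h | h
          · have := (hr.dvd_iff_one_le_factorization (by omega)).1 h
            omega
          · have := (hr.dvd_iff_one_le_factorization (by omega)).1 h
            omega
        have h5 := fact_eps hr hq₁ h₁.eps
        have h6 := fact_eps hr hq₂ h₂.eps
        have h7 : 4 * (q₁.factorization r + q₂.factorization r) ≤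
            m * (q₁.factorization r + q₂.factorization r) := Nat.mul_le_mul_right _ hm4
        omega
      obtain ⟨r, hr, hr1⟩ := Nat.exists_prime_and_dvd (n := q₁) (by omega)
      obtain ⟨s, hs, hs1⟩ := Nat.exists_prime_and_dvd (n := q₂) (by omega)
      rcases hallbad r hr (Or.inl hr1) with ⟨h3, h4⟩ | ⟨h3, h4⟩
      · refine ⟨r, hr, h3, fun t ht htq => ?_⟩
        rcases hallbad t ht (Or.inr htq) with ⟨h5, _⟩ | ⟨h5, h6⟩
        · exact (h5 r hr hr1).symm
        · exact h3 t ht h6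
      · refine ⟨r, hr, fun t ht htq => ?_, h3⟩
        rcases hallbad t ht (Or.inl htq) with ⟨_, h6⟩ | ⟨h5, h6⟩
        · exact h3 t ht h6
        · have := h5 s hs hs1
          have h7 := h3 s hs hs1
          exact this.symm.trans h7
    · -- m odd
      have hqq := hodd hod
      by_cases hr : ∃ r : ℕ, r.Prime ∧ r ≠ 2 ∧ r ∣ q₁
      · obtain ⟨r, hr, hr2, hrq⟩ := hr
        by_contra hcon
        push Not at hcon
        have hb : ¬ ((∀ s : ℕ, s.Prime → s ∣ q₁ → s = r) ∧ r ∣ q₂) := by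
          rintro ⟨h3, _⟩
          obtain ⟨s, hs, hs1, hs2⟩ := hcon r hr h3
          rw [← hqq] at hs1
          exact hs2 (h3 s hs hs1)
        have hb' : ¬ ((∀ s : ℕ, s.Prime → s ∣ q₂ → s = r) ∧ r ∣ q₁) := by
          rintro ⟨h3, _⟩
          rw [← hqq] at h3
          obtain ⟨s, hs, hs1, hs2⟩ := hcon r hr h3
          rw [← hqq] at hs1
          exact hs2 (h3 s hs hs1)
        have h3 := hcount r hr hb hb'
        have h5 := fact_eps hr hq₁ h₁.eps
        have h6 := fact_eps hr hq₂ h₂.eps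
        have h4 := (hr.dvd_iff_one_le_factorization (by omega)).1 hrq
        have h7 : 3 * (q₁.factorization r + q₂.factorization r) ≤
            m * (q₁.factorization r + q₂.factorization r) := Nat.mul_le_mul_right _ hm
        omega
      · push Not at hr
        have h3 : ∀ s : ℕ, s.Prime → s ∣ q₁ → s = 2 := by
          intro s hs hsq
          by_contra hne
          exact hr s hs hne hsq
        exact ⟨2, Nat.prime_two, h3, hqq ▸ h3⟩
  obtain ⟨p, hp, hp₁, hp₂⟩ := hex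
  refine ⟨p, hp, ?_, ⟨_, Nat.eq_prime_pow_of_unique_prime_dvd (by omega) (fun {d} hd hdq => hp₁ d hd hdq)⟩,
    ⟨_, Nat.eq_prime_pow_of_unique_prime_dvd (by omega) (fun {d} hd hdq => hp₂ d hd hdq)⟩⟩
  apply IsPGroup.of_card (n := (Nat.card U).primeFactorsList.length)
  refine Nat.eq_prime_pow_of_unique_prime_dvd Nat.card_pos.ne' (fun {s} hs hsU => ?_)
  by_contra hne
  haveI : Fact s.Prime := ⟨hs⟩
  have hs₁ : ¬ s ∣ q₁ := fun h => hne (hp₁ s hs h)
  have hs₂ : ¬ s ∣ q₂ := fun h => hne (hp₂ s hs h)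
  have h3 := hE s (fun h => hs₂ h.2) (fun h => hs₁ h.2)
  have h4 : syl s U = ⊥ := by
    rw [← h3]
    unfold EE
    rw [inf_assoc, left_eq_inf]
    exact le_inf (syl_le_of_not_dvd hU h₁ s hs₁) (syl_le_of_not_dvd hU h₂ s hs₂)
  have h5 := card_syl (U := U) (r := s)
  rw [h4, Subgroup.card_bot] at h5
  have h6 := (hs.dvd_iff_one_le_factorization Nat.card_pos.ne').1 hsU
  have h7 : 1 < s ^ (Nat.card U).factorization s := Nat.one_lt_pow (by omega) hs.one_lt
  omega

end local_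

end Cfsg.Agent.SplitTwo.PGroup168
end

-- part: SplitTwo/Eps168
section
/-!
Consequences of the rank one fact `RankOneR` used in part [N] of S1144: the order of the nilpotent normal
subgroup `M` of the point stabiliser is `q` or `2 q` (`q + 1` the degree), in the second case `4 ∣ q`, and if
moreover `M` is a `2`-group, then the degree is `9`.
-/

set_option autoImplicit false
set_option linter.unusedSectionVars false

namespace Cfsg.Agent.SplitTwo.Eps168

universe u

open Cfsg.Agent.SplitTwo.Reducible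

/-- The data of `RankOneR`. -/
structure Data {Ω : Type u} (R M : Subgroup (Equiv.Perm Ω)) (a : Ω) : Prop where
  two : ∀ x y x' y' : Ω, x ≠ y → x' ≠ y' → ∃ g ∈ R, g x = x' ∧ g y = y'
  le : M ≤ R
  fix : ∀ m ∈ M, m a = a
  norm : ∀ r ∈ R, r a = a → ∀ m ∈ M, r * m * r⁻¹ ∈ M
  nil : Group.IsNilpotent M
  trans : ∀ x y : Ω, x ≠ a → y ≠ a → ∃ m ∈ M, m x = y

/-- A regular normal abelian subgroup. -/
structure Aff {Ω : Type u} (R A : Subgroup (Equiv.Perm Ω)) : Prop where
  le : A ≤ R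
  norm : ∀ r ∈ R, ∀ x ∈ A, r * x * r⁻¹ ∈ A
  comm : ∀ x ∈ A, ∀ y ∈ A, x * y = y * x
  trans : ∀ x y : Ω, ∃ g ∈ A, g x = y

section

variable {Ω : Type u} {R M A : Subgroup (Equiv.Perm Ω)} {a b : Ω}

theorem Data.unique (hR : RankOneR.{u}) [Finite Ω] (D : Data R M a) (hb : b ≠ a) :
    ∀ m ∈ M, ∀ m' ∈ M, m b = b → m' b = b → m ≠ 1 → m' ≠ 1 → m = m' :=
  (hR Ω R M a b hb D.two D.le D.fix D.norm D.nil D.trans).1

theorem Data.aff (hR : RankOneR.{u}) [Finite Ω] (D : Data R M a) (hb : b ≠ a)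
    (h : ∃ m ∈ M, m b = b ∧ m ≠ 1) : ∃ A, Aff R A := by
  obtain ⟨A, h1, h2, h3, h4⟩ := (hR Ω R M a b hb D.two D.le D.fix D.norm D.nil D.trans).2 h
  exact ⟨A, h1, h2, h3, h4⟩

theorem Aff.free (hA : Aff R A) {x : Equiv.Perm Ω} (hx : x ∈ A) {c : Ω} (hc : x c = c) : x = 1 := by
  ext y
  obtain ⟨g, hg, rfl⟩ := hA.trans c y
  rw [Equiv.Perm.one_apply, ← Equiv.Perm.mul_apply, hA.comm x hx g hg, Equiv.Perm.mul_apply, hc]

/-- `A` is in bijection with `Ω`. -/
noncomputable def Aff.equiv (hA : Aff R A) (a : Ω) : A ≃ Ω :=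
  Equiv.ofBijective (fun x => (x : Equiv.Perm Ω) a)
    ⟨by
      intro x y hxy
      have h1 : ((x⁻¹ * y : A) : Equiv.Perm Ω) a = a := by
        change (x : Equiv.Perm Ω)⁻¹ ((y : Equiv.Perm Ω) a) = a
        rw [← show (x : Equiv.Perm Ω) a = (y : Equiv.Perm Ω) a from hxy]
        exact Equiv.Perm.inv_eq_iff_eq.2 rfl
      have h2 := hA.free (x⁻¹ * y : A).2 h1
      have h3 : x⁻¹ * y = 1 := Subtype.ext h2
      exact inv_mul_eq_one.1 h3,
    by
      intro y
      obtain ⟨g, hg, hgy⟩ := hA.trans a y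
      exact ⟨⟨g, hg⟩, hgy⟩⟩

theorem Aff.equiv_apply (hA : Aff R A) (a : Ω) (x : A) : hA.equiv a x = (x : Equiv.Perm Ω) a := rfl

/-- The centraliser of `t` in `A`. -/
def cen (A : Subgroup (Equiv.Perm Ω)) (t : Equiv.Perm Ω) : Subgroup A where
  carrier := {x | t * x = x * t}
  mul_mem' := by
    intro x y hx hy
    change t * (x * y) = x * y * t
    rw [← mul_assoc, show t * x = x * t from hx, mul_assoc, show t * y = y * t from hy, mul_assoc]
  one_mem' := by
    change t * 1 = 1 * t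
    rw [mul_one, one_mul]
  inv_mem' := by
    intro x hx
    change t * (x : Equiv.Perm Ω)⁻¹ = (x : Equiv.Perm Ω)⁻¹ * t
    exact (Commute.inv_right (show Commute t (x : Equiv.Perm Ω) from hx)).eq

theorem mem_cen {t : Equiv.Perm Ω} {x : A} : x ∈ cen A t ↔ t * x = x * t := Iff.rfl

theorem Aff.mem_cen_iff (hA : Aff R A) {t : Equiv.Perm Ω} (ht : t ∈ R) (hta : t a = a) (x : A) :
    x ∈ cen A t ↔ t (hA.equiv a x) = hA.equiv a x := by
  rw [hA.equiv_apply, mem_cen]
  constructor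
  · intro h
    rw [← Equiv.Perm.mul_apply, h, Equiv.Perm.mul_apply, hta]
  · intro h
    have h1 : ((x : Equiv.Perm Ω)⁻¹ * (t * x * t⁻¹)) a = a := by
      rw [Equiv.Perm.mul_apply, Equiv.Perm.mul_apply, Equiv.Perm.mul_apply]
      have h2 : t⁻¹ a = a := by rw [Equiv.Perm.inv_eq_iff_eq, hta]
      rw [h2, h]
      exact Equiv.Perm.inv_eq_iff_eq.2 rfl
    have h3 := hA.free (mul_mem (inv_mem x.2) (hA.norm t ht x x.2)) h1
    rw [inv_mul_eq_one, eq_mul_inv_iff_mul_eq] at h3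
    exact h3.symm

theorem Aff.card_fix (hA : Aff R A) {t : Equiv.Perm Ω} (ht : t ∈ R) (hta : t a = a) :
    Nat.card (cen A t) = Nat.card {x // t x = x} := by
  refine Nat.card_congr ((hA.equiv a).subtypeEquiv fun x => ?_)
  exact hA.mem_cen_iff ht hta x

theorem Aff.card_eq (hA : Aff R A) (a : Ω) : Nat.card A = Nat.card Ω := Nat.card_congr (hA.equiv a)

/-- The number of fixed points divides the degree. -/
theorem Aff.card_mul_index (hA : Aff R A) {t : Equiv.Perm Ω} (ht : t ∈ R) (hta : t a = a) :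
    Nat.card {x // t x = x} * (cen A t).index = Nat.card Ω := by
  rw [← hA.card_fix ht hta, ← hA.card_eq a]
  exact Subgroup.card_mul_index _

theorem Aff.cen_ne_top (hA : Aff R A) {t : Equiv.Perm Ω} (ht : t ∈ R) (hta : t a = a) (ht1 : t ≠ 1) :
    cen A t ≠ ⊤ := by
  intro h
  apply ht1
  ext y
  have h1 := (hA.mem_cen_iff ht hta ((hA.equiv a).symm y)).1 (by rw [h]; trivial)
  rw [Equiv.apply_symm_apply] at h1
  exact h1

variable [Finite Ω]

theorem Aff.fix_le (hA : Aff R A) {t : Equiv.Perm Ω} (ht : t ∈ R) (hta : t a = a) (ht1 : t ≠ 1)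
    (hodd : Odd (Nat.card Ω)) : 3 * Nat.card {x // t x = x} ≤ Nat.card Ω := by
  have h1 := hA.card_mul_index ht hta
  have h2 : (cen A t).index ≠ 1 := fun h => hA.cen_ne_top ht hta ht1 (Subgroup.index_eq_one.1 h)
  have h3 : Odd (cen A t).index := by
    rw [← h1] at hodd
    exact (Nat.odd_mul.1 hodd).2
  obtain ⟨k, hk⟩ := h3
  have h4 : 3 ≤ (cen A t).index := by omega
  calc 3 * Nat.card {x // t x = x} ≤ (cen A t).index * Nat.card {x // t x = x} :=
        Nat.mul_le_mul_right _ h4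
    _ = Nat.card Ω := by rw [mul_comm]; exact h1

/-- The stabiliser of `b` in `M`. -/
theorem Data.card_eq (D : Data R M a) (hb : b ≠ a) :
    Nat.card M = (Nat.card Ω - 1) * Nat.card (MulAction.stabilizer M b) := by
  have h1 := MulAction.index_stabilizer M b
  have h2 : MulAction.orbit M b = {a}ᶜ := by
    ext x
    rw [MulAction.mem_orbit_iff, Set.mem_compl_iff, Set.mem_singleton_iff]
    constructor
    · rintro ⟨m, rfl⟩ h
      apply hb
      have h3 : (m : Equiv.Perm Ω) b = (m : Equiv.Perm Ω) a := h.trans (D.fix m m.2).symm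
      exact (m : Equiv.Perm Ω).injective h3
    · intro hx
      obtain ⟨m, hm, hmx⟩ := D.trans b x hb hx
      exact ⟨⟨m, hm⟩, hmx⟩
  rw [h2, Set.ncard_compl, Set.ncard_singleton] at h1
  rw [← h1, mul_comm]
  exact (Subgroup.card_mul_index _).symm

theorem mem_stab {m : M} : m ∈ MulAction.stabilizer M b ↔ (m : Equiv.Perm Ω) b = b := Iff.rfl

/-- The order of the stabiliser of `b` in `M` is one or two. -/
theorem Data.card_stab (hR : RankOneR.{u}) (D : Data R M a) (hb : b ≠ a) :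
    Nat.card (MulAction.stabilizer M b) = 1 ∨
      (Nat.card (MulAction.stabilizer M b) = 2 ∧ ∃ f ∈ M, f b = b ∧ f ≠ 1 ∧ f * f = 1) := by
  have hu := D.unique hR hb
  by_cases h : ∃ f ∈ M, f b = b ∧ f ≠ 1
  · right
    obtain ⟨f, hf, hfb, hf1⟩ := h
    have hff : f * f = 1 := by
      have h2 : f⁻¹ b = b := by rw [Equiv.Perm.inv_eq_iff_eq, hfb]
      have h3 := hu f hf f⁻¹ (inv_mem hf) hfb h2 hf1 (inv_ne_one.2 hf1)
      rw [eq_inv_iff_mul_eq_one] at h3
      exact h3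
    refine ⟨?_, f, hf, hfb, hf1, hff⟩
    have h4 : MulAction.stabilizer M b = Subgroup.zpowers (⟨f, hf⟩ : M) := by
      apply le_antisymm
      · intro m hm
        rw [mem_stab] at hm
        by_cases hm1 : (m : Equiv.Perm Ω) = 1
        · have : m = 1 := Subtype.ext hm1
          rw [this]
          exact one_mem _
        · have h5 := hu m m.2 f hf hm hfb hm1 hf1
          have : m = ⟨f, hf⟩ := Subtype.ext h5
          rw [this]
          exact Subgroup.mem_zpowers _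
      · rw [Subgroup.zpowers_le, mem_stab]
        exact hfb
    rw [h4, Nat.card_zpowers]
    apply orderOf_eq_prime
    · rw [pow_two]
      exact Subtype.ext hff
    · intro h
      exact hf1 (congrArg Subtype.val h)
  · left
    push Not at h
    rw [Subgroup.card_eq_one, Subgroup.eq_bot_iff_forall]
    intro m hm
    exact Subtype.ext (h m m.2 hm)

/-- In a nilpotent subgroup, a Sylow 2-subgroup contains all involutions. -/
theorem invol_mem {f : M} (hf : f * f = 1) (hnil : Group.IsNilpotent M) (E : Sylow 2 M) : f ∈ E := by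
  have h1 : IsPGroup 2 (Subgroup.zpowers f) := by
    rintro ⟨x, n, rfl⟩
    refine ⟨1, Subtype.ext ?_⟩
    have h2 : f ^ 2 = 1 := by rw [pow_two, hf]
    change (f ^ n) ^ (2 ^ 1) = 1
    rw [pow_one, ← zpow_natCast, ← zpow_mul, mul_comm, zpow_mul, zpow_natCast, h2, one_zpow]
  obtain ⟨Q, hQ⟩ := h1.exists_le_sylow
  have hn : (E : Subgroup M).Normal :=
    (Group.isNilpotent_of_finite_tfae.out 0 3 rfl rfl).1 hnil 2 inferInstance E
  obtain ⟨g, hg⟩ := MulAction.exists_smul_eq M E Q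
  rw [Sylow.smul_eq_of_normal] at hg
  rw [← hg] at hQ
  exact hQ (Subgroup.mem_zpowers _)

theorem Data.eps (hR : RankOneR.{u}) (D : Data R M a) (hb : b ≠ a) :
    ∃ ε, Nat.card M = (Nat.card Ω - 1) * ε ∧ (ε = 1 ∨ (ε = 2 ∧ 4 ∣ Nat.card Ω - 1)) := by
  classical
  refine ⟨_, D.card_eq hb, ?_⟩
  rcases D.card_stab hR hb with h | ⟨h, f, hf, hfb, hf1, hff⟩
  · exact Or.inl h
  right
  refine ⟨h, ?_⟩
  obtain ⟨A, hA⟩ := D.aff hR hb ⟨f, hf, hfb, hf1⟩
  have hcard := D.card_eq hb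
  rw [h] at hcard
  by_contra h4
  set q := Nat.card Ω - 1 with hq
  set E : Sylow 2 M := default with hE
  have hEn : (E : Subgroup M).Normal :=
    (Group.isNilpotent_of_finite_tfae.out 0 3 rfl rfl).1 D.nil 2 inferInstance E
  have hfE : (⟨f, hf⟩ : M) ∈ E := invol_mem (Subtype.ext hff) D.nil E
  -- every point is fixed by a nontrivial element of `E`
  have hcov : ∀ x : Ω, x ≠ a → ∃ e : E, (e : M) ≠ 1 ∧ ((e : M) : Equiv.Perm Ω) x = x := by
    intro x hx
    obtain ⟨m, hm, hmx⟩ := D.trans b x hb hx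
    refine ⟨⟨@HMul.hMul _ _ _ instHMul (@HMul.hMul _ _ _ instHMul ⟨m, hm⟩ ⟨f, hf⟩) ⟨m, hm⟩⁻¹, hEn.conj_mem _ hfE _⟩, ?_, ?_⟩
    · intro h1
      have h2 : (⟨m, hm⟩ * ⟨f, hf⟩ * ⟨m, hm⟩⁻¹ : M) = 1 := h1
      rw [conj_eq_one_iff] at h2
      exact hf1 (congrArg Subtype.val h2)
    · change (m * f * m⁻¹) x = x
      rw [Equiv.Perm.mul_apply, Equiv.Perm.mul_apply]
      have h2 : m⁻¹ x = b := by rw [Equiv.Perm.inv_eq_iff_eq, hmx]
      rw [h2, hfb, hmx]
  have hcE : Nat.card E = 2 ^ (Nat.card M).factorization 2 := E.card_eq_multiplicity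
  have hΩ : 2 ≤ Nat.card Ω := by
    have := Fintype.ofFinite Ω
    rw [Nat.card_eq_fintype_card]
    exact Fintype.one_lt_card_iff.2 ⟨b, a, hb⟩
  have hq0 : q ≠ 0 := by omega
  have hfac : (Nat.card M).factorization 2 = q.factorization 2 + 1 := by
    rw [hcard, Nat.factorization_mul hq0 (by norm_num), Finsupp.add_apply,
      Nat.Prime.factorization Nat.prime_two]
    simp
  have hf2 : q.factorization 2 < 2 := by
    by_contra hcon
    apply h4
    have := (Nat.prime_two.pow_dvd_iff_le_factorization hq0 (k := 2)).2 (by omega)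
    norm_num at this
    exact this
  -- the count
  have hFint := Fintype.ofFinite Ω
  have hFE := Fintype.ofFinite E
  set E' : Finset E := Finset.univ.filter (fun e => (e : M) ≠ 1) with hE'
  have hE'c : E'.card + 1 = Nat.card E := by
    rw [Nat.card_eq_fintype_card, ← Finset.card_univ]
    have h1 : E' = Finset.univ.erase (1 : E) := by
      ext e
      rw [hE', Finset.mem_filter, Finset.mem_erase]
      constructor
      · rintro ⟨_, h2⟩
        exact ⟨fun h3 => h2 (by rw [h3]; rfl), Finset.mem_univ _⟩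
      · rintro ⟨h2, _⟩
        exact ⟨Finset.mem_univ _, fun h3 => h2 (Subtype.ext h3)⟩
    rw [h1, Finset.card_erase_add_one (Finset.mem_univ _)]
  have hsub : (Finset.univ.erase a : Finset Ω) ⊆
      E'.biUnion (fun e => (Finset.univ.filter (fun x => ((e : M) : Equiv.Perm Ω) x = x)).erase a) := by
    intro x hx
    have hxa := Finset.ne_of_mem_erase hx
    obtain ⟨e, he1, he2⟩ := hcov x hxa
    rw [Finset.mem_biUnion]
    exact ⟨e, Finset.mem_filter.2 ⟨Finset.mem_univ _, he1⟩,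
      Finset.mem_erase.2 ⟨hxa, Finset.mem_filter.2 ⟨Finset.mem_univ _, he2⟩⟩⟩
  have hle := (Finset.card_le_card hsub).trans Finset.card_biUnion_le
  rw [Finset.card_erase_of_mem (Finset.mem_univ _), Finset.card_univ, ← Nat.card_eq_fintype_card,
    ← hq] at hle
  have hfixc : ∀ e ∈ E', ((Finset.univ.filter
      (fun x => ((e : M) : Equiv.Perm Ω) x = x)).erase a).card + 1 =
      Nat.card {x // ((e : M) : Equiv.Perm Ω) x = x} := by
    intro e _
    have hm : a ∈ (Finset.univ.filter (fun x => ((e : M) : Equiv.Perm Ω) x = x)) :=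
      Finset.mem_filter.2 ⟨Finset.mem_univ _, D.fix _ (e : M).2⟩
    rw [Finset.card_erase_add_one hm, Nat.card_eq_fintype_card, Fintype.card_subtype]
  rcases Nat.even_or_odd q with hev | hod
  · -- `q` even
    have hodd : Odd (Nat.card Ω) := by
      obtain ⟨k, hk⟩ := hev
      exact ⟨k, by (clear * - hΩ hk; omega)⟩
    have hE4 : E'.card ≤ 3 := by
      have h1 : (Nat.card M).factorization 2 ≤ 2 := by omega
      have h2 : Nat.card E ≤ 2 ^ 2 := by
        rw [hcE]
        exact Nat.pow_le_pow_right (by norm_num) h1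
      omega
    have hb3 : ∀ e ∈ E', 3 * ((Finset.univ.filter
        (fun x => ((e : M) : Equiv.Perm Ω) x = x)).erase a).card + 3 ≤ q + 1 := by
      intro e he
      have h1 := hA.fix_le (D.le (e : M).2) (D.fix _ (e : M).2)
        (fun h2 => (Finset.mem_filter.1 he).2 (Subtype.ext h2)) hodd
      have h2 := hfixc e he
      omega
    have h5 : ∑ e ∈ E', ((Finset.univ.filter
        (fun x => ((e : M) : Equiv.Perm Ω) x = x)).erase a).card * 3 ≤ ∑ e ∈ E', (q - 2) := by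
      apply Finset.sum_le_sum
      intro e he
      have := hb3 e he
      omega
    rw [← Finset.sum_mul, Finset.sum_const, smul_eq_mul] at h5
    have h6 : E'.card * (q - 2) ≤ 3 * (q - 2) := Nat.mul_le_mul_right _ hE4
    (clear * - h4 hle h5 h6; omega)
  · -- `q` odd
    have h1 : q.factorization 2 = 0 := by
      rw [Nat.factorization_eq_zero_iff]
      right; left
      intro h2
      obtain ⟨k, hk⟩ := h2
      obtain ⟨j, hj⟩ := hod
      omega
    rw [hfac, h1, zero_add, pow_one] at hcE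
    have hE1 : E'.card = 1 := by omega
    obtain ⟨e, he⟩ := Finset.card_eq_one.1 hE1
    rw [he, Finset.sum_singleton] at hle
    have he' : e ∈ E' := by rw [he]; exact Finset.mem_singleton_self _
    have h2 := hfixc e he'
    have h3 := hA.card_mul_index (D.le (e : M).2) (D.fix _ (e : M).2)
    have h4 : (cen A ((e : M) : Equiv.Perm Ω)).index ≠ 1 := fun h =>
      hA.cen_ne_top (D.le (e : M).2) (D.fix _ (e : M).2)
        (fun h5 => (Finset.mem_filter.1 he').2 (Subtype.ext h5)) (Subgroup.index_eq_one.1 h)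
    have h5 : (cen A ((e : M) : Equiv.Perm Ω)).index ≠ 0 := Subgroup.index_ne_zero_of_finite
    have h6 : Nat.card {x // ((e : M) : Equiv.Perm Ω) x = x} * 2 ≤ Nat.card Ω := by
      rw [← h3]
      exact Nat.mul_le_mul_left _ (by omega)
    omega

theorem two_powers {f₀ i j : ℕ} (h1 : f₀ - 1 = 2 ^ i) (h2 : f₀ + 1 = 2 ^ j) (h3 : Odd f₀) : f₀ = 3 := by
  obtain ⟨k, hk⟩ := h3
  have hi : 0 < 2 ^ i := by positivity
  rcases i with _ | _ | i
  · rw [pow_zero] at h1
    omega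
  · omega
  · rcases j with _ | _ | j
    · omega
    · omega
    · rw [pow_succ, pow_succ] at h1 h2
      omega

/-- If `M` is a `2`-group and not regular, then the degree is nine. -/
theorem Data.nine (hR : RankOneR.{u}) (D : Data R M a) (hb : b ≠ a) (hM : IsPGroup 2 M)
    {f : Equiv.Perm Ω} (hf : f ∈ M) (hfb : f b = b) (hf1 : f ≠ 1) :
    Nat.card Ω = 9 ∧ Nat.card M = 16 ∧ Nat.card {x // f x = x} = 3 ∧ f * f = 1 ∧
      ∃ z ∈ M, z ≠ 1 ∧ z * z = 1 ∧ (∀ m ∈ M, z * m = m * z) ∧ ∃ A, Aff R A ∧ ∀ x ∈ A, z * x * z⁻¹ = x⁻¹ := by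
  classical
  have huniq : ∀ x, x ≠ a → ∀ m ∈ M, ∀ m' ∈ M, m x = x → m' x = x → m ≠ 1 → m' ≠ 1 → m = m' :=
    fun x hx => D.unique hR hx
  have hcard := D.card_eq hb
  obtain ⟨hst, hff⟩ : Nat.card (MulAction.stabilizer M b) = 2 ∧ f * f = 1 := by
    rcases D.card_stab hR hb with h | ⟨h, g, hg, hgb, hg1, hgg⟩
    · exfalso
      rw [Subgroup.card_eq_one, Subgroup.eq_bot_iff_forall] at h
      exact hf1 (congrArg Subtype.val (h ⟨f, hf⟩ hfb))
    · rw [huniq b hb f hf g hg hfb hgb hf1 hg1]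
      exact ⟨h, hgg⟩
  rw [hst] at hcard
  obtain ⟨A, hA⟩ := D.aff hR hb ⟨f, hf, hfb, hf1⟩
  have hΩ : 2 ≤ Nat.card Ω := by
    have := Fintype.ofFinite Ω
    rw [Nat.card_eq_fintype_card]
    exact Fintype.one_lt_card_iff.2 ⟨b, a, hb⟩
  have hq4 : 4 ∣ Nat.card Ω - 1 := by
    obtain ⟨ε, h1, h2⟩ := D.eps hR hb
    rcases h2 with rfl | ⟨rfl, h2⟩
    · omega
    · exact h2
  have hodd : Odd (Nat.card Ω) := by
    obtain ⟨k, hk⟩ := hq4
    exact ⟨2 * k, by omega⟩
  have hAodd : Odd (Nat.card A) := by rw [hA.card_eq a]; exact hodd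
  -- a central involution
  have hnt : Nontrivial M := ⟨⟨f, hf⟩, 1, fun h => hf1 (congrArg Subtype.val h)⟩
  have hcn : Nontrivial (Subgroup.center M) := hM.center_nontrivial
  have hcp : IsPGroup 2 (Subgroup.center M) := hM.to_subgroup _
  obtain ⟨n, hn⟩ := (IsPGroup.iff_card).1 hcp
  have h2dvd : 2 ∣ Nat.card (Subgroup.center M) := by
    rw [hn]
    rcases n with _ | n
    · rw [pow_zero] at hn
      have := Finite.one_lt_card (α := Subgroup.center M)
      omega
    · exact dvd_pow_self 2 (Nat.succ_ne_zero n)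
  obtain ⟨z, hz⟩ := exists_prime_orderOf_dvd_card' 2 h2dvd
  have hz1 : ((z : M) : Equiv.Perm Ω) ≠ 1 := by
    intro h
    have : z = 1 := Subtype.ext (Subtype.ext h)
    rw [this, orderOf_one] at hz
    omega
  have hzz : ((z : M) : Equiv.Perm Ω) * ((z : M) : Equiv.Perm Ω) = 1 := by
    have h := pow_orderOf_eq_one z
    rw [hz, pow_two] at h
    exact congrArg (fun x : Subgroup.center M => ((x : M) : Equiv.Perm Ω)) h
  have hzc : ∀ m ∈ M, ((z : M) : Equiv.Perm Ω) * m = m * ((z : M) : Equiv.Perm Ω) := by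
    intro m hm
    have h := (Subgroup.mem_center_iff.1 z.2) ⟨m, hm⟩
    exact (congrArg Subtype.val h).symm
  set ζ : Equiv.Perm Ω := ((z : M) : Equiv.Perm Ω) with hζ
  have hζM : ζ ∈ M := (z : M).2
  have hζfree : ∀ x, x ≠ a → ζ x ≠ x := by
    intro x hx hzx
    apply hz1
    ext y
    rw [Equiv.Perm.one_apply]
    by_cases hy : y = a
    · rw [hy, D.fix _ hζM]
    · obtain ⟨m, hm, rfl⟩ := D.trans x y hx hy
      rw [← Equiv.Perm.mul_apply, hzc m hm, Equiv.Perm.mul_apply, hzx]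
  have hinv : ∀ x ∈ A, ζ * x * ζ⁻¹ = x⁻¹ := by
    intro x hx
    have hx' := hA.norm ζ (D.le hζM) x hx
    have hw : x * (ζ * x * ζ⁻¹) ∈ A := mul_mem hx hx'
    have h1 : ζ * (x * (ζ * x * ζ⁻¹)) = (x * (ζ * x * ζ⁻¹)) * ζ := by
      have h2 : ζ * (x * (ζ * x * ζ⁻¹)) = ((ζ * x * ζ⁻¹) * ((ζ * ζ) * x * (ζ * ζ)⁻¹)) * ζ := by
        group
      rw [h2, hzz, one_mul, inv_one, mul_one, hA.comm _ hx' _ hx]
    have h3 : ζ ((x * (ζ * x * ζ⁻¹)) a) = (x * (ζ * x * ζ⁻¹)) a := by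
      rw [← Equiv.Perm.mul_apply, h1, Equiv.Perm.mul_apply, D.fix _ hζM]
    have h4 : (x * (ζ * x * ζ⁻¹)) a = a := by
      by_contra hne
      exact hζfree _ hne h3
    exact eq_inv_of_mul_eq_one_right (hA.free hw h4)
  -- `f ζ` is conjugate to `f`
  set g := f * ζ with hg
  have hgM : g ∈ M := mul_mem hf hζM
  have hg1 : g ≠ 1 := by
    intro h
    have h1 : f = ζ⁻¹ := eq_inv_of_mul_eq_one_left h
    have h2 : ζ⁻¹ b = b := by rw [← h1, hfb]
    rw [Equiv.Perm.inv_eq_iff_eq] at h2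
    exact hζfree b hb h2.symm
  have hcomp : Nat.card (cen A f) * Nat.card (cen A g) = Nat.card A := by
    apply Subgroup.IsComplement'.card_mul_card
    apply Subgroup.isComplement'_of_disjoint_and_mul_eq_univ
    · rw [Subgroup.disjoint_def]
      intro x hx1 hx2
      rw [mem_cen] at hx1 hx2
      have h1 : ζ * (x : Equiv.Perm Ω) = x * ζ := by
        have h2 : f * (ζ * x) = f * (x * ζ) := by
          rw [← mul_assoc, ← mul_assoc, hx1, mul_assoc (x : Equiv.Perm Ω)]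
          exact hx2
        exact mul_left_cancel h2
      have h3 := hinv x x.2
      rw [h1, mul_inv_cancel_right] at h3
      have h4 : (x : Equiv.Perm Ω) * x = 1 := mul_eq_one_iff_eq_inv.2 h3
      have h5 : x ^ 2 = 1 := by
        rw [pow_two]
        exact Subtype.ext h4
      have h6 : orderOf x ∣ 2 := orderOf_dvd_of_pow_eq_one h5
      have h7 : orderOf x ∣ Nat.card A := orderOf_dvd_natCard x
      rcases (Nat.dvd_prime Nat.prime_two).1 h6 with h8 | h8
      · exact orderOf_eq_one_iff.1 h8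
      · exfalso
        rw [h8] at h7
        rw [← Nat.not_even_iff_odd] at hAodd
        exact hAodd (even_iff_two_dvd.2 h7)
    · rw [Set.eq_univ_iff_forall]
      intro α
      -- `α = β ^ 2`
      obtain ⟨k, hk⟩ := hAodd
      set β : A := α ^ (k + 1) with hβ
      have hβα : β * β = α := by
        rw [hβ, ← pow_add]
        have : k + 1 + (k + 1) = Nat.card A + 1 := by omega
        rw [this, pow_succ, pow_card_eq_one', one_mul]
      have hγ : f * (β : Equiv.Perm Ω) * f⁻¹ ∈ A := hA.norm f (D.le hf) β β.2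
      set γ : A := ⟨f * (β : Equiv.Perm Ω) * f⁻¹, hγ⟩ with hγ'
      have hfinv : f⁻¹ = f := (eq_inv_of_mul_eq_one_left hff).symm
      have hζinv : ζ⁻¹ = ζ := (eq_inv_of_mul_eq_one_left hzz).symm
      have hγv : (γ : Equiv.Perm Ω) = f * (β : Equiv.Perm Ω) * f := by
        rw [hγ']
        change f * (β : Equiv.Perm Ω) * f⁻¹ = _
        rw [hfinv]
      have hcβγ : (β : Equiv.Perm Ω) * γ = γ * β := hA.comm _ β.2 _ γ.2
      refine ⟨β * γ, ?_, β * γ⁻¹, ?_, ?_⟩
      · change f * ((β : Equiv.Perm Ω) * γ) = ((β : Equiv.Perm Ω) * γ) * f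
        calc f * ((β : Equiv.Perm Ω) * γ) = (f * β * f) * (β * f) := by rw [hγv]; simp only [mul_assoc]
          _ = (β * γ) * f := by rw [← hγv, ← mul_assoc, hcβγ]
      · change g * ((β : Equiv.Perm Ω) * (γ : Equiv.Perm Ω)⁻¹) = ((β : Equiv.Perm Ω) * (γ : Equiv.Perm Ω)⁻¹) * g
        have hy : ζ * ((β : Equiv.Perm Ω) * (γ : Equiv.Perm Ω)⁻¹) =
            ((β : Equiv.Perm Ω) * (γ : Equiv.Perm Ω)⁻¹)⁻¹ * ζ := by
          have h1 := hinv ((β : Equiv.Perm Ω) * (γ : Equiv.Perm Ω)⁻¹) (mul_mem β.2 (inv_mem γ.2))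
          rw [mul_inv_eq_iff_eq_mul] at h1
          exact h1
        have h2 : f * ((β : Equiv.Perm Ω) * (γ : Equiv.Perm Ω)⁻¹)⁻¹ =
            ((β : Equiv.Perm Ω) * (γ : Equiv.Perm Ω)⁻¹) * f := by
          rw [mul_inv_rev, inv_inv]
          have h3 : f * (γ : Equiv.Perm Ω) = β * f := by
            rw [hγv, ← mul_assoc, ← mul_assoc, hff, one_mul]
          have h4 : f * (β : Equiv.Perm Ω) = γ * f := by
            rw [hγv, mul_assoc, hff, mul_one]
          have h5 : f * (β : Equiv.Perm Ω)⁻¹ = (γ : Equiv.Perm Ω)⁻¹ * f := by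
            rw [eq_inv_mul_iff_mul_eq, ← mul_assoc, ← h4, mul_assoc, mul_inv_cancel, mul_one]
          rw [← mul_assoc, h3, mul_assoc, h5, ← mul_assoc]
        calc g * ((β : Equiv.Perm Ω) * (γ : Equiv.Perm Ω)⁻¹)
            = f * (ζ * ((β : Equiv.Perm Ω) * (γ : Equiv.Perm Ω)⁻¹)) := by rw [hg, mul_assoc]
          _ = (f * ((β : Equiv.Perm Ω) * (γ : Equiv.Perm Ω)⁻¹)⁻¹) * ζ := by rw [hy, mul_assoc]
          _ = _ := by rw [h2, hg, mul_assoc]
      · change β * γ * (β * γ⁻¹) = α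
        have h1 : β * γ = γ * β := Subtype.ext hcβγ
        rw [h1, mul_assoc γ, ← mul_assoc β β, hβα]
        have h2 : γ * (α * γ⁻¹) = α * (γ * γ⁻¹) := by
          rw [← mul_assoc, ← mul_assoc]
          congr 1
          exact Subtype.ext (hA.comm _ γ.2 _ α.2)
        rw [h2, mul_inv_cancel, mul_one]
  have hfR := D.le hf
  have hgR := D.le hgM
  have hfa := D.fix f hf
  have hga := D.fix g hgM
  have hgfix : ∃ x, x ≠ a ∧ g x = x := by
    by_contra hcon
    push Not at hcon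
    have h1 : cen A g = ⊥ := by
      rw [Subgroup.eq_bot_iff_forall]
      intro x hx
      rw [hA.mem_cen_iff hgR hga] at hx
      have h2 : hA.equiv a x = a := by
        by_contra hne
        exact hcon _ hne hx
      exact Subtype.ext (hA.free x.2 h2)
    rw [h1, Subgroup.card_bot, mul_one] at hcomp
    exact hA.cen_ne_top hfR hfa hf1 (Subgroup.eq_top_of_card_eq _ hcomp)
  obtain ⟨x, hxa, hgx⟩ := hgfix
  obtain ⟨m, hm, hmx⟩ := D.trans b x hb hxa
  have hconj : g = m * f * m⁻¹ := by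
    refine huniq x hxa g hgM _ (mul_mem (mul_mem hm hf) (inv_mem hm)) hgx ?_ hg1 ?_
    · rw [Equiv.Perm.mul_apply, Equiv.Perm.mul_apply]
      have h2 : m⁻¹ x = b := by rw [Equiv.Perm.inv_eq_iff_eq, hmx]
      rw [h2, hfb, hmx]
    · rw [Ne, conj_eq_one_iff]
      exact hf1
  have hcfg : Nat.card (cen A g) = Nat.card (cen A f) := by
    rw [hA.card_fix hgR hga, hA.card_fix hfR hfa]
    refine Nat.card_congr (m⁻¹.subtypeEquiv fun y => ?_)
    rw [hconj, Equiv.Perm.mul_apply, Equiv.Perm.mul_apply, eq_comm, ← Equiv.Perm.inv_eq_iff_eq, eq_comm]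
  rw [hcfg, hA.card_eq a] at hcomp
  set f₀ := Nat.card (cen A f) with hf₀
  have hf₀odd : Odd f₀ := by
    rw [← hcomp] at hodd
    exact (Nat.odd_mul.1 hodd).1
  obtain ⟨k, hk⟩ := (IsPGroup.iff_card).1 hM
  have h16 : (f₀ - 1) * (f₀ + 1) * 2 = 2 ^ k := by
    rw [← hk, hcard, ← hcomp]
    congr 1
    rw [mul_comm]
    have := Nat.sq_sub_sq f₀ 1
    rw [← this]
    ring_nf
  have h17 : (f₀ - 1) ∣ 2 ^ k := ⟨(f₀ + 1) * 2, by rw [← h16, mul_assoc]⟩
  have h18 : (f₀ + 1) ∣ 2 ^ k := ⟨(f₀ - 1) * 2, by rw [← h16]; ring⟩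
  obtain ⟨i, _, hi⟩ := (Nat.dvd_prime_pow Nat.prime_two).1 h17
  obtain ⟨j, _, hj⟩ := (Nat.dvd_prime_pow Nat.prime_two).1 h18
  have h3 := two_powers hi hj hf₀odd
  rw [h3] at hcomp hf₀
  refine ⟨by omega, by (clear * - hcard hcomp; omega), ?_, hff, ζ, hζM, hz1, hzz, hzc, A, hA, hinv⟩
  rw [← hA.card_fix hfR hfa, ← hf₀]

end

end Cfsg.Agent.SplitTwo.Eps168
end

-- part: SplitTwo/N168
section
/-!
S1144, [N]: in a rank two building with a split group `G` (`m ≥ 3`) the Fitting subgroups of the chamber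
stabilisers are `p`-groups, one `p` for all chambers, and both parameters are powers of `p`; if the action on
some panel is not regular, then `p = 2` and the panel has nine chambers.
-/

set_option autoImplicit false
set_option linter.unusedSectionVars false

namespace Cfsg.Agent.SplitTwo.N168

open Cfsg Cfsg.Agent.Tits.Core Cfsg.Agent.Tits.OppRes Cfsg.Agent.Tits.Rigid
open Cfsg.Agent.SplitTwo.Reducible Cfsg.Agent.SplitTwo.Glue MulAction
open Cfsg.Agent.SplitTwo.Eps168 Cfsg.Agent.SplitTwo.PGroup168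
open Subgroup

universe u v

section Building

variable {I : Type*} {M : CoxeterMatrix I} {W : Type*} [Group W] {cs : CoxeterSystem M W}
variable {C : Type u} {Δ : Bldg cs C} [F : Cox cs]
variable {G : Type v} [Group G] [MulAction G C]
variable {c : C} {U : Subgroup G} (H : Split Δ c U)

include H

/-! ### One panel -/

/-- The group induced by `U` on the panel of type `s` of `c`. -/
def img (s : I) : Subgroup (Equiv.Perm (Δ.Pan s c)) := (U.subgroupOf (H.panStab s)).map (H.perm s)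

theorem mem_img {s : I} {v : G} (hv : v ∈ U) : H.perm s ⟨v, H.le_panStab s hv⟩ ∈ img H s :=
  ⟨_, hv, rfl⟩

theorem data (s : I) : Data (H.perm s).range (img H s) ⟨c, Or.inl rfl⟩ := by
  have hc : c ∈ Δ.Pan s c := Or.inl rfl
  set f := H.perm s with hf
  refine ⟨?_, ?_, ?_, ?_, ?_, ?_⟩
  · rintro ⟨x, hx⟩ ⟨y, hy⟩ ⟨x', hx'⟩ ⟨y', hy'⟩ hxy hxy'
    have h1 := H.delta_Pan hx hy (fun h => hxy (Subtype.ext h))
    have h2 := H.delta_Pan hx' hy' (fun h => hxy' (Subtype.ext h))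
    obtain ⟨g, hg1, hg2⟩ := H.trans x y x' y' (h1.trans h2.symm)
    have hg : g ∈ H.panStab s := by
      rw [H.mem_panStab, Pan_eq_Res]
      rw [Pan_eq_Res] at hx hx'
      refine delta_mem_of_mem (y := x') hx' ?_
      rw [← hg1, H.iso, Δ.symm c x]
      exact inv_mem hx
    exact ⟨f ⟨g, hg⟩, ⟨_, rfl⟩, Subtype.ext hg1, Subtype.ext hg2⟩
  · rintro _ ⟨v, _, rfl⟩
    exact ⟨v, rfl⟩
  · rintro _ ⟨v, hv, rfl⟩
    exact Subtype.ext (H.fix _ hv)
  · rintro _ ⟨r, rfl⟩ hr _ ⟨v, hv, rfl⟩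
    refine ⟨r * v * r⁻¹, ?_, by rw [map_mul, map_mul, map_inv]⟩
    exact H.normal (r : G) (congrArg Subtype.val hr) _ hv
  · have h1 := H.nilp
    have h2 : Group.IsNilpotent (U.subgroupOf (H.panStab s)) :=
      Group.nilpotent_of_mulEquiv (Subgroup.subgroupOfEquivOfLe (H.le_panStab s)).symm
    exact Group.nilpotent_of_surjective (f.subgroupMap (U.subgroupOf (H.panStab s)))
      (f.subgroupMap_surjective _)
  · rintro ⟨x, hx⟩ ⟨y, hy⟩ hxc hyc
    have h1 := H.delta_Pan hc hx (fun h => hxc (Subtype.ext h.symm))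
    have h2 := H.delta_Pan hc hy (fun h => hyc (Subtype.ext h.symm))
    obtain ⟨v, hv, hvxy⟩ := H.sphere x y (h1.trans h2.symm)
    exact ⟨f ⟨v, H.le_panStab s hv⟩, mem_img H hv, Subtype.ext hvxy⟩

theorem card_img (s : I) : Nat.card (img H s) = (kx Δ G s c).relIndex U := by
  have h1 : (kx Δ G s c).relIndex U =
      (((kx Δ G s c).subgroupOf (H.panStab s)).subgroupOf (U.subgroupOf (H.panStab s))).index := by
    change _ = ((kx Δ G s c).subgroupOf (H.panStab s)).relIndex (U.subgroupOf (H.panStab s))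
    rw [Subgroup.relIndex_subgroupOf (H.le_panStab s)]
  have h2 : ((kx Δ G s c).subgroupOf (H.panStab s)).subgroupOf (U.subgroupOf (H.panStab s)) =
      ((H.perm s).comp (U.subgroupOf (H.panStab s)).subtype).ker := by
    ext x
    rw [MonoidHom.mem_ker, MonoidHom.comp_apply, H.perm_eq_one]
    rfl
  rw [h1, h2, Subgroup.index_ker]
  have h3 : ((H.perm s).comp (U.subgroupOf (H.panStab s)).subtype).range = img H s := by
    rw [MonoidHom.range_comp, Subgroup.range_subtype]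
    rfl
  rw [h3]

theorem exists_ne {s : I} : ∃ b : Δ.Pan s c, b ≠ ⟨c, Or.inl rfl⟩ := by
  obtain ⟨y, _, _, hy, _⟩ := H.thick c s
  refine ⟨⟨y, Or.inr hy⟩, fun h => ?_⟩
  have h1 : y = c := congrArg Subtype.val h
  rw [h1, delta_self] at hy
  have := congrArg cs.length hy
  rw [cs.length_one, cs.length_simple] at this
  omega

theorem two_lt_card [Finite C] (s : I) : 2 < Nat.card (Δ.Pan s c) := by
  obtain ⟨y, z, hyz, hy, hz⟩ := H.thick c s
  have hne : ∀ y, Δ.δ c y = cs.simple s → y ≠ c := by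
    rintro y hy rfl
    rw [delta_self] at hy
    have := congrArg cs.length hy
    rw [cs.length_one, cs.length_simple] at this
    omega
  have h1 : ({c, y, z} : Set C) ⊆ Δ.Pan s c := by
    rintro x (rfl | rfl | rfl)
    · exact Or.inl rfl
    · exact Or.inr hy
    · exact Or.inr hz
  have h2 := Set.ncard_le_ncard h1 (Set.toFinite _)
  rw [Set.ncard_eq_three.2 ⟨c, y, z, (hne y hy).symm, (hne z hz).symm, hyz, rfl⟩] at h2
  rw [Nat.card_coe_set_eq]
  omega

theorem kx_conj {s : I} {g : G} (hg : g ∈ H.panStab s) {k : G} (hk : k ∈ kx Δ G s c) :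
    g * k * g⁻¹ ∈ kx Δ G s c := by
  intro x hx
  rw [mul_smul, mul_smul, hk _ (H.smul_Pan (inv_mem hg) hx), smul_inv_smul]

theorem prim {s : I} (N : Subgroup G) (hN : N ≤ H.panStab s)
    (hNn : ∀ g ∈ H.panStab s, ∀ n ∈ N, g * n * g⁻¹ ∈ N) :
    N ≤ kx Δ G s c ∨ ∀ g ∈ H.panStab s, ∃ n ∈ N, ∃ b ∈ stabilizer G c, g = n * b := by
  by_cases h : N ≤ kx Δ G s c
  · exact Or.inl h
  right
  obtain ⟨n, hn, hnk⟩ := SetLike.not_le_iff_exists.1 h
  have h1 : ∃ x ∈ Δ.Pan s c, n • x ≠ x := by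
    by_contra hcon
    push Not at hcon
    exact hnk hcon
  obtain ⟨x, hx, hnx⟩ := h1
  intro g hg
  by_cases hgc : g • c = c
  · exact ⟨1, one_mem _, g, mem_stabilizer_iff.2 hgc, (one_mul g).symm⟩
  have hnx' : n • x ∈ Δ.Pan s c := H.smul_Pan (hN hn) hx
  have hc : c ∈ Δ.Pan s c := Or.inl rfl
  have h2 := H.delta_Pan hx hnx' (Ne.symm hnx)
  have h3 := H.delta_Pan hc hg (Ne.symm hgc)
  obtain ⟨t, ht1, ht2⟩ := H.trans x (n • x) c (g • c) (h2.trans h3.symm)
  have ht : t ∈ H.panStab s := by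
    rw [H.mem_panStab, Pan_eq_Res]
    rw [Pan_eq_Res] at hx
    change Δ.δ c (t • c) ∈ WJ cs {s}
    have h5 : Δ.δ (t • x) (t • c) = Δ.δ x c := H.iso t x c
    rw [ht1] at h5
    rw [h5, Δ.symm c x]
    exact inv_mem hx
  refine ⟨t * n * t⁻¹, hNn t ht n hn, (t * n * t⁻¹)⁻¹ * g, ?_, by group⟩
  rw [mem_stabilizer_iff, mul_smul, inv_smul_eq_iff, mul_smul, mul_smul, ← ht2]
  congr 2
  rw [eq_inv_smul_iff, ht1]

theorem side (hR : RankOneR.{u}) [Finite C] (s : I) : ∃ ε : ℕ,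
    Side (stabilizer G c) U (H.panStab s) (kx Δ G s c) (Nat.card (Δ.Pan s c) - 1) ε := by
  obtain ⟨b, hb⟩ := exists_ne H (s := s)
  obtain ⟨ε, h1, h2⟩ := (data H s).eps hR hb
  refine ⟨ε, ?_, kx_le s c, fun g hg k hk => kx_conj H hg hk, fun N hN hNn => prim H N hN hNn, ?_, ?_, h2⟩
  · intro g hg
    rw [H.mem_panStab, mem_stabilizer_iff.1 hg]
    exact Or.inl rfl
  · have := two_lt_card H s
    omega
  · rw [← card_img H s, h1]

/-! ### The core -/

theorem exists_mem (N : Subgroup G) (hN : ∀ s, H.panStab s ≤ N) (x : C) : ∃ g ∈ N, g • c = x := by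
  generalize hn : cs.length (Δ.δ c x) = n
  induction n generalizing x with
  | zero =>
    have h1 := cs.length_eq_zero_iff.1 hn
    rw [Δ.eq_one] at h1
    exact ⟨1, one_mem _, by rw [one_smul, h1]⟩
  | succ n ih =>
    have hne : Δ.δ c x ≠ 1 := by
      intro h
      rw [h, cs.length_one] at hn
      omega
    obtain ⟨i, hi⟩ := cs.exists_rightDescent_of_ne_one hne
    have hi' := cs.isRightDescent_iff.1 hi
    obtain ⟨y, hy1, hy2⟩ := Δ.exists_step c x i
    obtain ⟨g, hg, hgy⟩ := ih y (by rw [hy2]; omega)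
    have h3 : Δ.δ c (g⁻¹ • x) = cs.simple i := by
      rw [← H.iso g, smul_inv_smul, hgy, Δ.symm x y, hy1, cs.inv_simple]
    obtain ⟨t, ht, -⟩ := H.trans c c (g⁻¹ • x) (g⁻¹ • x) (by rw [delta_self, delta_self])
    have ht' : t ∈ H.panStab i := by
      rw [H.mem_panStab, ht]
      exact Or.inr h3
    refine ⟨g * t, mul_mem hg (hN i ht'), ?_⟩
    rw [mul_smul, ht, smul_inv_smul]

theorem core [Finite G] (hf : ∀ g : G, (∀ x : C, g • x = x) → g = 1) {a b : I} (hI : ∀ i, i = a ∨ i = b)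
    (V : Subgroup G) (hV : V ≤ stabilizer G c) (ha : ∀ g ∈ H.panStab a, ∀ v ∈ V, g * v * g⁻¹ ∈ V)
    (hb : ∀ g ∈ H.panStab b, ∀ v ∈ V, g * v * g⁻¹ ∈ V) : V = ⊥ := by
  have h1 : ∀ s, H.panStab s ≤ normalizer (V : Set G) := by
    intro s
    rcases hI s with rfl | rfl
    · exact le_normalizer_of G ha
    · exact le_normalizer_of G hb
  rw [eq_bot_iff]
  intro v hv
  rw [Subgroup.mem_bot]
  apply hf
  intro x
  obtain ⟨g, hg, rfl⟩ := exists_mem H _ h1 x
  have h2 : g⁻¹ * v * g⁻¹⁻¹ ∈ V := (mem_normalizer_iff.1 (inv_mem hg) v).1 hv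
  have h3 := mem_stabilizer_iff.1 (hV h2)
  rw [inv_inv, mul_smul, mul_smul, inv_smul_eq_iff] at h3
  exact h3

/-! ### Counting -/

theorem card_Pan [Finite C] (s : I) (x : C) : Nat.card (Δ.Pan s x) = Nat.card (Δ.Pan s c) := by
  obtain ⟨g, rfl, -⟩ := H.trans c c x x (by rw [delta_self, delta_self])
  symm
  refine Nat.card_congr ⟨fun y => ⟨g • (y : C), smul_mem_Pan H.iso y.2⟩,
    fun y => ⟨g⁻¹ • (y : C), ?_⟩, fun y => Subtype.ext (inv_smul_smul _ _),
    fun y => Subtype.ext (smul_inv_smul _ _)⟩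
  have := smul_mem_Pan H.iso (g := g⁻¹) y.2
  rwa [inv_smul_smul] at this

theorem param [Finite C] (s : I) : Δ.Param s (Nat.card (Δ.Pan s c) - 1) := by
  intro x
  rw [card_Pan H s x]
  have := two_lt_card H s
  omega

omit H F in
open DihPath in
theorem card_w [Finite W] {a b : I} (hI : ∀ i, i = a ∨ i = b) {m : ℕ} (hm : M a b = m) {q : I → ℕ}
    (hq : ∀ i, Δ.Param i (q i)) (hq0 : ∀ i, 0 < q i) (c : C) (j : ℕ) (hj : j ≤ m) :
    Nat.card {d // Δ.δ c d = w cs a b j} = ∏ k ∈ Finset.range j, q (ty a b k) := by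
  induction j with
  | zero =>
    have h0 : w cs a b ((0 : ℕ) : ℤ) = 1 := w_zero cs a b
    rw [h0, Tits.Opp.card_sphere_one, Finset.prod_range_zero]
  | succ j ih =>
    have h1 : w cs a b ((j + 1 : ℕ) : ℤ) = w cs a b j * cs.simple (ty a b j) := by
      push_cast
      exact w_succ cs (j : ℤ)
    have h2 := length_w cs hI hm (j := (j : ℤ)) (by simp; omega)
    have h3 := length_w cs hI hm (j := ((j + 1 : ℕ) : ℤ)) (by rw [Int.natAbs_natCast]; exact hj)
    rw [h1, Int.natAbs_natCast] at h3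
    rw [Int.natAbs_natCast] at h2
    rw [h1, Tits.Opp.card_sphere_mul Δ (hq _) (hq0 _) c (by rw [h2, h3]), ih (by omega),
      Finset.prod_range_succ]

omit H F in
open DihPath in
theorem card_opp [Finite W] {a b : I} (hI : ∀ i, i = a ∨ i = b) {m : ℕ} (hm : M a b = m) {q : I → ℕ}
    (hq : ∀ i, Δ.Param i (q i)) (hq0 : ∀ i, 0 < q i) (c : C) :
    Nat.card {d // Δ.δ c d = w0 cs} = ∏ k ∈ Finset.range m, q (ty a b k) := by
  rw [← card_w hI hm hq hq0 c m le_rfl]
  have h1 := w_inv_mul_m cs hI hm 0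
  rw [w_zero, inv_one, one_mul, zero_add] at h1
  rw [h1]

omit H F in
open DihPath in
theorem ty_mul {a b : I} (q : I → ℕ) (k : ℤ) : q (ty a b k) * q (ty b a k) = q a * q b := by
  unfold ty
  split_ifs
  · rfl
  · rw [mul_comm]

omit H F in
open DihPath in
theorem sq_opp [Finite W] {a b : I} (hI : ∀ i, i = a ∨ i = b) {m : ℕ} (hm : M a b = m) {q : I → ℕ}
    (hq : ∀ i, Δ.Param i (q i)) (hq0 : ∀ i, 0 < q i) (c : C) :
    Nat.card {d // Δ.δ c d = w0 cs} ^ 2 = (q a * q b) ^ m := by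
  have h1 := card_opp hI hm hq hq0 c
  have h2 := card_opp (Δ := Δ) (fun i => (hI i).symm) ((M.symmetric b a).trans hm) hq hq0 c
  rw [pow_two]
  conv_lhs =>
    congr
    · rw [h1]
    · rw [h2]
  rw [← Finset.prod_mul_distrib]
  have h3 : ∀ k ∈ Finset.range m, q (ty a b (k : ℤ)) * q (ty b a (k : ℤ)) = q a * q b :=
    fun k _ => ty_mul q (k : ℤ)
  rw [Finset.prod_congr rfl h3, Finset.prod_const, Finset.card_range]

omit H F in
open DihPath in
theorem prod_odd {a b : I} (q : I → ℕ) (l : ℕ) :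
    ∏ k ∈ Finset.range (2 * l + 1), q (ty a b k) = (q a * q b) ^ l * q a := by
  induction l with
  | zero => simp only [ty, _root_.MulZeroClass.mul_zero, _root_.zero_add, _root_.Finset.range_one, _root_.Int.even_coe_nat, _root_.Finset.prod_singleton, _root_.Even.zero, ↓ _root_.reduceIte, _root_.pow_zero, _root_.one_mul]
  | succ l ih =>
    have e : 2 * (l + 1) + 1 = 2 * l + 1 + 1 + 1 := by ring
    rw [e, Finset.prod_range_succ, Finset.prod_range_succ, ih]
    have h1 : ty a b ((2 * l + 1 : ℕ) : ℤ) = b := by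
      rw [ty, if_neg]
      rw [Int.not_even_iff_odd]
      exact ⟨l, by push_cast; ring⟩
    have h2 : ty a b ((2 * l + 1 + 1 : ℕ) : ℤ) = a := by
      rw [ty, if_pos]
      exact ⟨l + 1, by push_cast; ring⟩
    rw [h1, h2]
    ring

omit H F in
theorem eq_of_odd [Finite W] {a b : I} (hI : ∀ i, i = a ∨ i = b) {m : ℕ} (hm : M a b = m) {q : I → ℕ}
    (hq : ∀ i, Δ.Param i (q i)) (hq0 : ∀ i, 0 < q i) (c : C) (hodd : Odd m) : q a = q b := by
  obtain ⟨l, rfl⟩ := hodd
  have h1 := card_opp hI hm hq hq0 c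
  have h2 := card_opp (Δ := Δ) (fun i => (hI i).symm) ((M.symmetric b a).trans hm) hq hq0 c
  rw [prod_odd] at h1 h2
  rw [h1, mul_comm (q b) (q a)] at h2
  have h3 : 0 < (q a * q b) ^ l := by
    have := hq0 a
    have := hq0 b
    positivity
  exact Nat.eq_of_mul_eq_mul_left h3 h2

theorem dvd_card [Finite W] [Finite G] : Nat.card {d // Δ.δ c d = w0 cs} ∣ Nat.card U := by
  obtain ⟨d₀, hd₀⟩ := exists_delta Δ c (w0 cs)
  have h1 : MulAction.orbit U d₀ = {d | Δ.δ c d = w0 cs} := by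
    ext d
    rw [MulAction.mem_orbit_iff]
    constructor
    · rintro ⟨u, rfl⟩
      have h2 : Δ.δ ((u : G) • c) ((u : G) • d₀) = w0 cs := by rw [H.iso, hd₀]
      rw [H.fix _ u.2] at h2
      exact h2
    · intro hd
      obtain ⟨u, hu, hud⟩ := H.sphere d₀ d (hd₀.trans (Eq.symm hd))
      exact ⟨⟨u, hu⟩, hud⟩
  have h2 := MulAction.index_stabilizer U d₀
  rw [h1, ← Nat.card_coe_set_eq] at h2
  have h3 : (MulAction.stabilizer U d₀).index ∣ Nat.card U := Subgroup.index_dvd_card _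
  rw [h2] at h3
  exact h3

end Building

section Main

variable {I : Type*} {M : CoxeterMatrix I} {W : Type*} [Group W] {cs : CoxeterSystem M W}
variable {C : Type u} {Δ : Bldg cs C} [F : Cox cs]
variable {G : Type v} [Group G] [Finite G] [MulAction G C] [Finite W] [Finite C]

/-- [N] at one chamber. -/
theorem one (hR : RankOneR.{u}) {a b : I} (hI : ∀ i, i = a ∨ i = b) (hm : 2 < M a b)
    (hf : ∀ g : G, (∀ x : C, g • x = x) → g = 1) {c : C} (H : Split Δ c (fit G c)) :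
    ∃ p : ℕ, p.Prime ∧ IsPGroup p (fit G c) ∧ (∃ i, Nat.card (Δ.Pan a c) - 1 = p ^ i) ∧
      ∃ i, Nat.card (Δ.Pan b c) - 1 = p ^ i := by
  obtain ⟨εa, ha⟩ := side H hR a
  obtain ⟨εb, hb⟩ := side H hR b
  have hU : Fit (stabilizer G c) (fit G c) := by
    refine ⟨fit_le G c, fun b hb u hu => conj_mem G (le_normalizer_fit G c) hb hu, isNilpotent_fit G c,
      fun V hV hn hnil => le_fit G hV hnil (le_normalizer_of G hn)⟩
  have hq : ∀ i, Δ.Param i (Nat.card (Δ.Pan i c) - 1) := fun i => param H i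
  have hq0 : ∀ i, 0 < Nat.card (Δ.Pan i c) - 1 := by
    intro i
    have := two_lt_card H i
    omega
  exact PGroup168.main (m := M a b) hU ha hb (core H hf hI) hm
    (eq_of_odd (Δ := Δ) hI rfl hq hq0 c) (dvd_card H) (sq_opp (Δ := Δ) hI rfl hq hq0 c)

/-- **[N]**: the Fitting subgroups of the chamber stabilisers are `p`-groups, and the parameters are powers
of `p`. -/
theorem all (hR : RankOneR.{u}) {a b : I} (hI : ∀ i, i = a ∨ i = b) (hm : 2 < M a b)
    (hf : ∀ g : G, (∀ x : C, g • x = x) → g = 1) (H : ∀ c : C, Split Δ c (fit G c)) (c₀ : C) :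
    ∃ p : ℕ, p.Prime ∧ (∀ c : C, IsPGroup p (fit G c)) ∧
      ∀ s, ∃ i, ∀ c : C, Nat.card (Δ.Pan s c) - 1 = p ^ i := by
  obtain ⟨p, hp, h1, h2, h3⟩ := one hR hI hm hf (H c₀)
  refine ⟨p, hp, fun c => ?_, fun s => ?_⟩
  · obtain ⟨g, rfl, -⟩ := (H c₀).trans c₀ c₀ c c (by rw [delta_self, delta_self])
    rw [fit_smul]
    exact h1.map _
  · rcases hI s with rfl | rfl
    · obtain ⟨i, hi⟩ := h2
      exact ⟨i, fun c => by rw [card_Pan (H c₀) _ c, hi]⟩
    · obtain ⟨i, hi⟩ := h3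
      exact ⟨i, fun c => by rw [card_Pan (H c₀) _ c, hi]⟩

omit [Finite W] in
/-- If `p`-groups `fit G c` do not act regularly on some panel, then `p = 2`. -/
theorem two_of_ne (hR : RankOneR.{u}) {p : ℕ} (hp : p.Prime) {c : C} (H : Split Δ c (fit G c))
    (hU : IsPGroup p (fit G c)) {s : I} {b : C} (hb : b ∈ Δ.Pan s c) (hbc : b ≠ c) {v : G}
    (hv : v ∈ fit G c) (hvb : v • b = b) {x : C} (hx : x ∈ Δ.Pan s c) (hvx : v • x ≠ x) : p = 2 := by
  have : Fact p.Prime := ⟨hp⟩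
  have hb' : (⟨b, hb⟩ : Δ.Pan s c) ≠ ⟨c, Or.inl rfl⟩ := fun h => hbc (congrArg Subtype.val h)
  have hv1 : H.perm s ⟨v, H.le_panStab s hv⟩ ≠ 1 := by
    intro h
    rw [H.perm_eq_one] at h
    exact hvx (h x hx)
  have hM : IsPGroup p (img H s) := by
    unfold img
    exact (hU.comap_subtype).map _
  rcases (data H s).card_stab hR hb' with h | ⟨h, -⟩
  · exfalso
    rw [Subgroup.card_eq_one, Subgroup.eq_bot_iff_forall] at h
    exact hv1 (congrArg Subtype.val (h ⟨_, mem_img H hv⟩ (Subtype.ext hvb)))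
  · have h1 : 2 ∣ Nat.card (img H s) := by
      rw [← h]
      exact Subgroup.card_subgroup_dvd_card _
    obtain ⟨n, hn⟩ := (IsPGroup.iff_card).1 hM
    rw [hn] at h1
    exact ((Nat.prime_dvd_prime_iff_eq Nat.prime_two hp).1 (Nat.prime_two.dvd_of_dvd_pow h1)).symm

omit [Finite W] in
/-- If the `2`-groups `fit G c` do not act regularly on the panel of type `s`, then it has nine chambers. -/
theorem nine (hR : RankOneR.{u}) {c : C} (H : Split Δ c (fit G c))
    (hU : IsPGroup 2 (fit G c)) {s : I} {b : C} (hb : b ∈ Δ.Pan s c) (hbc : b ≠ c) {v : G}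
    (hv : v ∈ fit G c) (hvb : v • b = b) {x : C} (hx : x ∈ Δ.Pan s c) (hvx : v • x ≠ x) :
    Nat.card (Δ.Pan s c) = 9 ∧ Nat.card (img H s) = 16 := by
  have hb' : (⟨b, hb⟩ : Δ.Pan s c) ≠ ⟨c, Or.inl rfl⟩ := fun h => hbc (congrArg Subtype.val h)
  have hv1 : H.perm s ⟨v, H.le_panStab s hv⟩ ≠ 1 := by
    intro h
    rw [H.perm_eq_one] at h
    exact hvx (h x hx)
  have hM : IsPGroup 2 (img H s) := by
    unfold img
    exact (hU.comap_subtype).map _
  have h := (data H s).nine hR hb' hM (mem_img H hv) (Subtype.ext hvb) hv1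
  exact ⟨h.1, h.2.1⟩

end Main

end Cfsg.Agent.SplitTwo.N168
end

-- part: SplitTwo/ExcSD
section
/-!
S1144, [N], the exceptional panel: a doubly transitive group `R` with a regular normal abelian subgroup `A`
and a `2`-group `M`, normal in `R_a`, transitive on the other points, with `|M_b| = 2`: there are nine
points, `M = R_a` is semidihedral of order 16.
-/

set_option autoImplicit false
set_option linter.unusedSectionVars false

namespace Cfsg.Agent.SplitTwo.ExcSD

universe u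

/-- In an abelian group of odd order with an involutory endomorphism `φ`,
`|V| = |C_V(φ)| * |[V, φ]|`. -/
theorem card_fix_mul {V : Type*} [CommGroup V] [Finite V] (hodd : Odd (Nat.card V)) (φ : V →* V)
    (hφ : ∀ v, φ (φ v) = v) :
    Nat.card {v // φ v = v} * Nat.card {v // φ v = v⁻¹} = Nat.card V := by
  obtain ⟨k, hk⟩ := hodd
  have hs : ∀ v : V, (v * v) ^ (k + 1) = v := by
    intro v
    rw [← sq, ← pow_mul, show 2 * (k + 1) = Nat.card V + 1 by omega, pow_succ, pow_card_eq_one',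
      one_mul]
  rw [← Nat.card_prod]
  refine Nat.card_congr
    { toFun := fun p => p.1.1 * p.2.1
      invFun := fun v => (⟨(v * φ v) ^ (k + 1), ?_⟩, ⟨(v * (φ v)⁻¹) ^ (k + 1), ?_⟩)
      left_inv := ?_
      right_inv := ?_ }
  · rw [map_pow, map_mul, hφ, mul_comm]
  · rw [map_pow, map_mul, map_inv, hφ, ← inv_pow]
    congr 1
    rw [mul_inv_rev, inv_inv]
  · rintro ⟨⟨p, hp⟩, ⟨q, hq⟩⟩
    refine Prod.ext (Subtype.ext ?_) (Subtype.ext ?_)
    · change (p * q * φ (p * q)) ^ (k + 1) = p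
      rw [map_mul, hp, hq, show p * q * (p * q⁻¹) = p * p by
        rw [mul_assoc, ← mul_assoc q, mul_comm q p, mul_assoc p q, mul_inv_cancel, mul_one], hs]
    · change (p * q * (φ (p * q))⁻¹) ^ (k + 1) = q
      rw [map_mul, hp, hq, mul_inv_rev, inv_inv, show p * q * (q * p⁻¹) = q * q by
        rw [mul_comm p q, mul_assoc, mul_comm q p⁻¹, mul_inv_cancel_left], hs]
  · intro v
    change (v * φ v) ^ (k + 1) * (v * (φ v)⁻¹) ^ (k + 1) = v
    rw [← mul_pow, show v * φ v * (v * (φ v)⁻¹) = v * v by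
      rw [mul_comm v (φ v)⁻¹, mul_assoc, mul_inv_cancel_left], hs]

theorem two_pow_aux {i j s : ℕ} (hi : 1 ≤ i) (hij : i ≤ j)
    (h : (2 ^ i + 1) * (2 ^ j + 1) = 2 ^ s + 1) : i = 1 ∧ j = 1 := by
  obtain ⟨d, rfl⟩ := Nat.exists_eq_add_of_le hij
  have h1 : 2 ^ s = 2 ^ i * (2 ^ (i + d) + 1 + 2 ^ d) := by
    have e : (2 ^ i + 1) * (2 ^ (i + d) + 1) = 2 ^ i * (2 ^ (i + d) + 1 + 2 ^ d) + 1 := by
      ring
    rw [e] at h
    omega
  have h2 : i ≤ s := by
    by_contra hlt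
    push Not at hlt
    have h3 : 2 ^ s < 2 ^ i := Nat.pow_lt_pow_right (by norm_num) hlt
    have h4 : 2 ^ i ≤ 2 ^ i * (2 ^ (i + d) + 1 + 2 ^ d) := Nat.le_mul_of_pos_right _ (by positivity)
    omega
  obtain ⟨r, rfl⟩ := Nat.exists_eq_add_of_le h2
  rw [pow_add 2 i r] at h1
  have h3 : 2 ^ r = 2 ^ (i + d) + 1 + 2 ^ d := Nat.eq_of_mul_eq_mul_left (by positivity) h1
  have hi2 : 2 ^ (i + d) = 2 * 2 ^ (i + d - 1) := by
    rw [← pow_succ']
    congr 1
    omega
  rcases Nat.eq_zero_or_pos d with hd | hd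
  · subst hd
    rw [pow_zero, add_zero] at h3
    rw [add_zero] at hi2
    have h5 : 2 ^ r = 2 * (2 ^ (i - 1) + 1) := by omega
    have hr : 1 ≤ r := by
      rcases Nat.eq_zero_or_pos r with hr | hr
      · rw [hr, pow_zero] at h5
        omega
      · exact hr
    obtain ⟨r', rfl⟩ := Nat.exists_eq_add_of_le' hr
    rw [pow_succ'] at h5
    have h6 : 2 ^ r' = 2 ^ (i - 1) + 1 := by omega
    have hr' : 1 ≤ r' := by
      rcases Nat.eq_zero_or_pos r' with hr' | hr'
      · rw [hr', pow_zero] at h6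
        have : 0 < 2 ^ (i - 1) := by positivity
        omega
      · exact hr'
    have h7 : 2 ∣ 2 ^ r' := dvd_pow_self 2 (by omega)
    have h8 : i - 1 = 0 := by
      by_contra hne
      have h9 : 2 ∣ 2 ^ (i - 1) := dvd_pow_self 2 hne
      omega
    omega
  · exfalso
    have h5 : 2 ∣ 2 ^ d := dvd_pow_self 2 (by omega)
    have h6 : r ≠ 0 := by
      rintro rfl
      rw [pow_zero] at h3
      have : 0 < 2 ^ d := by positivity
      omega
    have h7 : 2 ∣ 2 ^ r := dvd_pow_self 2 h6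
    omega

theorem two_pow_lemma {i j s : ℕ} (hi : 1 ≤ i) (hj : 1 ≤ j)
    (h : (2 ^ i + 1) * (2 ^ j + 1) = 2 ^ s + 1) : i = 1 ∧ j = 1 := by
  rcases le_total i j with hij | hij
  · exact two_pow_aux hi hij h
  · exact (two_pow_aux hj hij (by rw [mul_comm]; exact h)).symm

theorem inv_app {Ω : Type u} (g : Equiv.Perm Ω) (x : Ω) : g⁻¹ (g x) = x := g.symm_apply_apply x

/-- The hypotheses. -/
structure Hyp {Ω : Type u} (R M A : Subgroup (Equiv.Perm Ω)) (a b : Ω) : Prop where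
  hb : b ≠ a
  MR : M ≤ R
  Ma : ∀ m ∈ M, m a = a
  Mn : ∀ r ∈ R, r a = a → ∀ m ∈ M, r * m * r⁻¹ ∈ M
  M2 : IsPGroup 2 M
  Mt : ∀ x y : Ω, x ≠ a → y ≠ a → ∃ m ∈ M, m x = y
  Mb : ∀ m ∈ M, ∀ m' ∈ M, m b = b → m' b = b → m ≠ 1 → m' ≠ 1 → m = m'
  Mb1 : ∃ m ∈ M, m b = b ∧ m ≠ 1
  AR : A ≤ R
  An : ∀ r ∈ R, ∀ x ∈ A, r * x * r⁻¹ ∈ A
  Ac : ∀ x ∈ A, ∀ y ∈ A, x * y = y * x
  At : ∀ x y : Ω, ∃ g ∈ A, g x = y

namespace Hyp

variable {Ω : Type u} {R M A : Subgroup (Equiv.Perm Ω)} {a b : Ω} (H : Hyp R M A a b)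

include H

theorem reg {u : Equiv.Perm Ω} (hu : u ∈ A) {x : Ω} (h : u x = x) : u = 1 := by
  ext y
  obtain ⟨g, hg, rfl⟩ := H.At x y
  rw [Equiv.Perm.one_apply, ← Equiv.Perm.mul_apply, H.Ac u hu g hg, Equiv.Perm.mul_apply, h]

theorem inj {u v : Equiv.Perm Ω} (hu : u ∈ A) (hv : v ∈ A) {x : Ω} (h : u x = v x) : u = v := by
  have h1 : v⁻¹ * u = 1 := by
    refine H.reg (mul_mem (inv_mem hv) hu) (x := x) ?_
    rw [Equiv.Perm.mul_apply, h, inv_app]
  exact (inv_mul_eq_one.1 h1).symm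

omit H in
theorem conj_apply {g u : Equiv.Perm Ω} (hg : g a = a) : (g * u * g⁻¹) a = g (u a) := by
  have h : g⁻¹ a = a := Equiv.Perm.inv_eq_iff_eq.2 hg.symm
  rw [Equiv.Perm.mul_apply, Equiv.Perm.mul_apply, h]

theorem fix_iff {g u : Equiv.Perm Ω} (hgR : g ∈ R) (hg : g a = a) (hu : u ∈ A) :
    g (u a) = u a ↔ g * u * g⁻¹ = u := by
  rw [← conj_apply hg]
  constructor
  · intro h
    exact H.inj (H.An g hgR u hu) hu h
  · intro h
    rw [h]

theorem triv {g : Equiv.Perm Ω} (hg : g a = a) (h : ∀ u ∈ A, g * u * g⁻¹ = u) : g = 1 := by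
  ext y
  obtain ⟨u, hu, rfl⟩ := H.At a y
  rw [Equiv.Perm.one_apply, ← conj_apply hg, h u hu]

/-- The condition on the point stabilisers at every point. -/
theorem stab {x : Ω} (hx : x ≠ a) {m m' : Equiv.Perm Ω} (hm : m ∈ M) (hm' : m' ∈ M) (h : m x = x)
    (h' : m' x = x) (h1 : m ≠ 1) (h1' : m' ≠ 1) : m = m' := by
  obtain ⟨g, hg, rfl⟩ := H.Mt b x H.hb hx
  have key : ∀ k ∈ M, k (g b) = g b → k ≠ 1 →
      g⁻¹ * k * g ∈ M ∧ (g⁻¹ * k * g) b = b ∧ g⁻¹ * k * g ≠ 1 := by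
    intro k hk hkb hk1
    refine ⟨mul_mem (mul_mem (inv_mem hg) hk) hg, ?_, ?_⟩
    · rw [Equiv.Perm.mul_apply, Equiv.Perm.mul_apply, hkb, inv_app]
    · intro h2
      apply hk1
      have : k = g * (g⁻¹ * k * g) * g⁻¹ := by group
      rw [this, h2]
      group
  obtain ⟨k1, k2, k3⟩ := key m hm h h1
  obtain ⟨k1', k2', k3'⟩ := key m' hm' h' h1'
  have h2 := H.Mb _ k1 _ k1' k2 k2' k3 k3'
  have e : ∀ k, k = g * (g⁻¹ * k * g) * g⁻¹ := fun k => by group
  rw [e m, e m', h2]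

theorem sq_one {x : Ω} (hx : x ≠ a) {m : Equiv.Perm Ω} (hm : m ∈ M) (h : m x = x) : m * m = 1 := by
  by_cases h1 : m = 1
  · rw [h1, one_mul]
  · have h2 : m⁻¹ x = x := Equiv.Perm.inv_eq_iff_eq.2 h.symm
    have := H.stab hx hm (inv_mem hm) h h2 h1 (inv_ne_one.2 h1)
    rw [eq_inv_iff_mul_eq_one] at this
    exact this

variable [Finite Ω]

/-- The central involution inverts `A`. -/
theorem exists_z : ∃ z ∈ M, z ≠ 1 ∧ z * z = 1 ∧ (∀ m ∈ M, m * z = z * m) ∧
    (∀ x, x ≠ a → z x ≠ x) ∧ ∀ u ∈ A, z * u * z⁻¹ = u⁻¹ := by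
  obtain ⟨m, hm, hmb, hm1⟩ := H.Mb1
  have : Nontrivial M := ⟨⟨⟨m, hm⟩, 1, fun h => hm1 (congrArg Subtype.val h)⟩⟩
  have : Fact (Nat.Prime 2) := ⟨Nat.prime_two⟩
  have hc := H.M2.center_nontrivial
  have h2 : IsPGroup 2 (Subgroup.center M) := H.M2.to_subgroup _
  obtain ⟨n, hn, hn'⟩ := (IsPGroup.nontrivial_iff_card h2).1 hc
  have hdvd : 2 ∣ Nat.card (Subgroup.center M) := by
    rw [hn']
    exact dvd_pow_self 2 (by omega)
  obtain ⟨z, hz⟩ := exists_prime_orderOf_dvd_card' 2 hdvd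
  have hz1 : ((z : M) : Equiv.Perm Ω) ≠ 1 := by
    intro h
    have : z = 1 := Subtype.ext (Subtype.ext h)
    rw [this, orderOf_one] at hz
    omega
  have hzz : ((z : M) : Equiv.Perm Ω) * ((z : M) : Equiv.Perm Ω) = 1 := by
    have h1 : z * z = 1 := by
      rw [← sq, ← hz]
      exact pow_orderOf_eq_one z
    exact congrArg (fun w : Subgroup.center M => ((w : M) : Equiv.Perm Ω)) h1
  have hcomm : ∀ k ∈ M, k * ((z : M) : Equiv.Perm Ω) = ((z : M) : Equiv.Perm Ω) * k := by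
    intro k hk
    have := Subgroup.mem_center_iff.1 z.2 ⟨k, hk⟩
    exact congrArg Subtype.val this
  have hfree : ∀ x, x ≠ a → ((z : M) : Equiv.Perm Ω) x ≠ x := by
    intro x hx h
    apply hz1
    ext y
    rw [Equiv.Perm.one_apply]
    by_cases hy : y = a
    · rw [hy, H.Ma _ (z : M).2]
    · obtain ⟨k, hk, rfl⟩ := H.Mt x y hx hy
      rw [← Equiv.Perm.mul_apply, ← hcomm k hk, Equiv.Perm.mul_apply, h]
  refine ⟨((z : M) : Equiv.Perm Ω), (z : M).2, hz1, hzz, hcomm, hfree, ?_⟩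
  intro u hu
  set Z := ((z : M) : Equiv.Perm Ω) with hZ
  have hZM : Z ∈ M := (z : M).2
  have hZi : Z⁻¹ = Z := inv_eq_of_mul_eq_one_left hzz
  have hx' := H.An Z (H.MR hZM) u hu
  have hw : u * (Z * u * Z⁻¹) ∈ A := mul_mem hu hx'
  have h1 : Z * (u * (Z * u * Z⁻¹)) * Z⁻¹ = u * (Z * u * Z⁻¹) := by
    have h2 : Z * (u * (Z * u * Z⁻¹)) * Z⁻¹ = (Z * u * Z⁻¹) * ((Z * Z) * u * (Z * Z)⁻¹) := by
      group
    rw [h2, hzz, one_mul, inv_one, mul_one, H.Ac _ hx' _ hu]
  have h3 := (H.fix_iff (H.MR hZM) (H.Ma Z hZM) hw).2 h1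
  have h5 : (u * (Z * u * Z⁻¹)) a = a := by
    by_contra hne
    exact hfree _ hne h3
  exact eq_inv_of_mul_eq_one_right (H.reg hw h5)

omit H in
theorem orbit_card {C : Subgroup (Equiv.Perm Ω)} (hC : IsPGroup 2 C) (x : Ω) :
    ∃ j, (MulAction.orbit C x).ncard = 2 ^ j := by
  have : Fact (Nat.Prime 2) := ⟨Nat.prime_two⟩
  have h1 := MulAction.index_stabilizer C x
  obtain ⟨n, hn⟩ := hC.exists_card_eq
  have h2 : (MulAction.stabilizer C x).index ∣ 2 ^ n := by
    rw [← hn]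
    exact Subgroup.index_dvd_card _
  obtain ⟨j, _, hj⟩ := (Nat.dvd_prime_pow Nat.prime_two).1 h2
  exact ⟨j, by rw [← h1, hj]⟩

theorem orbit_M {x : Ω} (hx : x ≠ a) : MulAction.orbit M x = {a}ᶜ := by
  ext y
  rw [Set.mem_compl_iff, Set.mem_singleton_iff]
  constructor
  · rintro ⟨⟨g, hg⟩, rfl⟩ h
    apply hx
    apply g.injective
    rw [H.Ma g hg]
    exact h
  · intro hy
    obtain ⟨g, hg, h⟩ := H.Mt x y hx hy
    exact ⟨⟨g, hg⟩, h⟩

/-- The number of points is `2 ^ s + 1`, `s ≥ 1`. -/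
theorem card_points : ∃ s, 1 ≤ s ∧ Nat.card Ω = 2 ^ s + 1 := by
  obtain ⟨s, hs⟩ := orbit_card H.M2 b
  rw [H.orbit_M H.hb] at hs
  have h1 := Set.ncard_add_ncard_compl ({a} : Set Ω)
  rw [hs, Set.ncard_singleton] at h1
  refine ⟨s, ?_, by omega⟩
  by_contra h0
  have h2 : s = 0 := by omega
  subst h2
  obtain ⟨m, hm, hmb, hm1⟩ := H.Mb1
  rw [pow_zero, Set.ncard_eq_one] at hs
  obtain ⟨c, hc⟩ := hs
  apply hm1
  ext y
  rw [Equiv.Perm.one_apply]
  by_cases hy : y = a
  · rw [hy, H.Ma m hm]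
  · have h3 : y ∈ ({a}ᶜ : Set Ω) := hy
    have h4 : b ∈ ({a}ᶜ : Set Ω) := H.hb
    rw [hc, Set.mem_singleton_iff] at h3 h4
    rw [h3, ← h4, hmb]

/-- The number of fixed points of an element of `M` with a second fixed point. -/
theorem card_fix {k : Equiv.Perm Ω} (hk : k ∈ M) (hk1 : k ≠ 1) {x : Ω} (hx : x ≠ a) (hkx : k x = x) :
    ∃ j, {y | k y = y}.ncard = 2 ^ j + 1 := by
  have hC : IsPGroup 2 (M ⊓ Subgroup.centralizer {k} : Subgroup (Equiv.Perm Ω)) :=
    H.M2.to_le inf_le_left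
  obtain ⟨j, hj⟩ := orbit_card hC x
  refine ⟨j, ?_⟩
  have h1 : MulAction.orbit (M ⊓ Subgroup.centralizer {k} : Subgroup (Equiv.Perm Ω)) x =
      {y | k y = y} \ {a} := by
    ext y
    constructor
    · rintro ⟨⟨g, hgg⟩, rfl⟩
      obtain ⟨hg, hgk⟩ := Subgroup.mem_inf.1 hgg
      rw [Subgroup.mem_centralizer_singleton_iff] at hgk
      constructor
      · change k (g x) = g x
        rw [← Equiv.Perm.mul_apply, ← hgk, Equiv.Perm.mul_apply, hkx]
      · intro h
        apply hx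
        apply g.injective
        rw [H.Ma g hg]
        exact h
    · rintro ⟨hy, hya⟩
      obtain ⟨g, hg, rfl⟩ := H.Mt x y hx hya
      refine ⟨⟨g, Subgroup.mem_inf.2 ⟨hg, ?_⟩⟩, rfl⟩
      rw [Subgroup.mem_centralizer_singleton_iff]
      have h2 : (g * k * g⁻¹) (g x) = g x := by
        rw [Equiv.Perm.mul_apply, Equiv.Perm.mul_apply, inv_app, hkx]
      have h3 : g * k * g⁻¹ ≠ 1 := by
        intro h
        apply hk1
        have : k = g⁻¹ * (g * k * g⁻¹) * g := by group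
        rw [this, h]
        group
      have h4 := H.stab hya (mul_mem (mul_mem hg hk) (inv_mem hg)) hk h2 hy h3 hk1
      rw [mul_inv_eq_iff_eq_mul] at h4
      exact h4
  rw [h1] at hj
  have h2 : a ∈ {y | k y = y} := H.Ma k hk
  have h3 := Set.ncard_sdiff_singleton_add_one h2 (Set.toFinite _)
  omega

omit H in
theorem card_aux (φ : Ω → Prop) (B : Subgroup (Equiv.Perm Ω)) (f : Equiv.Perm Ω → Prop) (a : Ω)
    (hinj : ∀ u ∈ B, ∀ v ∈ B, u a = v a → u = v) (hsurj : ∀ x, ∃ u ∈ B, u a = x)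
    (hf : ∀ u ∈ B, f u ↔ φ (u a)) : Nat.card {v : B // f v} = {x | φ x}.ncard := by
  rw [← Nat.card_coe_set_eq]
  refine Nat.card_congr (Equiv.ofBijective
    (fun v => ⟨(v.1 : Equiv.Perm Ω) a, (hf _ v.1.2).1 v.2⟩) ⟨?_, ?_⟩)
  · intro v w h
    have h1 := congrArg Subtype.val h
    exact Subtype.ext (Subtype.ext (hinj _ v.1.2 _ w.1.2 h1))
  · rintro ⟨x, hx⟩
    obtain ⟨u, hu, rfl⟩ := hsurj x
    exact ⟨⟨⟨u, hu⟩, (hf u hu).2 hx⟩, rfl⟩

/-- There are nine points, and every element of `M` with a second fixed point has three fixed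
points. -/
theorem nine : Nat.card Ω = 9 ∧ ∀ k ∈ M, k ≠ 1 → ∀ x, x ≠ a → k x = x →
    {y | k y = y}.ncard = 3 := by
  obtain ⟨s, hs, hn⟩ := H.card_points
  obtain ⟨z, hz, hz1, hzz, hzc, hzf, hzi⟩ := H.exists_z
  have hodd : Odd (Nat.card A) := by
    have h1 := card_aux (fun _ => True) A (fun _ => True) a (fun u hu v hv => H.inj hu hv)
      (fun x => H.At a x) (fun _ _ => Iff.rfl)
    have h2 : Nat.card {v : A // True} = Nat.card A :=
      Nat.card_congr (Equiv.subtypeUnivEquiv fun _ => trivial)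
    have h3 : {x : Ω | True}.ncard = Nat.card Ω := by
      rw [show {x : Ω | True} = Set.univ from Set.eq_univ_of_forall fun _ => trivial, Set.ncard_univ]
    rw [← h2, h1, h3, hn]
    exact (Nat.even_pow.2 ⟨even_two, by omega⟩).add_one
  have hcA : Nat.card A = 2 ^ s + 1 := by
    have h1 := card_aux (fun _ => True) A (fun _ => True) a (fun u hu v hv => H.inj hu hv)
      (fun x => H.At a x) (fun _ _ => Iff.rfl)
    have h2 : Nat.card {v : A // True} = Nat.card A :=
      Nat.card_congr (Equiv.subtypeUnivEquiv fun _ => trivial)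
    have h3 : {x : Ω | True}.ncard = Nat.card Ω := by
      rw [show {x : Ω | True} = Set.univ from Set.eq_univ_of_forall fun _ => trivial, Set.ncard_univ]
    rw [← h2, h1, h3, hn]
  have key : ∀ k ∈ M, k ≠ 1 → ∀ x, x ≠ a → k x = x → {y | k y = y}.ncard = 3 ∧ s = 3 := by
    intro k hk hk1 x hx hkx
    have hkk := H.sq_one hx hk hkx
    have hkR := H.MR hk
    have hzR := H.MR hz
    let _ : CommGroup A := { (inferInstance : Group A) with
      mul_comm := fun u v => Subtype.ext (H.Ac _ u.2 _ v.2) }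
    let φ : A →* A :=
      { toFun := fun u => ⟨k * u * k⁻¹, H.An k hkR _ u.2⟩
        map_one' := Subtype.ext (by
          change k * 1 * k⁻¹ = 1
          group)
        map_mul' := fun u v => Subtype.ext (by
          change k * ((u : Equiv.Perm Ω) * v) * k⁻¹ = (k * u * k⁻¹) * (k * v * k⁻¹)
          group) }
    have hφ : ∀ v, φ (φ v) = v := by
      intro v
      apply Subtype.ext
      change k * (k * (v : Equiv.Perm Ω) * k⁻¹) * k⁻¹ = v
      have e : k * (k * (v : Equiv.Perm Ω) * k⁻¹) * k⁻¹ = (k * k) * v * (k * k)⁻¹ := by group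
      rw [e, hkk]
      group
    have h1 := card_fix_mul hodd φ hφ
    have h2 : Nat.card {v : A // φ v = v} = {y | k y = y}.ncard := by
      have e := card_aux (fun y => k y = y) A (fun u => k * u * k⁻¹ = u) a
        (fun u hu v hv => H.inj hu hv) (fun x => H.At a x)
        (fun u hu => (H.fix_iff hkR (H.Ma k hk) hu).symm)
      rw [← e]
      exact Nat.card_congr (Equiv.subtypeEquivRight fun v => Subtype.ext_iff)
    have h3 : Nat.card {v : A // φ v = v⁻¹} = {y | (k * z) y = y}.ncard := by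
      have e := card_aux (fun y => (k * z) y = y) A (fun u => k * u * k⁻¹ = u⁻¹) a
        (fun u hu v hv => H.inj hu hv) (fun x => H.At a x) (fun u hu => by
          rw [H.fix_iff (mul_mem hkR hzR) (H.Ma _ (mul_mem hk hz)) hu]
          have e1 : k * z * u * (k * z)⁻¹ = k * (z * u * z⁻¹) * k⁻¹ := by group
          rw [e1, hzi u hu]
          have e2 : k * u⁻¹ * k⁻¹ = (k * u * k⁻¹)⁻¹ := by group
          rw [e2, inv_eq_iff_eq_inv])
      rw [← e]
      exact Nat.card_congr (Equiv.subtypeEquivRight fun v => Subtype.ext_iff)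
    rw [h2, h3, hcA] at h1
    obtain ⟨i, hi⟩ := H.card_fix hk hk1 hx hkx
    -- `k z` has a second fixed point
    have hkz1 : k * z ≠ 1 := by
      intro h
      have : k = z⁻¹ := eq_inv_of_mul_eq_one_left h
      rw [inv_eq_of_mul_eq_one_left hzz] at this
      rw [this] at hkx
      exact hzf x hx hkx
    have hex : ∃ y, y ≠ a ∧ (k * z) y = y := by
      by_contra hcon
      push Not at hcon
      have h4 : {y | (k * z) y = y} = {a} := by
        ext y
        constructor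
        · intro hy
          by_contra hne
          exact hcon y hne hy
        · rintro rfl
          exact H.Ma _ (mul_mem hk hz)
      rw [h4, Set.ncard_singleton, mul_one, hi] at h1
      apply hk1
      have h5 : {y | k y = y} = Set.univ := by
        apply Set.eq_of_subset_of_ncard_le (Set.subset_univ _)
        rw [Set.ncard_univ, hn, hi, h1]
      ext y
      have : y ∈ {y | k y = y} := by rw [h5]; trivial
      exact this
    obtain ⟨y, hy, hkzy⟩ := hex
    obtain ⟨j, hj⟩ := H.card_fix (mul_mem hk hz) hkz1 hy hkzy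
    rw [hi, hj] at h1
    have hoddN : Odd (2 ^ s + 1) := (Nat.even_pow.2 ⟨even_two, by omega⟩).add_one
    have h6 := Nat.Odd.of_mul_right (h1 ▸ hoddN : Odd ((2 ^ i + 1) * (2 ^ j + 1)))
    have h7 := Nat.Odd.of_mul_left (h1 ▸ hoddN : Odd ((2 ^ i + 1) * (2 ^ j + 1)))
    have hi1 : 1 ≤ i := by
      by_contra h0
      have : i = 0 := by omega
      subst this
      exact absurd h7 (by decide)
    have hj1 : 1 ≤ j := by
      by_contra h0
      have : j = 0 := by omega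
      subst this
      exact absurd h6 (by decide)
    obtain ⟨h8, h9⟩ := two_pow_lemma hi1 hj1 h1
    subst h8 h9
    refine ⟨hi, ?_⟩
    have h10 : 2 ^ s = 2 ^ 3 := by omega
    exact Nat.pow_right_injective (le_refl 2) h10
  obtain ⟨m, hm, hmb, hm1⟩ := H.Mb1
  refine ⟨?_, fun k hk hk1 x hx hkx => (key k hk hk1 x hx hkx).1⟩
  rw [hn, (key m hm hm1 b H.hb hmb).2]
  norm_num

theorem card_A : Nat.card A = 9 := by
  have h1 := card_aux (fun _ => True) A (fun _ => True) a (fun u hu v hv => H.inj hu hv)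
    (fun x => H.At a x) (fun _ _ => Iff.rfl)
  have h2 : Nat.card {v : A // True} = Nat.card A :=
    Nat.card_congr (Equiv.subtypeUnivEquiv fun _ => trivial)
  have h3 : {x : Ω | True}.ncard = Nat.card Ω := by
    rw [show {x : Ω | True} = Set.univ from Set.eq_univ_of_forall fun _ => trivial, Set.ncard_univ]
  rw [← h2, h1, h3, H.nine.1]

theorem pow_nine {u : Equiv.Perm Ω} (hu : u ∈ A) : u ^ 9 = 1 := by
  have h := pow_card_eq_one' (x := (⟨u, hu⟩ : A))
  rw [H.card_A] at h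
  exact congrArg Subtype.val h

omit H [Finite Ω] in
theorem cc (g h u : Equiv.Perm Ω) : (g * h) * u * (g * h)⁻¹ = g * (h * u * h⁻¹) * g⁻¹ := by group

omit H [Finite Ω] in
theorem ci (g u : Equiv.Perm Ω) : g * u⁻¹ * g⁻¹ = (g * u * g⁻¹)⁻¹ := by group

omit H [Finite Ω] in
theorem cm (g u v : Equiv.Perm Ω) : g * (u * v) * g⁻¹ = (g * u * g⁻¹) * (g * v * g⁻¹) := by group

omit H [Finite Ω] in
theorem cp (g u : Equiv.Perm Ω) (n : ℕ) : g * u ^ n * g⁻¹ = (g * u * g⁻¹) ^ n :=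
  (conj_pow).symm

/-- `A = C_A(k) [A, k]` for an involution `k`. -/
theorem dec {k : Equiv.Perm Ω} (hk : k ∈ M) (hkk : k * k = 1) {v : Equiv.Perm Ω} (hv : v ∈ A) :
    ∃ p ∈ A, ∃ q ∈ A, k * p * k⁻¹ = p ∧ k * q * k⁻¹ = q⁻¹ ∧ v = p * q := by
  have hw := H.An k (H.MR hk) v hv
  have hkw : k * (k * v * k⁻¹) * k⁻¹ = v := by
    rw [← cc, hkk]
    group
  set w := k * v * k⁻¹ with hwd
  have hc : v * w = w * v := H.Ac v hv w hw
  refine ⟨(v * w) ^ 5, pow_mem (mul_mem hv hw) 5, (v * w⁻¹) ^ 5,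
    pow_mem (mul_mem hv (inv_mem hw)) 5, ?_, ?_, ?_⟩
  · rw [cp, cm, ← hwd, hkw, hc]
  · rw [cp, cm, ← hwd, ci, hkw, ← inv_pow, mul_inv_rev, inv_inv]
  · have h1 : Commute (v * w) (v * w⁻¹) := by
      have : Commute v w := hc
      exact Commute.mul_left (Commute.mul_right (Commute.refl v) this.inv_right)
        (Commute.mul_right this.symm (Commute.refl w).inv_right)
    have h2 : v * w * (v * w⁻¹) = v ^ 2 := by
      calc v * w * (v * w⁻¹) = v * (w * v) * w⁻¹ := by group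
        _ = v * (v * w) * w⁻¹ := by rw [hc]
        _ = v ^ 2 := by rw [← mul_assoc, mul_inv_cancel_right, sq]
    rw [← h1.mul_pow, h2, ← pow_mul, show 2 * 5 = 9 + 1 from rfl, pow_succ, H.pow_nine hv, one_mul]

theorem inv_ne {u : Equiv.Perm Ω} (hu : u ∈ A) (h1 : u ≠ 1) : u⁻¹ ≠ u := by
  obtain ⟨z, hz, hz1, hzz, hzc, hzf, hzi⟩ := H.exists_z
  intro h
  have h2 := hzi u hu
  rw [h] at h2
  have h3 := (H.fix_iff (H.MR hz) (H.Ma z hz) hu).2 h2
  by_cases h4 : u a = a
  · exact h1 (H.reg hu h4)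
  · exact hzf _ h4 h3

/-- The centraliser in `A` of an element of `M`. -/
theorem fix3 {k : Equiv.Perm Ω} (hk : k ∈ M) (hk1 : k ≠ 1) {u : Equiv.Perm Ω} (hu : u ∈ A)
    (hu1 : u ≠ 1) (hku : k * u * k⁻¹ = u) {v : Equiv.Perm Ω} (hv : v ∈ A) (hkv : k * v * k⁻¹ = v) :
    v = 1 ∨ v = u ∨ v = u⁻¹ := by
  have hua : u a ≠ a := fun h => hu1 (H.reg hu h)
  have hui : u⁻¹ a ≠ a := fun h => hu1 (inv_eq_one.1 (H.reg (inv_mem hu) h))
  have huu : u⁻¹ a ≠ u a := fun h => H.inv_ne hu hu1 (H.inj (inv_mem hu) hu h)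
  have hka := H.Ma k hk
  have h1 := (H.fix_iff (H.MR hk) hka hu).2 hku
  have h2 := (H.fix_iff (H.MR hk) hka (inv_mem hu)).2 (by rw [ci, hku])
  have h3 := (H.fix_iff (H.MR hk) hka hv).2 hkv
  have h4 := H.nine.2 k hk hk1 (u a) hua h1
  have h5 : ({a, u a, u⁻¹ a} : Set Ω) = {y | k y = y} := by
    refine Set.eq_of_subset_of_ncard_le ?_ ?_ (Set.toFinite _)
    · intro y hy
      simp only [Set.mem_insert_iff, Set.mem_singleton_iff] at hy
      rcases hy with rfl | rfl | rfl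
      · exact hka
      · exact h1
      · exact h2
    · rw [h4]
      have h6 : ({a, u a, u⁻¹ a} : Set Ω).ncard = 3 :=
        Set.ncard_eq_three.2 ⟨a, u a, u⁻¹ a, hua.symm, hui.symm, huu.symm, rfl⟩
      rw [h6]
  have h6 : v a ∈ ({a, u a, u⁻¹ a} : Set Ω) := by
    rw [h5]
    exact h3
  simp only [Set.mem_insert_iff, Set.mem_singleton_iff] at h6
  rcases h6 with h6 | h6 | h6
  · exact Or.inl (H.reg hv h6)
  · exact Or.inr (Or.inl (H.inj hv hu h6))
  · exact Or.inr (Or.inr (H.inj hv (inv_mem hu) h6))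

/-- The third fixed point. -/
theorem third {x : Ω} (hx : x ≠ a) {k : Equiv.Perm Ω} (hk : k ∈ M) (hkx : k x = x) :
    ∃ e, e ≠ a ∧ e ≠ x ∧ k e = e := by
  obtain ⟨u, hu, rfl⟩ := H.At a x
  have hu1 : u ≠ 1 := by
    rintro rfl
    exact hx rfl
  have hka := H.Ma k hk
  have h1 := (H.fix_iff (H.MR hk) hka hu).1 hkx
  refine ⟨u⁻¹ a, fun h => hu1 (inv_eq_one.1 (H.reg (inv_mem hu) h)),
    fun h => H.inv_ne hu hu1 (H.inj (inv_mem hu) hu h),
    (H.fix_iff (H.MR hk) hka (inv_mem hu)).2 (by rw [ci, h1])⟩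

/-- The coordinates: `m` centralises `x`, inverts `y`, and `A = ⟨x⟩ × ⟨y⟩`. -/
theorem coord : ∃ m ∈ M, ∃ x ∈ A, ∃ y ∈ A, m b = b ∧ m ≠ 1 ∧ m * m = 1 ∧ x a = b ∧ x ≠ 1 ∧ y ≠ 1 ∧
    m * x * m⁻¹ = x ∧ m * y * m⁻¹ = y⁻¹ ∧
    (∀ v ∈ A, m * v * m⁻¹ = v⁻¹ → v = 1 ∨ v = y ∨ v = y⁻¹) ∧
    ∀ g : Equiv.Perm Ω, g a = a → g * x * g⁻¹ = x → g * y * g⁻¹ = y → g = 1 := by
  obtain ⟨m, hm, hmb, hm1⟩ := H.Mb1
  obtain ⟨z, hz, hz1, hzz, hzc, hzf, hzi⟩ := H.exists_z
  have hmm := H.sq_one H.hb hm hmb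
  obtain ⟨x, hx, hxa⟩ := H.At a b
  have hx1 : x ≠ 1 := by
    rintro rfl
    exact H.hb hxa.symm
  have hmx : m * x * m⁻¹ = x := (H.fix_iff (H.MR hm) (H.Ma m hm) hx).1 (by rw [hxa, hmb])
  have hex : ∃ y ∈ A, y ≠ 1 ∧ m * y * m⁻¹ = y⁻¹ := by
    by_contra hcon
    push Not at hcon
    apply hm1
    apply H.triv (H.Ma m hm)
    intro v hv
    obtain ⟨p, hp, q, hq, h1, h2, rfl⟩ := H.dec hm hmm hv
    have hq1 : q = 1 := by
      by_contra hne
      exact hcon q hq hne h2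
    rw [hq1, mul_one, h1]
  obtain ⟨y, hy, hy1, hmy⟩ := hex
  have hmz : m * z ∈ M := mul_mem hm hz
  have hmz1 : m * z ≠ 1 := by
    intro h
    have : m = z⁻¹ := eq_inv_of_mul_eq_one_left h
    rw [inv_eq_of_mul_eq_one_left hzz] at this
    rw [this] at hmb
    exact hzf b H.hb hmb
  have hinv : ∀ v ∈ A, m * v * m⁻¹ = v⁻¹ ↔ (m * z) * v * (m * z)⁻¹ = v := by
    intro v hv
    rw [cc, hzi v hv, ci, inv_eq_iff_eq_inv]
  refine ⟨m, hm, x, hx, y, hy, hmb, hm1, hmm, hxa, hx1, hy1, hmx, hmy, ?_, ?_⟩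
  · intro v hv h
    exact H.fix3 hmz hmz1 hy hy1 ((hinv y hy).1 hmy) hv ((hinv v hv).1 h)
  · intro g hg hgx hgy
    apply H.triv hg
    intro v hv
    obtain ⟨p, hp, q, hq, h1, h2, rfl⟩ := H.dec hm hmm hv
    have hp' : g * p * g⁻¹ = p := by
      rcases H.fix3 hm hm1 hx hx1 hmx hp h1 with rfl | rfl | rfl
      · group
      · exact hgx
      · rw [ci, hgx]
    have hq' : g * q * g⁻¹ = q := by
      rcases H.fix3 hmz hmz1 hy hy1 ((hinv y hy).1 hmy) hq ((hinv q hq).1 h2) with rfl | rfl | rfl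
      · group
      · exact hgy
      · rw [ci, hgy]
    rw [cm, hp', hq']

/-- The point stabiliser is `M`. -/
theorem stabR {r : Equiv.Perm Ω} (hr : r ∈ R) (hra : r a = a) : r ∈ M := by
  obtain ⟨m, hm, x, hx, y, hy, hmb, hm1, hmm, hxa, hx1, hy1, hmx, hmy, hcl, htr⟩ := H.coord
  have hrb : r b ≠ a := by
    intro h
    apply H.hb
    apply r.injective
    rw [h, hra]
  obtain ⟨n, hn, hnb⟩ := H.Mt (r b) b hrb H.hb
  have hsa : (n * r) a = a := by rw [Equiv.Perm.mul_apply, hra, H.Ma n hn]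
  have hsb : (n * r) b = b := hnb
  have hsR : n * r ∈ R := mul_mem (H.MR hn) hr
  have hback : n * r ∈ M → r ∈ M := fun h => (Subgroup.mul_mem_cancel_left M hn).1 h
  apply hback
  set s := n * r with hs
  have hsx : s * x * s⁻¹ = x := (H.fix_iff hsR hsa hx).1 (by rw [hxa, hsb])
  have hsm : s * m * s⁻¹ = m := by
    apply H.Mb _ (H.Mn s hsR hsa m hm) m hm _ hmb _ hm1
    · have : s⁻¹ b = b := Equiv.Perm.inv_eq_iff_eq.2 hsb.symm
      rw [Equiv.Perm.mul_apply, Equiv.Perm.mul_apply, this, hmb, hsb]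
    · intro h
      apply hm1
      have e : m = s⁻¹ * (s * m * s⁻¹) * s := by group
      rw [e, h]
      group
  have hms : m * s = s * m := (mul_inv_eq_iff_eq_mul.1 hsm).symm
  have h1 : m * (s * y * s⁻¹) * m⁻¹ = (s * y * s⁻¹)⁻¹ := by
    rw [← cc, hms, cc, hmy, ci]
  rcases hcl _ (H.An s hsR y hy) h1 with h2 | h2 | h2
  · exfalso
    apply hy1
    have e : y = s⁻¹ * (s * y * s⁻¹) * s := by group
    rw [e, h2]
    group
  · rw [htr s hsa hsx h2]
    exact one_mem M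
  · have h3 : m * s = 1 := by
      apply htr
      · rw [Equiv.Perm.mul_apply, hsa, H.Ma m hm]
      · rw [cc, hsx, hmx]
      · rw [cc, h2, ci, hmy, inv_inv]
    rw [eq_inv_of_mul_eq_one_right h3]
    exact inv_mem hm

theorem card_M : Nat.card M = 16 := by
  obtain ⟨m, hm, hmb, hm1⟩ := H.Mb1
  have h1 := MulAction.index_stabilizer M b
  rw [H.orbit_M H.hb] at h1
  have h2 := Set.ncard_add_ncard_compl ({a} : Set Ω)
  rw [Set.ncard_singleton, H.nine.1] at h2
  have h3 : Nat.card (MulAction.stabilizer M b) = 2 := by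
    rw [Nat.card_eq_two_iff]
    refine ⟨1, ⟨⟨m, hm⟩, hmb⟩, ?_, ?_⟩
    · intro h
      exact hm1 (congrArg (fun t : MulAction.stabilizer M b => ((t : M) : Equiv.Perm Ω)) h).symm
    · rw [Set.eq_univ_iff_forall]
      rintro ⟨⟨k, hk⟩, hkb⟩
      by_cases hk1 : k = 1
      · left
        exact Subtype.ext (Subtype.ext hk1)
      · right
        exact Subtype.ext (Subtype.ext (H.Mb k hk m hm hkb hmb hk1 hm1))
  have h4 := Subgroup.card_mul_index (MulAction.stabilizer M b)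
  rw [h3, h1] at h4
  omega

/-- The commutator of order 4. -/
theorem comm4 : ∃ g ∈ M, ∃ h ∈ M, (g * h * g⁻¹ * h⁻¹) ^ 4 = 1 ∧
    (∀ x, x ≠ a → ((g * h * g⁻¹ * h⁻¹) ^ 2) x ≠ x) ∧
    ∀ m ∈ M, m * (g * h * g⁻¹ * h⁻¹) ^ 2 = (g * h * g⁻¹ * h⁻¹) ^ 2 * m := by
  obtain ⟨m, hm, x, hx, y, hy, hmb, hm1, hmm, hxa, hx1, hy1, hmx, hmy, hcl, htr⟩ := H.coord
  obtain ⟨z, hz, hz1, hzz, hzc, hzf, hzi⟩ := H.exists_z
  have hxy : x * y ∈ A := mul_mem hx hy
  -- squares
  have hsq : ∀ u ∈ A, ∀ v ∈ A, u * u = v * v → u = v := by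
    intro u hu v hv h
    have h1 : (u * v⁻¹) * (u * v⁻¹) = 1 := by
      have h2 : u * v⁻¹ = v⁻¹ * u := H.Ac u hu _ (inv_mem hv)
      calc (u * v⁻¹) * (u * v⁻¹) = (u * v⁻¹) * (v⁻¹ * u) := by rw [← h2]
        _ = u * (v * v)⁻¹ * u := by group
        _ = u * (u * u)⁻¹ * u := by rw [h]
        _ = 1 := by group
    by_contra hne
    have h2 : u * v⁻¹ ≠ 1 := fun h => hne (mul_inv_eq_one.1 h)
    exact H.inv_ne (mul_mem hu (inv_mem hv)) h2 (inv_eq_of_mul_eq_one_left h1)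
  have hxya : (x * y) a ≠ a := by
    intro h
    have h1 := H.reg hxy h
    have h2 : x = y⁻¹ := eq_inv_of_mul_eq_one_left h1
    have h3 := hmx
    rw [h2, ci, hmy, inv_inv] at h3
    exact H.inv_ne hy hy1 h3.symm
  obtain ⟨h, hh, hhb⟩ := H.Mt b ((x * y) a) H.hb hxya
  obtain ⟨n, hn⟩ : ∃ n, n = h * m * h⁻¹ := ⟨_, rfl⟩
  have hnM : n ∈ M := hn ▸ mul_mem (mul_mem hh hm) (inv_mem hh)
  have hn1 : n ≠ 1 := by
    intro hne
    apply hm1
    have e : m = h⁻¹ * (h * m * h⁻¹) * h := by group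
    rw [e, ← hn, hne]
    group
  have hnn : n * n = 1 := by
    have e : n * n = h * (m * m) * h⁻¹ := by
      rw [hn]
      group
    rw [e, hmm]
    group
  have hna := H.Ma n hnM
  have hnb : n ((x * y) a) = (x * y) a := by
    rw [← hhb, hn, Equiv.Perm.mul_apply, Equiv.Perm.mul_apply, inv_app, hmb]
  have hnxy : n * (x * y) * n⁻¹ = x * y := (H.fix_iff (H.MR hnM) hna hxy).1 hnb
  have hnn' : ∀ u, n * (n * u * n⁻¹) * n⁻¹ = u := by
    intro u
    rw [← cc, hnn]
    group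
  have hnz1 : n * z ≠ 1 := by
    intro h1
    have h2 : n = z⁻¹ := eq_inv_of_mul_eq_one_left h1
    rw [inv_eq_of_mul_eq_one_left hzz] at h2
    rw [h2] at hnb
    exact hzf _ hxya hnb
  have hnzM : n * z ∈ M := mul_mem hnM hz
  have hmzM : m * z ∈ M := mul_mem hm hz
  have hmz1 : m * z ≠ 1 := by
    intro h1
    have h2 : m = z⁻¹ := eq_inv_of_mul_eq_one_left h1
    rw [inv_eq_of_mul_eq_one_left hzz] at h2
    rw [h2] at hmb
    exact hzf _ H.hb hmb
  have hinv : ∀ k : Equiv.Perm Ω, ∀ v ∈ A, k * v * k⁻¹ = v⁻¹ → (k * z) * v * (k * z)⁻¹ = v := by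
    intro k v hv h1
    rw [cc, hzi v hv, ci, h1, inv_inv]
  have cx : n * x * n⁻¹ ≠ x⁻¹ := by
    intro h1
    have h2 := (H.fix_iff (H.MR hnzM) (H.Ma _ hnzM) hx).2 (hinv n x hx h1)
    rw [hxa] at h2
    have h3 : n * z = m := H.stab H.hb hnzM hm h2 hmb hnz1 hm1
    have h4 : (n * z) * (x * y) * (n * z)⁻¹ = x * y⁻¹ := by
      rw [h3, cm, hmx, hmy]
    rw [cc, hzi _ hxy, ci, hnxy, mul_inv_rev, H.Ac _ (inv_mem hy) _ (inv_mem hx)] at h4
    exact H.inv_ne hx hx1 (mul_right_cancel h4)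
  have cy : n * y * n⁻¹ ≠ y⁻¹ := by
    intro h1
    have hya : y a ≠ a := fun h => hy1 (H.reg hy h)
    have h2 := (H.fix_iff (H.MR hnzM) (H.Ma _ hnzM) hy).2 (hinv n y hy h1)
    have h3 := (H.fix_iff (H.MR hmzM) (H.Ma _ hmzM) hy).2 (hinv m y hy hmy)
    have h4 : n = m := mul_right_cancel (H.stab hya hnzM hmzM h2 h3 hnz1 hmz1)
    rw [h4, cm, hmx, hmy] at hnxy
    exact H.inv_ne hy hy1 (mul_left_cancel hnxy)
  have cxy : n * (x * y) * n⁻¹ ≠ (x * y)⁻¹ := by
    intro h1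
    rw [hnxy] at h1
    refine H.inv_ne hxy ?_ h1.symm
    intro h2
    rw [h2] at hxya
    exact hxya rfl
  -- an element inverted by `n`
  have hxA := H.An n (H.MR hnM) x hx
  have hnx : n * x * n⁻¹ = y := by
    have hiv : ∀ v, n * v⁻¹ * n⁻¹ = (v⁻¹)⁻¹ → n * v * n⁻¹ = v⁻¹ := by
      intro v h1
      rw [ci] at h1
      exact inv_injective h1
    have hfin : n * (x * y⁻¹) * n⁻¹ = (x * y⁻¹)⁻¹ → n * x * n⁻¹ = y := by
      intro h1
      apply hsq _ hxA _ hy
      have hcomm : x * y = y * x := H.Ac x hx y hy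
      have h2 : x * x = (x * y) * (x * y⁻¹) := by
        rw [hcomm]
        calc x * x = y * (x * x) * y⁻¹ := by
              have h3 : y * (x * x) = x * x * y := by
                rw [← mul_assoc, ← hcomm, mul_assoc, ← hcomm, mul_assoc]
              rw [h3]
              group
          _ = y * x * (x * y⁻¹) := by group
      rw [← cm, h2, cm, hnxy, h1]
      calc x * y * (x * y⁻¹)⁻¹ = x * y * (y * x⁻¹) := by rw [mul_inv_rev, inv_inv]
        _ = y * x * (y * x⁻¹) := by rw [hcomm]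
        _ = y * (x * y) * x⁻¹ := by group
        _ = y * (y * x) * x⁻¹ := by rw [hcomm]
        _ = y * y := by rw [← mul_assoc, mul_inv_cancel_right]
    have hw : n * (x * (n * x * n⁻¹)⁻¹) * n⁻¹ = (x * (n * x * n⁻¹)⁻¹)⁻¹ := by
      rw [cm, ci, hnn', mul_inv_rev, inv_inv]
    have hwA : x * (n * x * n⁻¹)⁻¹ ∈ A := mul_mem hx (inv_mem hxA)
    have hw1 : x * (n * x * n⁻¹)⁻¹ ≠ 1 := by
      intro h1
      have h2 : n * x * n⁻¹ = x := (mul_inv_eq_one.1 h1).symm
      apply hn1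
      apply htr n hna h2
      rw [cm, h2] at hnxy
      exact mul_left_cancel hnxy
    obtain ⟨p, hp, q, hq, h1, h2, h3⟩ := H.dec hm hmm hwA
    rw [h3] at hw hw1
    rcases H.fix3 hm hm1 hx hx1 hmx hp h1 with rfl | rfl | rfl
    · rcases hcl q hq h2 with rfl | rfl | rfl
      · exact absurd (one_mul 1) hw1
      · rw [one_mul] at hw
        exact absurd hw cy
      · rw [one_mul] at hw
        exact absurd (hiv _ hw) cy
    · rcases hcl q hq h2 with rfl | rfl | rfl
      · rw [mul_one] at hw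
        exact absurd hw cx
      · exact absurd hw cxy
      · exact hfin hw
    · rcases hcl q hq h2 with rfl | rfl | rfl
      · rw [mul_one] at hw
        exact absurd (hiv _ hw) cx
      · apply hfin
        apply hiv
        have e : (x * q⁻¹)⁻¹ = x⁻¹ * q := by
          rw [mul_inv_rev, inv_inv, H.Ac _ hy _ (inv_mem hx)]
        rw [e]
        exact hw
      · have e : (x * y)⁻¹ = x⁻¹ * y⁻¹ := by
          rw [mul_inv_rev, H.Ac _ (inv_mem hx) _ (inv_mem hy)]
        rw [← e] at hw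
        exact absurd (hiv _ hw) cxy
  have hny : n * y * n⁻¹ = x := by
    rw [← hnx]
    exact hnn' x
  refine ⟨h, hh, m, hm, ?_⟩
  have hc : h * m * h⁻¹ * m⁻¹ = n * m := by
    rw [← hn, inv_eq_of_mul_eq_one_left hmm]
  rw [hc]
  obtain ⟨c, hcd⟩ : ∃ c, c = n * m := ⟨_, rfl⟩
  rw [← hcd]
  have hca : c a = a := by rw [hcd, Equiv.Perm.mul_apply, H.Ma m hm, hna]
  have hcx : c * x * c⁻¹ = y := by rw [hcd, cc, hmx, hnx]
  have hcy : c * y * c⁻¹ = x⁻¹ := by rw [hcd, cc, hmy, ci, hny]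
  have hzc1 : z * c ^ 2 = 1 := by
    apply htr
    · rw [sq, Equiv.Perm.mul_apply, Equiv.Perm.mul_apply, hca, hca, H.Ma z hz]
    · rw [sq, cc, cc, hcx, hcy, hzi _ (inv_mem hx), inv_inv]
    · rw [sq, cc, cc, hcy, ci, hcx, hzi _ (inv_mem hy), inv_inv]
  have hc2 : c ^ 2 = z := by
    rw [eq_inv_of_mul_eq_one_right hzc1, inv_eq_of_mul_eq_one_left hzz]
  refine ⟨?_, ?_, ?_⟩
  · rw [show 4 = 2 * 2 from rfl, pow_mul, hc2, sq, hzz]
  · intro t ht
    rw [hc2]
    exact hzf t ht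
  · intro k hk
    rw [hc2]
    exact hzc k hk

end Hyp

/-- **The exceptional panel**; the square of the commutator is central. -/
theorem exc_panel' {Ω : Type u} [Finite Ω] (R M A : Subgroup (Equiv.Perm Ω)) (a b : Ω) (hb : b ≠ a)
    (_h2 : ∀ x y x' y' : Ω, x ≠ y → x' ≠ y' → ∃ g ∈ R, g x = x' ∧ g y = y')
    (hMR : M ≤ R) (hMa : ∀ m ∈ M, m a = a)
    (hMn : ∀ r ∈ R, r a = a → ∀ m ∈ M, r * m * r⁻¹ ∈ M) (hM2 : IsPGroup 2 M)
    (hMt : ∀ x y, x ≠ a → y ≠ a → ∃ m ∈ M, m x = y)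
    (hMb : ∀ m ∈ M, ∀ m' ∈ M, m b = b → m' b = b → m ≠ 1 → m' ≠ 1 → m = m')
    (hMb1 : ∃ m ∈ M, m b = b ∧ m ≠ 1)
    (hA : A ≤ R) (hAn : ∀ r ∈ R, ∀ x ∈ A, r * x * r⁻¹ ∈ A) (hAc : ∀ x ∈ A, ∀ y ∈ A, x * y = y * x)
    (hAt : ∀ x y, ∃ g ∈ A, g x = y) :
    Nat.card Ω = 9 ∧ Nat.card M = 16 ∧ (∀ r ∈ R, r a = a → r ∈ M) ∧
    (∀ b, b ≠ a → ∀ m ∈ M, m b = b → m ≠ 1 → ∃ e, e ≠ a ∧ e ≠ b ∧ m e = e) ∧
    (∃ g ∈ M, ∃ h ∈ M, (g * h * g⁻¹ * h⁻¹) ^ 4 = 1 ∧
      (∀ x, x ≠ a → ((g * h * g⁻¹ * h⁻¹) ^ 2) x ≠ x) ∧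
      (∀ m ∈ M, m * (g * h * g⁻¹ * h⁻¹) ^ 2 = (g * h * g⁻¹ * h⁻¹) ^ 2 * m)) := by
  have H : Hyp R M A a b := ⟨hb, hMR, hMa, hMn, hM2, hMt, hMb, hMb1, hA, hAn, hAc, hAt⟩
  exact ⟨H.nine.1, H.card_M, fun r hr hra => H.stabR hr hra,
    fun x hx k hk hkx _ => H.third hx hk hkx, H.comm4⟩

/-- **The exceptional panel.** -/
theorem exc_panel {Ω : Type u} [Finite Ω] (R M A : Subgroup (Equiv.Perm Ω)) (a b : Ω) (hb : b ≠ a)
    (_h2 : ∀ x y x' y' : Ω, x ≠ y → x' ≠ y' → ∃ g ∈ R, g x = x' ∧ g y = y')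
    (hMR : M ≤ R) (hMa : ∀ m ∈ M, m a = a)
    (hMn : ∀ r ∈ R, r a = a → ∀ m ∈ M, r * m * r⁻¹ ∈ M) (hM2 : IsPGroup 2 M)
    (hMt : ∀ x y, x ≠ a → y ≠ a → ∃ m ∈ M, m x = y)
    (hMb : ∀ m ∈ M, ∀ m' ∈ M, m b = b → m' b = b → m ≠ 1 → m' ≠ 1 → m = m')
    (hMb1 : ∃ m ∈ M, m b = b ∧ m ≠ 1)
    (hA : A ≤ R) (hAn : ∀ r ∈ R, ∀ x ∈ A, r * x * r⁻¹ ∈ A) (hAc : ∀ x ∈ A, ∀ y ∈ A, x * y = y * x)
    (hAt : ∀ x y, ∃ g ∈ A, g x = y) :
    Nat.card Ω = 9 ∧ Nat.card M = 16 ∧ (∀ r ∈ R, r a = a → r ∈ M) ∧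
    (∀ b, b ≠ a → ∀ m ∈ M, m b = b → m ≠ 1 → ∃ e, e ≠ a ∧ e ≠ b ∧ m e = e) ∧
    (∃ g ∈ M, ∃ h ∈ M, (g * h * g⁻¹ * h⁻¹) ^ 4 = 1 ∧
      ∀ x, x ≠ a → ((g * h * g⁻¹ * h⁻¹) ^ 2) x ≠ x) := by
  obtain ⟨h1, h3, h4, h5, g, hg, h, hh, h6, h7, -⟩ :=
    exc_panel' R M A a b hb _h2 hMR hMa hMn hM2 hMt hMb hMb1 hA hAn hAc hAt
  exact ⟨h1, h3, h4, h5, g, hg, h, hh, h6, h7⟩

end Cfsg.Agent.SplitTwo.ExcSD
end

-- part: SplitTwo/ExcTransfer
section
/-!
S1144, [N], the exceptional panel: the transfer lemma for equivariant families of homomorphisms of the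
point stabilisers onto a group of order two, and the fixed vector lemma.
-/

set_option autoImplicit false
set_option linter.unusedSectionVars false
set_option linter.style.haveILetI false

namespace Cfsg.Agent.SplitTwo.Exc

open MulAction

section transfer

variable {G C : Type*} [Group G] [MulAction G C]

/-- The transfer lemma. `χ` is an equivariant family of homomorphisms from the point stabilisers to
`ZMod 2`, and the powers of `u` fixing a point `d` have the same value at `c` and at `d`. -/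
theorem transfer_family [Finite G] [Finite C] (hG : ∀ f : G →* Multiplicative (ZMod 2), f = 1)
    (c : C) (hodd : Odd (Nat.card C)) (htr : ∀ d : C, ∃ g : G, g • c = d)
    (χ : C → G → ZMod 2)
    (hmul : ∀ g h : G, g • c = c → h • c = c → χ c (g * h) = χ c g + χ c h)
    (hconj : ∀ (k : G) (g : G), g • c = c → χ (k • c) (k * g * k⁻¹) = χ c g)
    (u : G) (hu : u • c = c)
    (agree : ∀ (k : ℕ) (d : C), (u ^ k) • d = d → χ d (u ^ k) = χ c (u ^ k)) : χ c u = 0 := by
  classical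
  let φ : stabilizer G c →* Multiplicative (ZMod 2) :=
    { toFun := fun g => Multiplicative.ofAdd (χ c (g : G))
      map_one' := by
        have h := hmul 1 1 (one_smul _ _) (one_smul _ _)
        rw [mul_one] at h
        have h2 : χ c (1 : G) = 0 := by linear_combination (-1 : ZMod 2) * h
        rw [Subgroup.coe_one, h2]
        rfl
      map_mul' := by
        intro g h
        rw [Subgroup.coe_mul, hmul _ _ g.2 h.2]
        rfl }
  have hpow : ∀ k : ℕ, χ c (u ^ k) = k • χ c u := by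
    intro k
    have h1 : φ ⟨u ^ k, Subgroup.pow_mem _ (mem_stabilizer_iff.2 hu) k⟩ =
        φ ⟨u, mem_stabilizer_iff.2 hu⟩ ^ k := by
      rw [← map_pow]
      rfl
    exact congrArg Multiplicative.toAdd h1
  haveI : (stabilizer G c).FiniteIndex := inferInstance
  letI := (stabilizer G c).fintypeQuotientOfFiniteIndex
  have h1 := hG (MonoidHom.transfer φ)
  have h2 := congrArg (fun f : G →* Multiplicative (ZMod 2) => f u) h1
  have h3 := MonoidHom.transfer_eq_prod_quotient_orbitRel_zpowers_quot φ u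
  have h4 : ∀ q : Quotient (orbitRel (Subgroup.zpowers u) (G ⧸ stabilizer G c)),
      φ ⟨q.out.out⁻¹ * u ^ Function.minimalPeriod (u • ·) q.out * q.out.out,
        QuotientGroup.out_conj_pow_minimalPeriod_mem (stabilizer G c) u q.out⟩ =
      (Multiplicative.ofAdd (χ c u)) ^ Function.minimalPeriod (u • ·) q.out := by
    intro q
    set n := Function.minimalPeriod (u • ·) q.out with hn
    set x : G := q.out.out with hx
    have hmem := QuotientGroup.out_conj_pow_minimalPeriod_mem (stabilizer G c) u q.out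
    have h5 : (x⁻¹ * u ^ n * x) • c = c := hmem
    have h6 : (u ^ n) • (x • c) = x • c := by
      rw [mul_smul, mul_smul] at h5
      have h7 := congrArg (fun y => x • y) h5
      simp only [smul_inv_smul] at h7
      exact h7
    have h8 := hconj x (x⁻¹ * u ^ n * x) h5
    have h9 : x * (x⁻¹ * u ^ n * x) * x⁻¹ = u ^ n := by group
    rw [h9, agree n _ h6, hpow n] at h8
    change Multiplicative.ofAdd (χ c (x⁻¹ * u ^ n * x)) = _
    rw [← h8]
    rfl
  rw [h3] at h2
  simp only [h4] at h2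
  rw [Finset.prod_pow_eq_pow_sum] at h2
  have h5 : ∑ q : Quotient (orbitRel (Subgroup.zpowers u) (G ⧸ stabilizer G c)),
      Function.minimalPeriod (u • ·) q.out = Nat.card C := by
    have h6 : (stabilizer G c).index = Nat.card C := by
      rw [index_stabilizer]
      have : orbit G c = Set.univ := by
        ext d
        simp only [Set.mem_univ, iff_true]
        exact htr d
      rw [this, Set.ncard_univ]
    rw [← h6, Subgroup.index_eq_card, Nat.card_eq_fintype_card,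
      Fintype.card_congr (selfEquivSigmaOrbits (Subgroup.zpowers u) (G ⧸ stabilizer G c)),
      Fintype.card_sigma]
    refine Finset.sum_congr rfl fun q _ => ?_
    rw [minimalPeriod_eq_card]
    exact Fintype.card_congr (Equiv.refl _)
  rw [h5] at h2
  obtain ⟨k, hk⟩ := hodd
  rw [hk] at h2
  have h6 : (2 * k + 1) • χ c u = 0 := by
    have := congrArg Multiplicative.toAdd h2
    simpa only [_root_.nsmul_eq_mul, _root_.Nat.cast_add, _root_.Nat.cast_mul, _root_.Nat.cast_ofNat, _root_.Nat.cast_one, _root_.mul_eq_zero, _root_.toAdd_pow, _root_.toAdd_ofAdd, _root_.MonoidHom.one_apply, _root_.toAdd_one] using this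
  rw [add_smul, one_smul, mul_comm, mul_smul] at h6
  have h7 : (2 : ℕ) • χ c u = 0 := by
    rw [two_nsmul]
    exact CharTwo.add_self_eq_zero _
  rw [h7, smul_zero, zero_add] at h6
  exact h6

end transfer

/-- Fixed vectors of a 2-group in a permutation module over an elementary abelian 2-group. -/
theorem exists_fixed_tuple {S Ω Θ : Type*} [Group S] [MulAction S Ω] [Finite Ω] [AddCommGroup Θ]
    [Finite Θ] (h2 : ∀ θ : Θ, θ + θ = 0) (hS : IsPGroup 2 S) (L : AddSubgroup (Ω → Θ))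
    (hL : ∀ (s : S), ∀ f ∈ L, (fun d => f (s⁻¹ • d)) ∈ L) {f : Ω → Θ} (hf : f ∈ L) (hf0 : f ≠ 0) :
    ∃ f ∈ L, f ≠ 0 ∧ ∀ (s : S) d, f (s • d) = f d := by
  classical
  letI : MulAction S L :=
    { smul := fun s f => ⟨fun d => (f : Ω → Θ) (s⁻¹ • d), hL s f f.2⟩
      one_smul := by
        intro f
        ext d
        change (f : Ω → Θ) ((1 : S)⁻¹ • d) = _
        rw [inv_one, one_smul]
      mul_smul := by
        intro s t f
        ext d
        change (f : Ω → Θ) ((s * t)⁻¹ • d) = (f : Ω → Θ) (t⁻¹ • s⁻¹ • d)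
        rw [mul_inv_rev, mul_smul] }
  haveI : Fact (Nat.Prime 2) := ⟨Nat.prime_two⟩
  have hsm : ∀ (s : S) (f : L) (d : Ω), ((s • f : L) : Ω → Θ) d = (f : Ω → Θ) (s⁻¹ • d) :=
    fun s f d => rfl
  have hcard : 2 ∣ Nat.card L := by
    have h1 : addOrderOf (⟨f, hf⟩ : L) = 2 := by
      refine addOrderOf_eq_prime ?_ ?_
      · ext d
        change (2 • f) d = 0
        rw [Pi.smul_apply, two_nsmul, h2]
      · intro h
        exact hf0 (congrArg Subtype.val h)
    rw [← h1]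
    exact addOrderOf_dvd_natCard _
  have h0 : (0 : L) ∈ fixedPoints S L := by
    intro s
    ext d
    rfl
  obtain ⟨g, hg, hg0⟩ := hS.exists_fixed_point_of_prime_dvd_card_of_fixed_point L hcard h0
  refine ⟨g, g.2, fun h => hg0 (Subtype.ext h.symm), fun s d => ?_⟩
  have h1 := congrArg (fun f : L => (f : Ω → Θ) (s • d)) (hg s)
  simp only [hsm, inv_smul_smul] at h1
  exact h1.symm

/-- A proper subgroup of a finite 2-group lies in the kernel of a non-trivial homomorphism to a group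
of order two. -/
theorem exists_hom_of_ne_top {P : Type*} [Group P] [Finite P] (hP : IsPGroup 2 P) (H : Subgroup P)
    (hH : H ≠ ⊤) : ∃ f : P →* Multiplicative (ZMod 2), f ≠ 1 ∧ ∀ h ∈ H, f h = 1 := by
  classical
  haveI : Fact (Nat.Prime 2) := ⟨Nat.prime_two⟩
  obtain ⟨K, hK, hHK⟩ : ∃ K : Subgroup P, IsCoatom K ∧ H ≤ K := by
    rcases eq_top_or_exists_le_coatom H with h | h
    · exact absurd h hH
    · exact h
  haveI hnil : Group.IsNilpotent P := hP.isNilpotent
  haveI hn : K.Normal := by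
    exact Subgroup.NormalizerCondition.normal_of_coatom K
      Group.normalizerCondition_of_isNilpotent hK
  haveI hs : IsSimpleGroup (P ⧸ K) := by
    haveI : Nontrivial (P ⧸ K) := by
      rw [QuotientGroup.nontrivial_iff]
      exact hK.1
    refine ⟨fun N hN => ?_⟩
    have h1 : K ≤ N.comap (QuotientGroup.mk' K) := by
      intro x hx
      rw [Subgroup.mem_comap, QuotientGroup.mk'_apply, (QuotientGroup.eq_one_iff x).2 hx]
      exact one_mem _
    rcases hK.le_iff.1 h1 with h2 | h2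
    · right
      rw [eq_top_iff]
      intro y _
      obtain ⟨x, rfl⟩ := QuotientGroup.mk'_surjective K y
      have : x ∈ N.comap (QuotientGroup.mk' K) := by rw [h2]; trivial
      exact this
    · left
      rw [eq_bot_iff]
      intro y hy
      obtain ⟨x, rfl⟩ := QuotientGroup.mk'_surjective K y
      have : x ∈ N.comap (QuotientGroup.mk' K) := hy
      rw [h2] at this
      rw [Subgroup.mem_bot, QuotientGroup.mk'_apply]
      exact (QuotientGroup.eq_one_iff x).2 this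
  have hq : IsPGroup 2 (P ⧸ K) := hP.to_quotient K
  have hcard : Nat.card (P ⧸ K) = 2 := by
    haveI : Nontrivial (Subgroup.center (P ⧸ K)) := hq.center_nontrivial
    have h1 : Subgroup.center (P ⧸ K) = ⊤ := by
      rcases (inferInstance : (Subgroup.center (P ⧸ K)).Normal).eq_bot_or_eq_top with h | h
      · exact absurd h (Subgroup.nontrivial_iff_ne_bot _ |>.1 inferInstance)
      · exact h
    letI : CommGroup (P ⧸ K) := Group.commGroupOfCenterEqTop h1
    have h2 : (Nat.card (P ⧸ K)).Prime := IsSimpleGroup.prime_card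
    obtain ⟨n, hn⟩ := IsPGroup.iff_card.1 hq
    rw [hn] at h2 ⊢
    have h3 : n = 1 := by
      rcases Nat.Prime.eq_one_of_pow h2 with rfl
      rfl
    rw [h3, pow_one]
  haveI hcyc : IsCyclic (P ⧸ K) := isCyclic_of_prime_card hcard
  have e : (P ⧸ K) ≃* Multiplicative (ZMod 2) := by
    refine mulEquivOfCyclicCardEq ?_
    rw [hcard]
    simp
  refine ⟨e.toMonoidHom.comp (QuotientGroup.mk' K), ?_, ?_⟩
  · intro h
    obtain ⟨x, hx⟩ : ∃ x, x ∉ K := by
      by_contra hcon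
      push Not at hcon
      exact hK.1 (eq_top_iff.2 fun x _ => hcon x)
    apply hx
    have h1 := congrArg (fun f : P →* Multiplicative (ZMod 2) => f x) h
    simp only [MonoidHom.comp_apply, MulEquiv.coe_toMonoidHom, MonoidHom.one_apply,
      EmbeddingLike.map_eq_one_iff] at h1
    exact (QuotientGroup.eq_one_iff x).1 h1
  · intro x hx
    rw [MonoidHom.comp_apply, QuotientGroup.mk'_apply, (QuotientGroup.eq_one_iff x).2 (hHK hx),
      map_one]

end Cfsg.Agent.SplitTwo.Exc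
end

-- part: SplitTwo/ExcFam
section
/-!
S1144, [N], the exceptional panel: the general surjectivity theorem. `Fam Δ G` is a family of normal
2-subgroups `U c` of the chamber stabilisers. If every element of `G_c` acts on the `j`-panel of `c` as an
element of `U c`, then the kernel `Q` of `U c` on the `i`-panel of `c` acts on the `j`-panels of the other
chambers of this panel in all possible ways.
-/

set_option autoImplicit false
set_option linter.unusedSectionVars false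
set_option linter.style.haveILetI false

namespace Cfsg.Agent.SplitTwo.Exc

open Cfsg.Agent.Tits.Core Cfsg.Agent.Tits.Core.Bldg

/-- A family of normal 2-subgroups of the chamber stabilisers, transitive on the spheres. -/
structure Fam {I : Type*} {M : CoxeterMatrix I} {W : Type*} [Group W] {cs : CoxeterSystem M W}
    {C : Type*} (Δ : Bldg cs C) (G : Type*) [Group G] [MulAction G C] where
  iso : ∀ (g : G) x y, Δ.δ (g • x) (g • y) = Δ.δ x y
  trans : ∀ x y x' y', Δ.δ x y = Δ.δ x' y' → ∃ g : G, g • x = x' ∧ g • y = y'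
  thick : Δ.Thick
  U : C → Subgroup G
  fix : ∀ c, ∀ u ∈ U c, u • c = c
  conj : ∀ (g : G) c, ∀ u ∈ U c, g * u * g⁻¹ ∈ U (g • c)
  two : ∀ c, IsPGroup 2 (U c)
  sphere : ∀ c x y, Δ.δ c x = Δ.δ c y → ∃ u ∈ U c, u • x = y
  walk1 : ∀ c d i, Δ.δ c d = cs.simple i → ∀ u ∈ U c, u • d = d → u ∈ U d
  three : ∀ c d i, Δ.δ c d = cs.simple i → ∀ u ∈ U c, u • d = d → (∃ x ∈ Δ.Pan i c, u • x ≠ x) →
    (∃ e ∈ Δ.Pan i c, e ≠ c ∧ e ≠ d ∧ u • e = e) ∧
    ∀ v ∈ U c, v • d = d → (∃ x ∈ Δ.Pan i c, v • x ≠ x) → ∀ x ∈ Δ.Pan i c, (u⁻¹ * v) • x = x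

namespace Fam

variable {I : Type*} {M : CoxeterMatrix I} {W : Type*} [Group W] {cs : CoxeterSystem M W}
variable {C : Type*} {Δ : Bldg cs C} {G : Type*} [Group G] [MulAction G C]

local notation "ℓ" => cs.length

variable (F : Fam Δ G)

include F

theorem smul_Pan (g : G) {i : I} {c d : C} (h : d ∈ Δ.Pan i c) : g • d ∈ Δ.Pan i (g • c) := by
  rcases h with rfl | h
  · exact Or.inl rfl
  · right
    rw [F.iso]
    exact h

theorem smul_Pan_iff (g : G) {i : I} {c d : C} : g • d ∈ Δ.Pan i (g • c) ↔ d ∈ Δ.Pan i c := by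
  refine ⟨fun h => ?_, F.smul_Pan g⟩
  have := F.smul_Pan g⁻¹ h
  rwa [inv_smul_smul, inv_smul_smul] at this

/-- `g` stabilises the panel of `c` if it moves `c` in the panel. -/
theorem smul_Pan_stab {g : G} {i : I} {c : C} (hg : g • c ∈ Δ.Pan i c) {d : C} :
    g • d ∈ Δ.Pan i c ↔ d ∈ Δ.Pan i c := by
  conv_rhs => rw [← F.smul_Pan_iff g, Δ.Pan_eq_of_mem hg]

theorem fix_between {g : G} {x y z : C} (hx : g • x = x) (hz : g • z = z)
    (hl : ℓ (Δ.δ x y * Δ.δ y z) = ℓ (Δ.δ x y) + ℓ (Δ.δ y z)) : g • y = y := by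
  have h1 : Δ.δ x (g • y) = Δ.δ x y := by
    conv_lhs => rw [← hx]
    exact F.iso g x y
  have h2 : Δ.δ (g • y) z = Δ.δ y z := by
    conv_lhs => rw [← hz]
    exact F.iso g y z
  exact Δ.between_unique hl h1 h2 rfl rfl

/-- An element of `U c` fixing `d` is in `U d`. More generally, a property of chambers which passes
from a chamber to an adjacent one fixed by `u` holds for all chambers fixed by `u`. -/
theorem walk {P : C → Prop} {c d : C} {u : G} (hu : u ∈ F.U c) (hd : u • d = d) (hc : P c)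
    (step : ∀ a b i, Δ.δ a b = cs.simple i → u ∈ F.U a → u ∈ F.U b → P a → P b) :
    u ∈ F.U d ∧ P d := by
  induction hn : ℓ (Δ.δ c d) generalizing d with
  | zero =>
    have h1 : c = d := Δ.eq_of_δ_eq_one (cs.length_eq_zero_iff.1 hn)
    rw [← h1]
    exact ⟨hu, hc⟩
  | succ n ih =>
    have hne : Δ.δ c d ≠ 1 := by
      intro h1
      rw [h1, cs.length_one] at hn
      omega
    obtain ⟨i, hi⟩ := cs.exists_rightDescent_of_ne_one hne
    have hi' := cs.isRightDescent_iff.1 hi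
    obtain ⟨d', hd1, hd2⟩ := Δ.exists_step c d i
    have hd3 : Δ.δ d' d = cs.simple i := Δ.δ_symm_simple hd1
    have hfix : u • d' = d' := by
      refine F.fix_between (x := c) (z := d) (F.fix c u hu) hd ?_
      rw [hd2, hd3, mul_assoc, cs.simple_mul_simple_self, mul_one, cs.length_simple]
      omega
    obtain ⟨h1, h2⟩ := ih hfix (by rw [hd2]; omega)
    have h3 := F.walk1 d' d i hd3 u h1 hd
    exact ⟨h3, step d' d i hd3 h1 h3 h2⟩

theorem mem_of_fix {c d : C} {u : G} (hu : u ∈ F.U c) (hd : u • d = d) : u ∈ F.U d :=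
  (F.walk (P := fun _ => True) hu hd trivial fun _ _ _ _ _ _ _ => trivial).1

theorem conj_mem_iff (g : G) (c : C) (u : G) : g * u * g⁻¹ ∈ F.U (g • c) ↔ u ∈ F.U c := by
  refine ⟨fun h => ?_, F.conj g c u⟩
  have h1 := F.conj g⁻¹ _ _ h
  rw [inv_smul_smul] at h1
  have e : g⁻¹ * (g * u * g⁻¹) * g⁻¹⁻¹ = u := by group
  rwa [e] at h1

theorem tr (c d : C) : ∃ g : G, g • c = d := by
  obtain ⟨g, hg, -⟩ := F.trans c c d d (by rw [Δ.δ_self, Δ.δ_self])
  exact ⟨g, hg⟩

theorem tr_Pan {i : I} {c x y : C} (hx : x ∈ Δ.Pan i c) (hy : y ∈ Δ.Pan i c) (hxc : x ≠ c)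
    (hyc : y ≠ c) : ∃ u ∈ F.U c, u • x = y := by
  rcases hx with rfl | hx
  · exact absurd rfl hxc
  rcases hy with rfl | hy
  · exact absurd rfl hyc
  exact F.sphere c x y (hx.trans hy.symm)

/-- The equivariant families of homomorphisms `G_c → ZMod 2`, trivial on the kernel of the
`j`-panel. -/
def Th (_F : Fam Δ G) (j : I) : AddSubgroup (C → G → ZMod 2) where
  carrier := {f | (∀ c g h, g • c = c → h • c = c → f c (g * h) = f c g + f c h) ∧
    (∀ (k : G) c g, g • c = c → f (k • c) (k * g * k⁻¹) = f c g) ∧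
    (∀ c g, g • c ≠ c → f c g = 0) ∧ (∀ c g, (∀ d ∈ Δ.Pan j c, g • d = d) → f c g = 0)}
  zero_mem' := ⟨fun _ _ _ _ _ => (add_zero 0).symm, fun _ _ _ _ => rfl, fun _ _ _ => rfl,
    fun _ _ _ => rfl⟩
  add_mem' := by
    rintro f f' ⟨h1, h2, h3, h4⟩ ⟨h1', h2', h3', h4'⟩
    refine ⟨fun c g h hg hh => ?_, fun k c g hg => ?_, fun c g hg => ?_, fun c g hg => ?_⟩
    · simp only [Pi.add_apply]
      rw [h1 c g h hg hh, h1' c g h hg hh]
      abel
    · simp only [Pi.add_apply]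
      rw [h2 k c g hg, h2' k c g hg]
    · simp only [Pi.add_apply]
      rw [h3 c g hg, h3' c g hg, add_zero]
    · simp only [Pi.add_apply]
      rw [h4 c g hg, h4' c g hg, add_zero]
  neg_mem' := by
    rintro f ⟨h1, h2, h3, h4⟩
    refine ⟨fun c g h hg hh => ?_, fun k c g hg => ?_, fun c g hg => ?_, fun c g hg => ?_⟩
    · simp only [Pi.neg_apply]
      rw [h1 c g h hg hh]
      abel
    · simp only [Pi.neg_apply]
      rw [h2 k c g hg]
    · simp only [Pi.neg_apply]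
      rw [h3 c g hg, neg_zero]
    · simp only [Pi.neg_apply]
      rw [h4 c g hg, neg_zero]

omit F in
theorem two_eq_zero (x : ZMod 2) : x + x = 0 := CharTwo.add_self_eq_zero x

section Th

variable {j : I} {χ : C → G → ZMod 2} (hχ : χ ∈ F.Th j)

include hχ

theorem Th_mul {c : C} {g h : G} (hg : g • c = c) (hh : h • c = c) :
    χ c (g * h) = χ c g + χ c h := hχ.1 c g h hg hh

theorem Th_one (c : C) : χ c 1 = 0 := by
  have h := hχ.1 c 1 1 (one_smul _ _) (one_smul _ _)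
  rw [mul_one] at h
  linear_combination (-1 : ZMod 2) * h

theorem Th_inv {c : C} {g : G} (hg : g • c = c) : χ c g⁻¹ = χ c g := by
  have hg' : g⁻¹ • c = c := by rw [inv_smul_eq_iff, hg]
  have h := hχ.1 c g g⁻¹ hg hg'
  rw [mul_inv_cancel, F.Th_one hχ] at h
  have h2 := two_eq_zero (χ c g)
  linear_combination (-1 : ZMod 2) * h - h2

theorem Th_conj (k : G) {c : C} {g : G} (hg : g • c = c) : χ (k • c) (k * g * k⁻¹) = χ c g :=
  hχ.2.1 k c g hg

theorem Th_ker {c : C} {g : G} (hg : ∀ d ∈ Δ.Pan j c, g • d = d) : χ c g = 0 := hχ.2.2.2 c g hg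

/-- The line trick. If the values of `χ` agree on the kernels of the `i`-panels, they agree on
`U a ∩ U b` for `a`, `b` in an `i`-panel. -/
theorem Th_adj {i : I}
    (hK : ∀ a b, b ∈ Δ.Pan i a → ∀ q ∈ F.U a, (∀ x ∈ Δ.Pan i a, q • x = x) → χ a q = χ b q)
    {a b : C} (hab : Δ.δ a b = cs.simple i) {u : G} (hu : u ∈ F.U a) (hb : u • b = b) :
    χ a u = χ b u := by
  by_cases hker : ∀ x ∈ Δ.Pan i a, u • x = x
  · exact hK a b (Or.inr hab) u hu hker
  push Not at hker
  -- the value does not depend on the pair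
  have key : ∀ c d, Δ.δ c d = cs.simple i → ∀ v ∈ F.U c, v • d = d →
      (∃ x ∈ Δ.Pan i c, v • x ≠ x) → χ c v + χ d v = χ a u + χ b u := by
    intro c d hcd v hv hvd hvx
    obtain ⟨g, hg1, hg2⟩ := F.trans a b c d (hab.trans hcd.symm)
    have hw1 : g * u * g⁻¹ ∈ F.U c := by
      rw [← hg1]
      exact F.conj g a u hu
    have hw2 : (g * u * g⁻¹) • d = d := by
      rw [← hg2, mul_smul, mul_smul, inv_smul_smul, hb]
    have hw3 : ∃ x ∈ Δ.Pan i c, (g * u * g⁻¹) • x ≠ x := by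
      obtain ⟨x, hx, hxx⟩ := hker
      refine ⟨g • x, ?_, ?_⟩
      · rw [← hg1]
        exact F.smul_Pan g hx
      · rw [mul_smul, mul_smul, inv_smul_smul]
        exact fun h => hxx (smul_left_cancel g h)
    have h4 := (F.three c d i hcd v hv hvd hvx).2 _ hw1 hw2 hw3
    have h5 : v⁻¹ * (g * u * g⁻¹) ∈ F.U c := mul_mem (inv_mem hv) hw1
    have h6 := hK c d (Or.inr hcd) _ h5 h4
    have hvc := F.fix c v hv
    have hvc' : v⁻¹ • c = c := by rw [inv_smul_eq_iff, hvc]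
    have hvd' : v⁻¹ • d = d := by rw [inv_smul_eq_iff, hvd]
    have hwc := F.fix c _ hw1
    rw [F.Th_mul hχ hvc' hwc, F.Th_mul hχ hvd' hw2, F.Th_inv hχ hvc, F.Th_inv hχ hvd] at h6
    have h7 : χ c (g * u * g⁻¹) = χ a u := by
      rw [← hg1]
      exact F.Th_conj hχ g (F.fix a u hu)
    have h8 : χ d (g * u * g⁻¹) = χ b u := by
      rw [← hg2]
      exact F.Th_conj hχ g hb
    rw [h7, h8] at h6
    have e1 := two_eq_zero (χ d v)
    have e2 := two_eq_zero (χ a u)
    linear_combination h6 + e1 - e2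
  obtain ⟨⟨e, he, hea, heb, hue⟩, -⟩ := F.three a b i hab u hu hb hker
  have hae : Δ.δ a e = cs.simple i := by
    rcases he with rfl | h
    · exact absurd rfl hea
    · exact h
  have hbe : Δ.δ b e = cs.simple i := by
    have h1 : b ∈ Δ.Pan i a := Or.inr hab
    exact Δ.δ_eq_of_mem_Pan h1 he (Ne.symm heb)
  have hub := F.walk1 a b i hab u hu hb
  have h1 := key a e hae u hu hue hker
  have h2 := key b e hbe u hub hue (by
    rw [Δ.Pan_eq_of_mem (Or.inr hab : b ∈ Δ.Pan i a)]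
    exact hker)
  linear_combination h1 - h2

end Th

/-- If the values of `χ` agree on the kernels of the `i`-panels, `χ` is zero. -/
theorem Th_eq_zero [Finite G] [Finite C] (hG : ∀ f : G →* Multiplicative (ZMod 2), f = 1)
    (hodd : Odd (Nat.card C)) {i j : I} (hI : ∀ k, k = i ∨ k = j)
    (hj : ∀ (c : C) (g : G), g • c = c → ∃ u ∈ F.U c, ∀ x ∈ Δ.Pan j c, (u⁻¹ * g) • x = x)
    {χ : C → G → ZMod 2} (hχ : χ ∈ F.Th j)
    (hK : ∀ a b, b ∈ Δ.Pan i a → ∀ q ∈ F.U a, (∀ x ∈ Δ.Pan i a, q • x = x) → χ a q = χ b q) :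
    χ = 0 := by
  have hK' : ∀ a b, b ∈ Δ.Pan j a → ∀ q ∈ F.U a, (∀ x ∈ Δ.Pan j a, q • x = x) →
      χ a q = χ b q := by
    intro a b hab q hq hqx
    rw [F.Th_ker hχ hqx, F.Th_ker hχ]
    rwa [Δ.Pan_eq_of_mem hab]
  have hU : ∀ c, ∀ u ∈ F.U c, χ c u = 0 := by
    intro c u hu
    refine transfer_family hG c hodd (F.tr c) χ (fun g h hg hh => F.Th_mul hχ hg hh)
      (fun k g hg => F.Th_conj hχ k hg) u (F.fix c u hu) ?_
    intro k d hd
    refine (F.walk (P := fun d => χ d (u ^ k) = χ c (u ^ k)) (pow_mem hu k) hd rfl ?_).2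
    intro a b l hab ha hb h1
    rw [← h1]
    rcases hI l with rfl | rfl
    · exact (F.Th_adj hχ hK hab ha (F.fix b _ hb)).symm
    · exact (F.Th_adj hχ hK' hab ha (F.fix b _ hb)).symm
  funext c g
  by_cases hg : g • c = c
  · obtain ⟨u, hu, h1⟩ := hj c g hg
    have hu' : u⁻¹ • c = c := F.fix c _ (inv_mem hu)
    have h2 : χ c (u * (u⁻¹ * g)) = χ c u + χ c (u⁻¹ * g) :=
      F.Th_mul hχ (F.fix c u hu) (by rw [mul_smul, hg, hu'])
    rw [mul_inv_cancel_left, hU c u hu, F.Th_ker hχ h1, add_zero] at h2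
    exact h2
  · exact hχ.2.2.1 c g hg

/-- The tuples of families which vanish on the kernel of `U c` on the `i`-panel of `c`. -/
def L [Fintype C] (i j : I) (c : C) : AddSubgroup (C → C → G → ZMod 2) where
  carrier := {f | (∀ d, f d ∈ F.Th j) ∧ (∀ d, d ∉ Δ.Pan i c → f d = 0) ∧
    ∀ q ∈ F.U c, (∀ x ∈ Δ.Pan i c, q • x = x) → ∑ d, f d d q = 0}
  zero_mem' := ⟨fun _ => zero_mem _, fun _ _ => rfl, fun _ _ _ => Finset.sum_const_zero⟩
  add_mem' := by
    rintro f f' ⟨h1, h2, h3⟩ ⟨h1', h2', h3'⟩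
    refine ⟨fun d => add_mem (h1 d) (h1' d), fun d hd => ?_, fun q hq hqx => ?_⟩
    · rw [Pi.add_apply, h2 d hd, h2' d hd, add_zero]
    · simp only [Pi.add_apply]
      rw [Finset.sum_add_distrib, h3 q hq hqx, h3' q hq hqx, add_zero]
  neg_mem' := by
    rintro f ⟨h1, h2, h3⟩
    refine ⟨fun d => neg_mem (h1 d), fun d hd => ?_, fun q hq hqx => ?_⟩
    · rw [Pi.neg_apply, h2 d hd, neg_zero]
    · simp only [Pi.neg_apply]
      rw [Finset.sum_neg_distrib, h3 q hq hqx, neg_zero]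

theorem L_inv [Fintype C] {i j : I} {c : C} {f : C → C → G → ZMod 2} (hf : f ∈ F.L i j c) {h : G}
    (hh : h • c ∈ Δ.Pan i c) : (fun d => f (h • d)) ∈ F.L i j c := by
  obtain ⟨h1, h2, h3⟩ := hf
  refine ⟨fun d => h1 _, fun d hd => h2 _ ?_, fun q hq hqx => ?_⟩
  · rwa [F.smul_Pan_stab hh]
  · have hx : ∀ x ∈ Δ.Pan i c, (h * q * h⁻¹) • x = x := by
      intro x hx
      have h4 : h⁻¹ • x ∈ Δ.Pan i c := by
        rw [← F.smul_Pan_stab hh, smul_inv_smul]
        exact hx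
      rw [mul_smul, mul_smul, hqx _ h4, smul_inv_smul]
    have hq1 : h * q * h⁻¹ ∈ F.U c :=
      F.mem_of_fix (F.conj h c q hq) (hx c (Δ.self_mem_Pan i c))
    have h4 := h3 _ hq1 hx
    rw [← Equiv.sum_comp (MulAction.toPerm h)] at h4
    rw [← h4]
    refine Finset.sum_congr rfl fun d _ => ?_
    rw [MulAction.toPerm_apply]
    by_cases hd : q • d = d
    · exact ((h1 (h • d)).2.1 h d q hd).symm
    · change f (h • d) d q = _
      rw [(h1 (h • d)).2.2.1 d q hd, (h1 (h • d)).2.2.1 (h • d)]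
      rw [mul_smul, mul_smul, inv_smul_smul]
      exact fun h => hd (smul_left_cancel _ h)

theorem even_card {i : I} {c : C} {P : Finset C} [DecidableEq C]
    (hP : ∀ d, d ∈ P ↔ d ∈ Δ.Pan i c) : Even (P.erase c).card := by
  obtain ⟨y, z, hyz, hy, hz⟩ := F.thick c i
  have hyc : y ≠ c := (Δ.ne_of_δ_simple hy).symm
  have hzc : z ≠ c := (Δ.ne_of_δ_simple hz).symm
  have horb : MulAction.orbit (F.U c) y = ((P.erase c : Finset C) : Set C) := by
    ext d
    rw [Finset.mem_coe, Finset.mem_erase, hP]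
    constructor
    · rintro ⟨u, rfl⟩
      have hu := F.fix c u u.2
      refine ⟨fun h => hyc ?_, ?_⟩
      · have h1 : (u : G) • y = (u : G) • c := by rw [hu]; exact h
        exact smul_left_cancel _ h1
      · have h1 := F.smul_Pan (u : G) (Or.inr hy : y ∈ Δ.Pan i c)
        rwa [hu] at h1
    · rintro ⟨h1, h2⟩
      obtain ⟨u, hu, hud⟩ := F.tr_Pan (Or.inr hy : y ∈ Δ.Pan i c) h2 hyc h1
      exact ⟨⟨u, hu⟩, hud⟩
  haveI : Finite (MulAction.orbit (F.U c) y) := by
    rw [horb]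
    infer_instance
  haveI : Fact (Nat.Prime 2) := ⟨Nat.prime_two⟩
  obtain ⟨n, hn⟩ := (F.two c).card_orbit y
  rw [horb] at hn
  have h1 : (P.erase c).card = 2 ^ n := by
    rw [← hn, Nat.card_coe_set_eq, Set.ncard_coe_finset]
  have h2 : 1 < (P.erase c).card := by
    rw [Finset.one_lt_card]
    refine ⟨y, ?_, z, ?_, hyz⟩
    · rw [Finset.mem_erase, hP]
      exact ⟨hyc, Or.inr hy⟩
    · rw [Finset.mem_erase, hP]
      exact ⟨hzc, Or.inr hz⟩
  rw [h1] at h2 ⊢
  have h3 : n ≠ 0 := by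
    rintro rfl
    simp at h2
  exact (Nat.even_pow' h3).2 even_two

/-- The tuples which vanish on the kernel are constant. -/
theorem L_const [Finite G] [Fintype C] (hG : ∀ f : G →* Multiplicative (ZMod 2), f = 1)
    (hodd : Odd (Nat.card C)) {i j : I} (hI : ∀ k, k = i ∨ k = j)
    (hj : ∀ (c : C) (g : G), g • c = c → ∃ u ∈ F.U c, ∀ x ∈ Δ.Pan j c, (u⁻¹ * g) • x = x)
    {c : C} {f : C → C → G → ZMod 2} (hf : f ∈ F.L i j c) {a b : C} (ha : a ∈ Δ.Pan i c)
    (hb : b ∈ Δ.Pan i c) : f a = f b := by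
  classical
  by_contra hne
  obtain ⟨h, hh⟩ := F.tr a b
  have hhc : h • c ∈ Δ.Pan i c := by
    have h1 : h • a ∈ Δ.Pan i a := by
      rw [hh, Δ.Pan_eq_of_mem ha]
      exact hb
    have h2 := (F.smul_Pan_stab h1 (d := c)).2 (Δ.mem_Pan_symm ha)
    rwa [Δ.Pan_eq_of_mem ha] at h2
  -- the tuples with sum zero
  let L0 : AddSubgroup (C → C → G → ZMod 2) :=
    { carrier := {f | f ∈ F.L i j c ∧ ∑ d, f d = 0}
      zero_mem' := ⟨zero_mem _, Finset.sum_const_zero⟩
      add_mem' := by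
        rintro f f' ⟨h1, h2⟩ ⟨h1', h2'⟩
        refine ⟨add_mem h1 h1', ?_⟩
        simp only [Pi.add_apply]
        rw [Finset.sum_add_distrib, h2, h2', add_zero]
      neg_mem' := by
        rintro f ⟨h1, h2⟩
        refine ⟨neg_mem h1, ?_⟩
        simp only [Pi.neg_apply]
        rw [Finset.sum_neg_distrib, h2, neg_zero] }
  have hL0 : ∀ f, f ∈ L0 ↔ f ∈ F.L i j c ∧ ∑ d, f d = 0 := fun f => Iff.rfl
  have hμ : (f - fun d => f (h • d)) ∈ L0 := by
    refine (hL0 _).2 ⟨sub_mem hf (F.L_inv hf hhc), ?_⟩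
    simp only [Pi.sub_apply]
    rw [Finset.sum_sub_distrib]
    rw [sub_eq_zero]
    exact (Equiv.sum_comp (MulAction.toPerm h) f).symm
  have hμ0 : (f - fun d => f (h • d)) ≠ 0 := by
    intro h0
    have h1 := congrFun h0 a
    simp only [Pi.sub_apply, Pi.zero_apply] at h1
    rw [hh, sub_eq_zero] at h1
    exact hne h1
  obtain ⟨ν, hν, hν0, hνf⟩ := exists_fixed_tuple (S := F.U c) (Ω := C) (Θ := C → G → ZMod 2)
    (fun θ => by
      funext x g
      exact two_eq_zero _) (F.two c) L0 (by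
      intro s f hf
      obtain ⟨h1, h2⟩ := (hL0 _).1 hf
      refine (hL0 _).2 ⟨?_, ?_⟩
      · exact F.L_inv (h := ((s⁻¹ : F.U c) : G)) h1 (by
          rw [F.fix c _ (s⁻¹ : F.U c).2]
          exact Δ.self_mem_Pan i c)
      · rw [← h2]
        exact Equiv.sum_comp (MulAction.toPerm (s⁻¹ : F.U c)) f) hμ hμ0
  obtain ⟨hνL, hνs⟩ := (hL0 _).1 hν
  -- the common value
  obtain ⟨d1, -, hd1, -⟩ : ∃ y z, Δ.δ c y = cs.simple i ∧ z = z ∧ True := by
    obtain ⟨y, z, -, h1, h2⟩ := F.thick c i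
    exact ⟨y, z, h1, rfl, trivial⟩
  have hd1' : d1 ≠ c := (Δ.ne_of_δ_simple hd1).symm
  set χ := ν d1 with hχ
  have hχT : χ ∈ F.Th j := hνL.1 d1
  have hνd : ∀ d ∈ Δ.Pan i c, d ≠ c → ν d = χ := by
    intro d hd hdc
    obtain ⟨u, hu, hud⟩ := F.tr_Pan (Or.inr hd1 : d1 ∈ Δ.Pan i c) hd hd1' hdc
    rw [← hud]
    exact hνf ⟨u, hu⟩ d1
  have h2χ : χ + χ = 0 := by
    funext x g
    exact two_eq_zero _
  set P : Finset C := Finset.univ.filter (fun d => d ∈ Δ.Pan i c) with hP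
  have hPm : ∀ d, d ∈ P ↔ d ∈ Δ.Pan i c := fun d => by simp [hP]
  have hcP : c ∈ P := (hPm c).2 (Δ.self_mem_Pan i c)
  have hPcard : Even (P.erase c).card := F.even_card hPm
  have hνc : ν c = 0 := by
    have h1 : ∑ d ∈ P, ν d = 0 := by
      rw [← hνs]
      exact Finset.sum_subset (Finset.subset_univ _) fun d _ hd => hνL.2.1 d fun h => hd ((hPm d).2 h)
    rw [← Finset.add_sum_erase _ _ hcP] at h1
    have h2 : ∑ d ∈ P.erase c, ν d = ∑ d ∈ P.erase c, χ :=
      Finset.sum_congr rfl fun d hd => by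
        rw [Finset.mem_erase] at hd
        exact hνd d ((hPm d).1 hd.2) hd.1
    obtain ⟨n, hn⟩ := hPcard
    rw [h2, Finset.sum_const, hn, add_smul, ← smul_add, h2χ, smul_zero, add_zero] at h1
    exact h1
  have hχ0 : χ ≠ 0 := by
    intro h0
    apply hν0
    funext d
    by_cases hd : d ∈ Δ.Pan i c
    · by_cases hdc : d = c
      · rw [hdc, hνc]
        rfl
      · rw [hνd d hd hdc, h0]
        rfl
    · exact hνL.2.1 d hd
  -- all the values agree on the kernel
  have hval : ∀ q ∈ F.U c, (∀ x ∈ Δ.Pan i c, q • x = x) → ∀ a ∈ Δ.Pan i c,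
      χ a q = ∑ d ∈ P, χ d q := by
    intro q hq hqx a ha
    obtain ⟨h, hh⟩ := F.tr a c
    have hhc : h • c ∈ Δ.Pan i c := by
      have h1 : h • a ∈ Δ.Pan i a := by
        rw [hh]
        exact Δ.mem_Pan_symm ha
      have h2 := (F.smul_Pan_stab h1 (d := c)).2 (Δ.mem_Pan_symm ha)
      rwa [Δ.Pan_eq_of_mem ha] at h2
    have h1 := (F.L_inv hνL hhc).2.2 q hq hqx
    have h2 : ∑ d ∈ P, ν (h • d) d q = 0 := by
      rw [← h1]
      refine Finset.sum_subset (Finset.subset_univ _) fun d _ hd => ?_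
      have h3 : h • d ∉ Δ.Pan i c := by
        rw [F.smul_Pan_stab hhc]
        exact fun h => hd ((hPm d).2 h)
      rw [hνL.2.1 _ h3]
      rfl
    have haP : a ∈ P := (hPm a).2 ha
    rw [← Finset.add_sum_erase _ _ haP, hh, hνc] at h2
    have h3 : ∑ d ∈ P.erase a, ν (h • d) d q = ∑ d ∈ P.erase a, χ d q := by
      refine Finset.sum_congr rfl fun d hd => ?_
      rw [Finset.mem_erase] at hd
      rw [hνd (h • d) ((F.smul_Pan_stab hhc).2 ((hPm d).1 hd.2))]
      intro h4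
      apply hd.1
      rw [← hh] at h4
      exact smul_left_cancel h h4
    rw [h3] at h2
    rw [← Finset.add_sum_erase _ _ haP]
    have h4 : (0 : C → G → ZMod 2) a q + ∑ d ∈ P.erase a, χ d q = 0 := h2
    rw [Pi.zero_apply, Pi.zero_apply, zero_add] at h4
    rw [h4, add_zero]
  apply hχ0
  refine F.Th_eq_zero hG hodd hI hj hχT ?_
  intro a' b' hab q hq hqx
  obtain ⟨k, hk⟩ := F.tr a' c
  have h1 : k * q * k⁻¹ ∈ F.U c := by
    rw [← hk]
    exact F.conj k a' q hq
  have h2 : ∀ x ∈ Δ.Pan i c, (k * q * k⁻¹) • x = x := by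
    intro x hx
    have h3 : k⁻¹ • x ∈ Δ.Pan i a' := by
      rw [← F.smul_Pan_iff k, smul_inv_smul, hk]
      exact hx
    rw [mul_smul, mul_smul, hqx _ h3, smul_inv_smul]
  have h3 := hval _ h1 h2 (k • a') (by rw [hk]; exact Δ.self_mem_Pan i c)
  have h4 := hval _ h1 h2 (k • b') (by rw [← hk]; exact F.smul_Pan k hab)
  rw [F.Th_conj hχT k (hqx a' (Δ.self_mem_Pan i a'))] at h3
  rw [F.Th_conj hχT k (hqx b' hab)] at h4
  rw [h3, h4]

/-- The action on the `j`-panel of `d` is the same. -/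
def Eqv (_F : Fam Δ G) (j : I) (d : C) (g h : G) : Prop := ∀ x ∈ Δ.Pan j d, g • x = h • x

theorem Eqv.symm {j : I} {d : C} {g h : G} (e : F.Eqv j d g h) : F.Eqv j d h g :=
  fun x hx => (e x hx).symm

theorem Eqv.trans {j : I} {d : C} {g h k : G} (e : F.Eqv j d g h) (e' : F.Eqv j d h k) :
    F.Eqv j d g k := fun x hx => (e x hx).trans (e' x hx)

theorem Eqv.mul {j : I} {d : C} {g g' h h' : G} (e : F.Eqv j d g g') (e' : F.Eqv j d h h')
    (hd : h' • d = d) : F.Eqv j d (g * h) (g' * h') := by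
  intro x hx
  rw [mul_smul, mul_smul, e' x hx]
  refine e _ ?_
  have h1 := F.smul_Pan h' hx
  rwa [hd] at h1

theorem Eqv.inv {j : I} {d : C} {g h : G} (e : F.Eqv j d g h) (hd : g • d = d) :
    F.Eqv j d g⁻¹ h⁻¹ := by
  intro x hx
  have h1 : g⁻¹ • x ∈ Δ.Pan j d := by
    have h2 := F.smul_Pan g⁻¹ hx
    rwa [inv_smul_eq_iff.2 hd.symm] at h2
  have h2 := e _ h1
  rw [smul_inv_smul] at h2
  rw [eq_inv_smul_iff, ← h2]

/-- A homomorphism from `U d` to `ZMod 2`, trivial on the kernel of the `j`-panel of `d`, extends to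
an equivariant family. -/
theorem exists_Th {j : I}
    (hj : ∀ (c : C) (g : G), g • c = c → ∃ u ∈ F.U c, ∀ x ∈ Δ.Pan j c, (u⁻¹ * g) • x = x)
    (d : C) (φ : G → ZMod 2) (hφ : ∀ u ∈ F.U d, ∀ v ∈ F.U d, φ (u * v) = φ u + φ v)
    (hk : ∀ u ∈ F.U d, (∀ x ∈ Δ.Pan j d, u • x = x) → φ u = 0) :
    ∃ χ ∈ F.Th j, ∀ u ∈ F.U d, χ d u = φ u := by
  classical
  have hj' : ∀ g : G, g • d = d → ∃ u ∈ F.U d, F.Eqv j d u g := by
    intro g hg
    obtain ⟨u, hu, h⟩ := hj d g hg
    refine ⟨u, hu, fun x hx => ?_⟩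
    have := h x hx
    rw [mul_smul, inv_smul_eq_iff] at this
    exact this.symm
  have hwd : ∀ u ∈ F.U d, ∀ v ∈ F.U d, F.Eqv j d u v → φ u = φ v := by
    intro u hu v hv h
    have h1 : φ (u * (u⁻¹ * v)) = φ u + φ (u⁻¹ * v) := hφ u hu _ (mul_mem (inv_mem hu) hv)
    rw [mul_inv_cancel_left, hk (u⁻¹ * v) (mul_mem (inv_mem hu) hv), add_zero] at h1
    · exact h1.symm
    · intro x hx
      rw [mul_smul, inv_smul_eq_iff, h x hx]
  choose! w hw hwe using hj'
  let ψ : G → ZMod 2 := fun g => φ (w g)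
  have hψ : ∀ g, g • d = d → ∀ u ∈ F.U d, F.Eqv j d u g → ψ g = φ u := fun g hg u hu h =>
    hwd _ (hw g hg) _ hu ((hwe g hg).trans F h.symm)
  have hψm : ∀ g h, g • d = d → h • d = d → ψ (g * h) = ψ g + ψ h := by
    intro g h hg hh
    rw [hψ (g * h) (by rw [mul_smul, hh, hg]) (w g * w h) (mul_mem (hw g hg) (hw h hh))
      ((hwe g hg).mul F (hwe h hh) hh)]
    exact hφ _ (hw g hg) _ (hw h hh)
  have hψc : ∀ b g, b • d = d → g • d = d → ψ (b * g * b⁻¹) = ψ g := by
    intro b g hb hg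
    have hb' : b⁻¹ • d = d := inv_smul_eq_iff.2 hb.symm
    have h1 := hψm b b⁻¹ hb hb'
    have h2 := hψm 1 1 (one_smul _ _) (one_smul _ _)
    rw [mul_one] at h2
    rw [hψm _ _ (by rw [mul_smul, hg, hb]) hb', hψm _ _ hb hg]
    rw [mul_inv_cancel] at h1
    linear_combination (-1 : ZMod 2) * h1 - h2
  choose k hk' using F.tr d
  refine ⟨fun x g => if g • x = x then ψ ((k x)⁻¹ * g * k x) else 0, ?_, ?_⟩
  · have hfix : ∀ x g, g • x = x → ((k x)⁻¹ * g * k x) • d = d := by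
      intro x g hg
      rw [mul_smul, mul_smul, hk', hg, inv_smul_eq_iff, hk']
    refine ⟨fun x g h hg hh => ?_, fun l x g hg => ?_, fun x g hg => if_neg hg, fun x g hg => ?_⟩
    · change (if (g * h) • x = x then _ else _) = (if g • x = x then _ else _) +
        (if h • x = x then _ else _)
      rw [if_pos hg, if_pos hh, if_pos (by rw [mul_smul, hh, hg]),
        ← hψm _ _ (hfix x g hg) (hfix x h hh)]
      congr 1
      group
    · change (if (l * g * l⁻¹) • (l • x) = l • x then _ else _) = (if g • x = x then _ else _)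
      rw [if_pos hg, if_pos (by rw [mul_smul, mul_smul, inv_smul_smul, hg])]
      have hb : ((k (l • x))⁻¹ * l * k x) • d = d := by
        rw [mul_smul, mul_smul, hk', inv_smul_eq_iff, hk']
      rw [← hψc _ _ hb (hfix x g hg)]
      congr 1
      group
    · change (if g • x = x then _ else _) = (0 : ZMod 2)
      have hgx := hg x (Δ.self_mem_Pan j x)
      rw [if_pos hgx, hψ _ (hfix x g hgx) 1 (one_mem _)]
      · exact hk 1 (one_mem _) fun x _ => one_smul _ x
      · intro y hy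
        have h1 := F.smul_Pan (k x) hy
        rw [hk'] at h1
        rw [one_smul, mul_smul, mul_smul, hg _ h1, inv_smul_smul]
  · intro u hu
    have hud := F.fix d u hu
    change (if u • d = d then _ else _) = _
    rw [if_pos hud]
    have h1 := hψc ((k d)⁻¹) u (inv_smul_eq_iff.2 (hk' d).symm) hud
    rw [inv_inv] at h1
    rw [h1]
    exact hψ u hud u hu fun _ _ => rfl

/-- The general surjectivity theorem. -/
theorem surj [Finite G] [Finite C] (hG : ∀ f : G →* Multiplicative (ZMod 2), f = 1)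
    (hodd : Odd (Nat.card C)) {i j : I} (hI : ∀ k, k = i ∨ k = j)
    (hj : ∀ (c : C) (g : G), g • c = c → ∃ u ∈ F.U c, ∀ x ∈ Δ.Pan j c, (u⁻¹ * g) • x = x)
    (c : C) (s : C → G) (hs : ∀ d ∈ Δ.Pan i c, s d • d = d) :
    ∃ q ∈ F.U c, (∀ x ∈ Δ.Pan i c, q • x = x) ∧
      ∀ d ∈ Δ.Pan i c, d ≠ c → ∀ x ∈ Δ.Pan j d, q • x = s d • x := by
  classical
  haveI := Fintype.ofFinite C
  let D := {d : C // d ∈ Δ.Pan i c ∧ d ≠ c}
  let P := ∀ d : D, F.U d.1
  haveI : Fact (Nat.Prime 2) := ⟨Nat.prime_two⟩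
  haveI : Finite P := Pi.finite
  have hP : IsPGroup 2 P := by
    have h1 : ∀ d : D, ∃ n : ℕ, Nat.card (F.U d.1) = 2 ^ n := fun d => IsPGroup.iff_card.1 (F.two d.1)
    choose n hn using h1
    refine IsPGroup.of_card (n := ∑ d, n d) ?_
    rw [Nat.card_pi, Finset.prod_congr rfl fun d _ => hn d, Finset.prod_pow_eq_pow_sum]
  let H : Subgroup P :=
    { carrier := {p | ∃ q ∈ F.U c, (∀ x ∈ Δ.Pan i c, q • x = x) ∧
        ∀ d : D, ∀ x ∈ Δ.Pan j d.1, q • x = (p d : G) • x}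
      mul_mem' := by
        rintro p p' ⟨q, hq, h1, h2⟩ ⟨q', hq', h1', h2'⟩
        refine ⟨q * q', mul_mem hq hq', fun x hx => by rw [mul_smul, h1' x hx, h1 x hx],
          fun d x hx => ?_⟩
        rw [mul_smul, h2' d x hx]
        have h3 := F.smul_Pan (p' d : G) hx
        rw [F.fix d.1 _ (p' d).2] at h3
        rw [h2 d _ h3, ← mul_smul]
        rfl
      one_mem' := ⟨1, one_mem _, fun x _ => one_smul _ x, fun d x _ => rfl⟩
      inv_mem' := by
        rintro p ⟨q, hq, h1, h2⟩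
        refine ⟨q⁻¹, inv_mem hq, fun x hx => by rw [inv_smul_eq_iff, h1 x hx],
          fun d x hx => ?_⟩
        have h3 := F.smul_Pan (p d : G)⁻¹ hx
        rw [inv_smul_eq_iff.2 (F.fix d.1 _ (p d).2).symm] at h3
        have h4 := h2 d _ h3
        rw [smul_inv_smul] at h4
        rw [inv_smul_eq_iff]
        exact h4.symm }
  have hH : ∀ p : P, p ∈ H ↔ ∃ q ∈ F.U c, (∀ x ∈ Δ.Pan i c, q • x = x) ∧
        ∀ d : D, ∀ x ∈ Δ.Pan j d.1, q • x = (p d : G) • x := fun p => Iff.rfl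
  by_cases hHt : H = ⊤
  · have h1 : ∀ d : D, ∃ u ∈ F.U d.1, ∀ x ∈ Δ.Pan j d.1, (u⁻¹ * s d.1) • x = x :=
      fun d => hj d.1 (s d.1) (hs d.1 d.2.1)
    choose u hu hux using h1
    have h2 : (fun d => (⟨u d, hu d⟩ : F.U d.1) : P) ∈ H := by rw [hHt]; trivial
    obtain ⟨q, hq, h3, h4⟩ := (hH _).1 h2
    refine ⟨q, hq, h3, fun d hd hdc x hx => ?_⟩
    rw [h4 ⟨d, hd, hdc⟩ x hx]
    have h5 := hux ⟨d, hd, hdc⟩ x hx
    rw [mul_smul, inv_smul_eq_iff] at h5
    exact h5.symm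
  · exfalso
    obtain ⟨f, hf1, hfH⟩ := exists_hom_of_ne_top hP H hHt
    apply hf1
    -- the components
    let φ : D → G → ZMod 2 := fun d g =>
      if hg : g ∈ F.U d.1 then Multiplicative.toAdd (f (Pi.mulSingle d ⟨g, hg⟩)) else 0
    have hφ : ∀ (d : D) (g : G) (hg : g ∈ F.U d.1),
        φ d g = Multiplicative.toAdd (f (Pi.mulSingle d ⟨g, hg⟩)) := fun d g hg => dif_pos hg
    have hex : ∀ d : D, ∃ χ ∈ F.Th j, ∀ u ∈ F.U d.1, χ d.1 u = φ d u := by
      intro d
      refine F.exists_Th hj d.1 (φ d) ?_ ?_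
      · intro u hu v hv
        rw [hφ d u hu, hφ d v hv, hφ d _ (mul_mem hu hv), ← toAdd_mul, ← map_mul,
          ← Pi.mulSingle_mul]
        rfl
      · intro u hu hux
        rw [hφ d u hu, hfH, toAdd_one]
        refine (hH _).2 ⟨1, one_mem _, fun x _ => one_smul _ x, fun e x hx => ?_⟩
        rw [one_smul]
        by_cases he : e = d
        · subst he
          rw [Pi.mulSingle_eq_same]
          exact (hux x hx).symm
        · rw [Pi.mulSingle_eq_of_ne he]
          exact (one_smul _ x).symm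
    choose χ hχT hχ using hex
    let Λ : C → C → G → ZMod 2 := fun x => if h : x ∈ Δ.Pan i c ∧ x ≠ c then χ ⟨x, h⟩ else 0
    have hΛ : Λ ∈ F.L i j c := by
      refine ⟨fun d => ?_, fun d hd => ?_, fun q hq hqx => ?_⟩
      · by_cases h : d ∈ Δ.Pan i c ∧ d ≠ c
        · simp only [Λ, dif_pos h]
          exact hχT _
        · simp only [Λ, dif_neg h]
          exact zero_mem _
      · simp only [Λ]
        rw [dif_neg fun h => hd h.1]
      · have hqd : ∀ d : D, q ∈ F.U d.1 := fun d => F.mem_of_fix hq (hqx _ d.2.1)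
        rw [← Fintype.sum_subtype_add_sum_subtype (fun x => x ∈ Δ.Pan i c ∧ x ≠ c)]
        have h1 : ∑ x : {x // ¬ (x ∈ Δ.Pan i c ∧ x ≠ c)}, Λ x x q = 0 := by
          refine Finset.sum_eq_zero fun x _ => ?_
          simp only [Λ, dif_neg x.2]
          rfl
        rw [h1, add_zero]
        have h2 : ∀ x : D, Λ x.1 x.1 q = Multiplicative.toAdd (f (Pi.mulSingle x ⟨q, hqd x⟩)) := by
          intro x
          simp only [Λ, dif_pos x.2]
          rw [hχ _ _ (hqd x), hφ x q (hqd x)]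
        have h3 : f (fun d => ⟨q, hqd d⟩) = 1 := by
          refine hfH _ ((hH _).2 ⟨q, hq, hqx, fun d x hx => rfl⟩)
        have h4 : f = ∏ d : D, (f.comp (MonoidHom.mulSingle (fun d : D => F.U d.1) d)).comp
            (Pi.evalMonoidHom (fun d : D => F.U d.1) d) := by
          refine MonoidHom.pi_ext fun e x => ?_
          rw [MonoidHom.finsetProd_apply, Finset.prod_eq_single e]
          · rw [MonoidHom.comp_apply, Pi.evalMonoidHom_apply, Pi.mulSingle_eq_same]
            rfl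
          · intro d _ hde
            rw [MonoidHom.comp_apply, Pi.evalMonoidHom_apply, Pi.mulSingle_eq_of_ne hde, map_one]
          · intro h
            exact absurd (Finset.mem_univ _) h
        rw [h4, MonoidHom.finsetProd_apply] at h3
        have h5 := congrArg Multiplicative.toAdd h3
        rw [toAdd_prod, toAdd_one] at h5
        rw [← h5]
        refine Finset.sum_congr rfl fun x _ => ?_
        rw [h2 x]
        rfl
    have hc : ∀ d : D, χ d = 0 := by
      intro d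
      have h1 := F.L_const hG hodd hI hj hΛ (Δ.self_mem_Pan i c) d.2.1
      have h2 : Λ c = 0 := dif_neg fun h => h.2 rfl
      have h3 : Λ d.1 = χ d := dif_pos d.2
      rw [← h3, ← h1, h2]
    refine MonoidHom.pi_ext fun d u => ?_
    have h1 := hχ d u u.2
    rw [hc d, hφ d u u.2] at h1
    have h2 : Multiplicative.toAdd (f (Pi.mulSingle d u)) = 0 := h1.symm
    rw [MonoidHom.one_apply]
    exact Multiplicative.toAdd.injective h2

end Fam

end Cfsg.Agent.SplitTwo.Exc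
end

-- part: SplitTwo/FamOfSplit168
section
/-!
S1144, [N], the exceptional panel: the Fitting subgroups of the chamber stabilisers, if they are 2-groups,
are a family in the sense of `Exc.Fam`.
-/

set_option autoImplicit false
set_option linter.unusedSectionVars false

namespace Cfsg.Agent.SplitTwo.N168

open Cfsg Cfsg.Agent.Tits.Core Cfsg.Agent.Tits.OppRes Cfsg.Agent.Tits.Rigid
open Cfsg.Agent.SplitTwo.Reducible Cfsg.Agent.SplitTwo.Glue MulAction
open Cfsg.Agent.SplitTwo.Eps168 Cfsg.Agent.SplitTwo.PGroup168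
open Subgroup

universe u v

section

variable {I : Type*} {M : CoxeterMatrix I} {W : Type*} [Group W] {cs : CoxeterSystem M W}
variable {C : Type u} {Δ : Bldg cs C} [F : Cox cs]
variable {G : Type v} [Group G] [Finite G] [MulAction G C] [Finite C]

/-- The panel of type `s` of `c` is exceptional: the action of `fit G c` on it is not regular. -/
def Bad (Δ : Bldg cs C) (G : Type v) [Group G] [MulAction G C] (s : I) (c : C) : Prop :=
  ∃ b ∈ Δ.Pan s c, b ≠ c ∧ ∃ v ∈ fit G c, v • b = b ∧ ∃ x ∈ Δ.Pan s c, v • x ≠ x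

/-- `exc_panel` on a panel. -/
theorem Bad.panel (hR : RankOneR.{u}) {c : C} {s : I} (H : Split Δ c (fit G c))
    (h2 : IsPGroup 2 (fit G c)) (hb : Bad Δ G s c) :
    Nat.card (Δ.Pan s c) = 9 ∧ Nat.card (img H s) = 16 ∧
    (∀ r ∈ (H.perm s).range, r ⟨c, Or.inl rfl⟩ = ⟨c, Or.inl rfl⟩ → r ∈ img H s) ∧
    (∀ b : Δ.Pan s c, b ≠ ⟨c, Or.inl rfl⟩ → ∀ m ∈ img H s, m b = b → m ≠ 1 →
      ∃ e : Δ.Pan s c, e ≠ ⟨c, Or.inl rfl⟩ ∧ e ≠ b ∧ m e = e) ∧
    (∃ g ∈ img H s, ∃ h ∈ img H s, (g * h * g⁻¹ * h⁻¹) ^ 4 = 1 ∧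
      ∀ x : Δ.Pan s c, x ≠ ⟨c, Or.inl rfl⟩ → ((g * h * g⁻¹ * h⁻¹) ^ 2) x ≠ x) := by
  obtain ⟨b, hb, hbc, v, hv, hvb, x, hx, hvx⟩ := hb
  have D := data H s
  have hb' : (⟨b, hb⟩ : Δ.Pan s c) ≠ ⟨c, Or.inl rfl⟩ := fun h => hbc (congrArg Subtype.val h)
  have hv1 : H.perm s ⟨v, H.le_panStab s hv⟩ ≠ 1 := by
    intro h
    rw [H.perm_eq_one] at h
    exact hvx (h x hx)
  have hM : IsPGroup 2 (img H s) := by
    unfold img
    exact (h2.comap_subtype).map _
  obtain ⟨A, hA⟩ := D.aff hR hb' ⟨_, mem_img H hv, Subtype.ext hvb, hv1⟩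
  exact ExcSD.exc_panel (H.perm s).range (img H s) A _ _ hb' D.two D.le D.fix D.norm hM D.trans
    (D.unique hR hb') ⟨_, mem_img H hv, Subtype.ext hvb, hv1⟩ hA.le hA.norm hA.comm hA.trans

/-- On an exceptional panel `G_c` acts as `fit G c`. -/
theorem Bad.stab (hR : RankOneR.{u}) {c : C} {s : I} (H : Split Δ c (fit G c))
    (h2 : IsPGroup 2 (fit G c)) (hb : Bad Δ G s c) {g : G} (hg : g • c = c) :
    ∃ w ∈ fit G c, ∀ x ∈ Δ.Pan s c, (w⁻¹ * g) • x = x := by
  have hg' : g ∈ H.panStab s := by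
    rw [H.mem_panStab, hg]
    exact Or.inl rfl
  obtain ⟨w, hw, hwg⟩ := (hb.panel hR H h2).2.2.1 (H.perm s ⟨g, hg'⟩) ⟨_, rfl⟩ (Subtype.ext hg)
  refine ⟨w, hw, fun x hx => ?_⟩
  have h1 := congrArg (fun σ : Equiv.Perm (Δ.Pan s c) => ((σ ⟨x, hx⟩ : Δ.Pan s c) : C)) hwg
  have h3 : (w : G) • x = g • x := h1
  rw [mul_smul, ← h3, inv_smul_smul]

theorem bad_smul (iso : ∀ (g : G) x y, Δ.δ (g • x) (g • y) = Δ.δ x y) {s : I} {c : C}
    (hb : Bad Δ G s c) (g : G) : Bad Δ G s (g • c) := by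
  obtain ⟨b, hb, hbc, v, hv, hvb, x, hx, hvx⟩ := hb
  refine ⟨g • b, smul_mem_Pan iso hb, fun h => hbc (smul_left_cancel g h), g * v * g⁻¹,
    conj_mem_fit G hv, ?_, g • x, smul_mem_Pan iso hx, fun h => hvx ?_⟩
  · rw [mul_smul, mul_smul, inv_smul_smul, hvb]
  · rw [mul_smul, mul_smul, inv_smul_smul] at h
    exact smul_left_cancel g h

theorem bad_all {s : I} {c : C} (H : Split Δ c (fit G c)) (hb : Bad Δ G s c) (d : C) :
    Bad Δ G s d := by
  obtain ⟨g, rfl, -⟩ := H.trans c c d d (by rw [delta_self, delta_self])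
  exact bad_smul H.iso hb g

/-- (A). -/
theorem walk1 (hR : RankOneR.{u}) (H : ∀ c : C, Split Δ c (fit G c)) (h2 : ∀ c : C, IsPGroup 2 (fit G c))
    {c d : C} {s : I} (hcd : Δ.δ c d = cs.simple s) {w : G} (hw : w ∈ fit G c) (hwd : w • d = d) :
    w ∈ fit G d := by
  have hd : d ∈ Δ.Pan s c := Or.inr hcd
  have hdc : d ≠ c := by
    rintro rfl
    rw [delta_self] at hcd
    have := congrArg cs.length hcd
    rw [cs.length_one, cs.length_simple] at this
    omega
  by_cases hb : Bad Δ G s c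
  · have hbd := bad_all (H c) hb d
    obtain ⟨w', hw', hk⟩ := hbd.stab hR (H d) (h2 d) hwd
    -- `D' = U_c ∩ G_d`, `D'' = U_d ∩ G_c`
    set D' : Subgroup G := fit G c ⊓ stabilizer G d with hD'
    set D'' : Subgroup G := fit G d ⊓ stabilizer G c with hD''
    have hK : kx Δ G s d = kx Δ G s c := kx_eq hd
    have hKc : kx Δ G s c ≤ stabilizer G c := kx_le s c
    have hKd : kx Δ G s c ≤ stabilizer G d := by
      rw [← hK]
      exact kx_le s d
    have hn' : ∀ t ∈ stabilizer G c, t ∈ stabilizer G d → ∀ x ∈ D', t * x * t⁻¹ ∈ D' :=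
      fun t ht ht' x hx => ⟨conj_mem G (le_normalizer_fit G c) ht hx.1,
        (stabilizer G d).mul_mem ((stabilizer G d).mul_mem ht' hx.2) ((stabilizer G d).inv_mem ht')⟩
    have hn'' : ∀ t ∈ stabilizer G c, t ∈ stabilizer G d → ∀ x ∈ D'', t * x * t⁻¹ ∈ D'' :=
      fun t ht ht' x hx => ⟨conj_mem G (le_normalizer_fit G d) ht' hx.1,
        (stabilizer G c).mul_mem ((stabilizer G c).mul_mem ht hx.2) ((stabilizer G c).inv_mem ht)⟩
    have hpD : IsPGroup 2 (D' ⊔ D'' : Subgroup G) := by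
      refine ((h2 c).to_le inf_le_left).to_sup_of_normal_left' ((h2 d).to_le inf_le_left) ?_
      intro t ht
      rw [Subgroup.mem_normalizer_iff]
      intro x
      refine ⟨fun hx => hn' t ht.2 (fit_le G d ht.1) x hx, fun hx => ?_⟩
      have := hn' t⁻¹ (inv_mem ht.2) (inv_mem (fit_le G d ht.1)) _ hx
      have e : t⁻¹ * (t * x * t⁻¹) * t⁻¹⁻¹ = x := by group
      rwa [e] at this
    have : Fact (Nat.Prime 2) := ⟨Nat.prime_two⟩
    obtain ⟨X, hX1, hX2, hX3, hX4⟩ := exists_largest (kx Δ G s c) 2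
    have hXn : ∀ g ∈ stabilizer G d, ∀ x ∈ X, g * x * g⁻¹ ∈ X := by
      have hKn := le_normalizer_kx (H c).iso s d
      rw [hK] at hKn
      intro g hg x hx
      refine hX4 (X.map (MulAut.conj g).toMonoidHom) ?_ ?_ ?_ ⟨x, hx, rfl⟩
      · rintro _ ⟨x, hx, rfl⟩
        exact conj_mem G hKn hg (hX1 hx)
      · rintro k hk _ ⟨x, hx, rfl⟩
        refine ⟨(g⁻¹ * k * g) * x * (g⁻¹ * k * g)⁻¹, ?_, ?_⟩
        · refine hX2 _ ?_ x hx
          have := conj_mem G hKn (inv_mem hg) hk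
          rwa [inv_inv] at this
        · change g * ((g⁻¹ * k * g) * x * (g⁻¹ * k * g)⁻¹) * g⁻¹ = k * (g * x * g⁻¹) * k⁻¹
          group
      · exact hX3.map _
    have hXd : X ≤ fit G d :=
      le_fit G (hX1.trans hKd) hX3.isNilpotent (le_normalizer_of G hXn)
    have hV : (D' ⊔ D'') ⊓ kx Δ G s c ≤ X := by
      refine hX4 _ inf_le_right ?_ (hpD.to_le inf_le_left)
      intro k hk x hx
      refine ⟨?_, (kx Δ G s c).mul_mem ((kx Δ G s c).mul_mem hk hx.2) ((kx Δ G s c).inv_mem hk)⟩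
      have h5 : (D' ⊔ D'').map (MulAut.conj k).toMonoidHom ≤ D' ⊔ D'' := by
        rw [Subgroup.map_sup]
        refine sup_le_sup ?_ ?_
        · rintro _ ⟨x, hx, rfl⟩
          exact hn' k (hKc hk) (hKd hk) x hx
        · rintro _ ⟨x, hx, rfl⟩
          exact hn'' k (hKc hk) (hKd hk) x hx
      exact h5 ⟨x, hx.1, rfl⟩
    have hkK : w'⁻¹ * w ∈ kx Δ G s c := by
      rw [← hK]
      exact hk
    have hw'c : w' ∈ stabilizer G c := by
      have e : w' = w * (w'⁻¹ * w)⁻¹ := by group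
      rw [e]
      exact mul_mem (fit_le G c hw) (inv_mem (hKc hkK))
    have h6 : w'⁻¹ * w ∈ fit G d := by
      refine hXd (hV ⟨?_, hkK⟩)
      exact (D' ⊔ D'').mul_mem ((D' ⊔ D'').inv_mem (mem_sup_right ⟨hw', hw'c⟩))
        (mem_sup_left ⟨hw, mem_stabilizer_iff.2 hwd⟩)
    have e : w = w' * (w'⁻¹ * w) := by group
    rw [e]
    exact mul_mem hw' h6
  · refine mem_fit_of_mem_kx (H c).iso hd hw fun x hx => ?_
    by_contra hne
    exact hb ⟨d, hd, hdc, w, hw, hwd, x, hx, hne⟩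

/-- The family of the Fitting subgroups. -/
def fam (hR : RankOneR.{u}) (H : ∀ c : C, Split Δ c (fit G c)) (h2 : ∀ c : C, IsPGroup 2 (fit G c))
    (c₀ : C) : Exc.Fam Δ G where
  iso := (H c₀).iso
  trans := (H c₀).trans
  thick := (H c₀).thick
  U := fit G
  fix := fun _ _ hu => smul_of_mem_fit G hu
  conj := fun _ _ _ hu => conj_mem_fit G hu
  two := h2
  sphere := fun c => (H c).sphere
  walk1 := fun _ _ _ hcd _ hu hud => walk1 hR H h2 hcd hu hud
  three := by
    intro c d i hcd w hw hwd hwx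
    have hd : d ∈ Δ.Pan i c := Or.inr hcd
    have hdc : d ≠ c := by
      rintro rfl
      rw [delta_self] at hcd
      have := congrArg cs.length hcd
      rw [cs.length_one, cs.length_simple] at this
      omega
    have hd' : (⟨d, hd⟩ : Δ.Pan i c) ≠ ⟨c, Or.inl rfl⟩ := fun h => hdc (congrArg Subtype.val h)
    have hne : ∀ v (hv : v ∈ fit G c), (∃ x ∈ Δ.Pan i c, v • x ≠ x) →
        (H c).perm i ⟨v, (H c).le_panStab i hv⟩ ≠ 1 := by
      rintro v hv ⟨x, hx, hvx⟩ h
      rw [(H c).perm_eq_one] at h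
      exact hvx (h x hx)
    constructor
    · obtain ⟨x, hx, hvx⟩ := hwx
      have hbad : Bad Δ G i c := ⟨d, hd, hdc, w, hw, hwd, x, hx, hvx⟩
      obtain ⟨e, he1, he2, he3⟩ := (hbad.panel hR (H c) (h2 c)).2.2.2.1 ⟨d, hd⟩ hd' _
        (mem_img (H c) hw) (Subtype.ext hwd) (hne w hw ⟨x, hx, hvx⟩)
      exact ⟨e, e.2, fun h => he1 (Subtype.ext h), fun h => he2 (Subtype.ext h),
        congrArg Subtype.val he3⟩
    · intro v hv hvd hvx x hx
      have h1 := (data (H c) i).unique hR hd' _ (mem_img (H c) hw) _ (mem_img (H c) hv)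
        (Subtype.ext hwd) (Subtype.ext hvd) (hne w hw hwx) (hne v hv hvx)
      have h3 := congrArg (fun σ : Equiv.Perm (Δ.Pan i c) => ((σ ⟨x, hx⟩ : Δ.Pan i c) : C)) h1
      have h4 : w • x = v • x := h3
      rw [mul_smul, ← h4, inv_smul_smul]

/-- The number of chambers is odd. -/
theorem odd_card {c : C} (H : Split Δ c (fit G c)) (h2 : IsPGroup 2 (fit G c)) : Odd (Nat.card C) := by
  have : Fact (Nat.Prime 2) := ⟨Nat.prime_two⟩
  have h1 : MulAction.fixedPoints (fit G c) C = {c} := by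
    ext d
    rw [MulAction.mem_fixedPoints, Set.mem_singleton_iff]
    constructor
    · intro hd
      by_contra hne
      have hne' : Δ.δ c d ≠ 1 := fun h => hne ((Δ.eq_one c d).1 h).symm
      obtain ⟨i, hi⟩ := cs.exists_rightDescent_of_ne_one hne'
      have hi' := cs.isRightDescent_iff.1 hi
      obtain ⟨y, hy1, hy2⟩ := Δ.exists_step c d i
      have hlt : cs.length (Δ.δ c y) < cs.length (Δ.δ c y * cs.simple i) := by
        rw [hy2, mul_assoc, cs.simple_mul_simple_self, mul_one]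
        omega
      have hyd : Δ.δ y d = cs.simple i := by rw [Δ.symm d y, hy1, cs.inv_simple]
      obtain ⟨z₁, z₂, hz, hz₁, hz₂⟩ := H.thick y i
      obtain ⟨z, hzd, hz'⟩ : ∃ z, z ≠ d ∧ Δ.δ y z = cs.simple i := by
        by_cases h : z₁ = d
        · exact ⟨z₂, fun h' => hz (h.trans h'.symm), hz₂⟩
        · exact ⟨z₁, h, hz₁⟩
      have h3 := Δ.step_lt c y d i hyd hlt
      have h4 := Δ.step_lt c y z i hz' hlt
      obtain ⟨w, hw, hwd⟩ := H.sphere d z (h3.trans h4.symm)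
      have h5 : w • d = d := hd ⟨w, hw⟩
      exact hzd (hwd.symm.trans h5)
    · rintro rfl ⟨w, hw⟩
      exact smul_of_mem_fit G hw
  have h3 := h2.card_modEq_card_fixedPoints C
  rw [h1, Nat.card_coe_set_eq, Set.ncard_singleton] at h3
  exact Nat.odd_iff.2 h3

end

/-- A simple group which is not of order two has no homomorphism onto `Z/2`. -/
theorem hom_eq_one {G : Type v} [Group G] [IsSimpleGroup G] (hG : ¬ Nat.card G ∣ 2)
    (f : G →* Multiplicative (ZMod 2)) : f = 1 := by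
  rcases f.normal_ker.eq_bot_or_eq_top with h | h
  · exfalso
    apply hG
    have h1 : Function.Injective f := (MonoidHom.ker_eq_bot_iff f).1 h
    have h2 := Subgroup.card_dvd_of_injective f h1
    have h3 : Nat.card (Multiplicative (ZMod 2)) = 2 := by
      rw [Nat.card_eq_fintype_card]
      rfl
    rwa [h3] at h2
  · ext g
    have : g ∈ f.ker := by rw [h]; trivial
    rw [MonoidHom.mem_ker] at this
    rw [this]
    rfl

end Cfsg.Agent.SplitTwo.N168
end

-- part: SplitTwo/ExcEnd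
section
/-!
S1144, [N], the exceptional panel: the end of the argument. The `i`-panels have nine chambers and `U c` acts
on them as a semidihedral group of order 16, the `j`-panels have `t + 1` chambers.
-/

set_option autoImplicit false
set_option linter.unusedSectionVars false
set_option linter.style.haveILetI false

namespace Cfsg.Agent.SplitTwo.Exc

open Cfsg.Agent.Tits.Core Cfsg.Agent.Tits.Core.Bldg

variable {I : Type*} {M : CoxeterMatrix I} {W : Type*} [Group W] {cs : CoxeterSystem M W}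
variable {C : Type*} {Δ : Bldg cs C} {G : Type*} [Group G] [MulAction G C]

/-- The pointwise stabiliser of the `k`-panel of `c`. -/
def Kp (Δ : Bldg cs C) (G : Type*) [Group G] [MulAction G C] (k : I) (c : C) : Subgroup G where
  carrier := {g | ∀ x ∈ Δ.Pan k c, g • x = x}
  mul_mem' := by
    intro g h hg hh x hx
    rw [mul_smul, hh x hx, hg x hx]
  one_mem' := fun x _ => one_smul _ x
  inv_mem' := by
    intro g hg x hx
    rw [inv_smul_eq_iff, hg x hx]

/-- The hypotheses of the exceptional case. -/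
structure Hyp (F : Fam Δ G) (i j : I) (t : ℕ) : Prop where
  hG : ∀ f : G →* Multiplicative (ZMod 2), f = 1
  hodd : Odd (Nat.card C)
  hI : ∀ k, k = i ∨ k = j
  card_i : ∀ c, Nat.card (Δ.Pan i c) = 9
  card_j : ∀ c, Nat.card (Δ.Pan j c) = t + 1
  full : ∀ (c : C) (g : G), g • c = c → ∃ u ∈ F.U c, ∀ x ∈ Δ.Pan i c, (u⁻¹ * g) • x = x
  idx : ∀ c, (Kp Δ G i c).relIndex (F.U c) = 16
  sig : ∀ c, ∃ g ∈ F.U c, ∃ h ∈ F.U c,
    (∀ x ∈ Δ.Pan i c, ((g * h * g⁻¹ * h⁻¹) ^ 4) • x = x) ∧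
    (∀ x ∈ Δ.Pan i c, x ≠ c → ((g * h * g⁻¹ * h⁻¹) ^ 2) • x ≠ x) ∧
    ∀ m ∈ F.U c, ∀ x ∈ Δ.Pan i c,
      m • ((g * h * g⁻¹ * h⁻¹) ^ 2) • x = ((g * h * g⁻¹ * h⁻¹) ^ 2) • m • x
  ord4 : ∀ c, Nat.card (F.U c) ≤ 4 * (8 * t) ^ 4
  ord2 : t ≤ 4 → ∀ c, Nat.card (F.U c) ≤ 2 * (8 * t) ^ 4
  pairs : ∀ c c2 a b a2 b2, Δ.δ c c2 = cs.simple i → Δ.δ c a = cs.simple j →
    Δ.δ c b = cs.simple j → Δ.δ c2 a2 = cs.simple j → Δ.δ c2 b2 = cs.simple j →
    ∃ u ∈ F.U c, u • c2 = c2 ∧ u • a = b ∧ u • a2 = b2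

namespace Hyp

variable {F : Fam Δ G} {i j : I} {t : ℕ} (H : Hyp F i j t)

/-- The elements of `U c` acting trivially on the `i`-panels of all chambers of the `j`-panel. -/
def N2 (F : Fam Δ G) (i j : I) (c : C) : Subgroup G where
  carrier := {n | n ∈ F.U c ∧ ∀ d ∈ Δ.Pan j c, ∀ x ∈ Δ.Pan i d, n • x = x}
  mul_mem' := by
    rintro g h ⟨hg, hg'⟩ ⟨hh, hh'⟩
    refine ⟨mul_mem hg hh, fun d hd x hx => ?_⟩
    rw [mul_smul, hh' d hd x hx, hg' d hd x hx]
  one_mem' := ⟨one_mem _, fun d _ x _ => one_smul _ x⟩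
  inv_mem' := by
    rintro g ⟨hg, hg'⟩
    refine ⟨inv_mem hg, fun d hd x hx => ?_⟩
    rw [inv_smul_eq_iff, hg' d hd x hx]

/-- The elements of `U c` acting trivially on the `i`-panels of all chambers of the `j`-panel
different from `c`, and on the `j`-panel. -/
def Fc (F : Fam Δ G) (i j : I) (c : C) : Subgroup G where
  carrier := {n | n ∈ F.U c ∧ (∀ d ∈ Δ.Pan j c, n • d = d) ∧
    ∀ d ∈ Δ.Pan j c, d ≠ c → ∀ x ∈ Δ.Pan i d, n • x = x}
  mul_mem' := by
    rintro g h ⟨hg, hg', hg2⟩ ⟨hh, hh', hh2⟩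
    refine ⟨mul_mem hg hh, fun d hd => ?_, fun d hd hdc x hx => ?_⟩
    · rw [mul_smul, hh' d hd, hg' d hd]
    · rw [mul_smul, hh2 d hd hdc x hx, hg2 d hd hdc x hx]
  one_mem' := ⟨one_mem _, fun d _ => one_smul _ d, fun d _ _ x _ => one_smul _ x⟩
  inv_mem' := by
    rintro g ⟨hg, hg', hg2⟩
    refine ⟨inv_mem hg, fun d hd => ?_, fun d hd hdc x hx => ?_⟩
    · rw [inv_smul_eq_iff, hg' d hd]
    · rw [inv_smul_eq_iff, hg2 d hd hdc x hx]

theorem mem_N2 {c : C} {n : G} :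
    n ∈ N2 F i j c ↔ n ∈ F.U c ∧ ∀ d ∈ Δ.Pan j c, ∀ x ∈ Δ.Pan i d, n • x = x := Iff.rfl

theorem mem_Fc {c : C} {n : G} : n ∈ Fc F i j c ↔ n ∈ F.U c ∧ (∀ d ∈ Δ.Pan j c, n • d = d) ∧
    ∀ d ∈ Δ.Pan j c, d ≠ c → ∀ x ∈ Δ.Pan i d, n • x = x := Iff.rfl

/-- `N2` depends on the `j`-panel only. -/
theorem N2_eq {c d : C} (hd : d ∈ Δ.Pan j c) : N2 F i j d = N2 F i j c := by
  have key : ∀ {c d : C}, d ∈ Δ.Pan j c → N2 F i j c ≤ N2 F i j d := by
    intro c d hd n hn
    obtain ⟨h1, h2⟩ := mem_N2.1 hn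
    refine mem_N2.2 ⟨F.mem_of_fix h1 (h2 d hd d (Δ.self_mem_Pan i d)), ?_⟩
    rwa [Δ.Pan_eq_of_mem hd]
  exact le_antisymm (key (Δ.mem_Pan_symm hd)) (key hd)

/-- `N2` is normalised by the stabiliser of the `j`-panel. -/
theorem N2_conj {c : C} {g : G} (hg : g • c ∈ Δ.Pan j c) {n : G} (hn : n ∈ N2 F i j c) :
    g * n * g⁻¹ ∈ N2 F i j c := by
  rw [← N2_eq hg]
  obtain ⟨h1, h2⟩ := mem_N2.1 hn
  refine mem_N2.2 ⟨F.conj g c n h1, fun d hd x hx => ?_⟩
  have hd' : g⁻¹ • d ∈ Δ.Pan j c := by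
    rw [← F.smul_Pan_iff g, smul_inv_smul]
    exact hd
  have hx' : g⁻¹ • x ∈ Δ.Pan i (g⁻¹ • d) := F.smul_Pan _ hx
  rw [mul_smul, mul_smul, h2 _ hd' _ hx', smul_inv_smul]

section

variable [Finite G] [Finite C]

include H

/-- The surjectivity theorem for the kernel of the `j`-panel. -/
theorem surj_j (c : C) (s : C → G) (hs : ∀ d ∈ Δ.Pan j c, s d • d = d) :
    ∃ q ∈ F.U c, (∀ x ∈ Δ.Pan j c, q • x = x) ∧
      ∀ d ∈ Δ.Pan j c, d ≠ c → ∀ x ∈ Δ.Pan i d, q • x = s d • x :=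
  F.surj H.hG H.hodd (fun k => (H.hI k).symm) H.full c s hs

/-- There is an element of `Fc` acting on the `i`-panel as the commutator of two given elements of
`U c`. -/
theorem exists_comm (c : C) {g h : G} (hg : g ∈ F.U c) (hh : h ∈ F.U c) :
    ∃ f ∈ Fc F i j c, ∀ x ∈ Δ.Pan i c, f • x = (g * h * g⁻¹ * h⁻¹) • x := by
  classical
  obtain ⟨d1, d2, hd12, hd1, hd2⟩ := F.thick c j
  have key : ∀ d g, Δ.δ c d = cs.simple j → g ∈ F.U c → ∃ u ∈ F.U c, (∀ x ∈ Δ.Pan j c, u • x = x) ∧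
      (∀ x ∈ Δ.Pan i c, u • x = g • x) ∧
      ∀ e ∈ Δ.Pan j c, e ≠ c → e ≠ d → ∀ x ∈ Δ.Pan i e, u • x = x := by
    intro d g hd hg
    have hdP : d ∈ Δ.Pan j c := Or.inr hd
    obtain ⟨q, hq, h1, h2⟩ := H.surj_j d (fun e => if e = c then g else 1) (by
      intro e _
      by_cases hec : e = c
      · rw [if_pos hec, hec, F.fix c g hg]
      · rw [if_neg hec, one_smul])
    rw [Δ.Pan_eq_of_mem hdP] at h1 h2
    refine ⟨q, F.mem_of_fix hq (h1 c (Δ.self_mem_Pan j c)), h1, fun x hx => ?_,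
      fun e he hec hed x hx => ?_⟩
    · rw [h2 c (Δ.self_mem_Pan j c) (Δ.ne_of_δ_simple hd) x hx, if_pos rfl]
    · rw [h2 e he hed x hx, if_neg hec, one_smul]
  obtain ⟨u, hu, hu1, hu2, hu3⟩ := key d1 g hd1 hg
  obtain ⟨w, hw, hw1, hw2, hw3⟩ := key d2 h hd2 hh
  have hinv : ∀ {v : G} {x : C}, v • x = x → v⁻¹ • x = x := fun h => inv_smul_eq_iff.2 h.symm
  have hst : ∀ {v : G} {e x : C}, v • e = e → x ∈ Δ.Pan i e → v • x ∈ Δ.Pan i e := by
    intro v e x hv hx
    have := F.smul_Pan v hx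
    rwa [hv] at this
  refine ⟨u * w * u⁻¹ * w⁻¹, mem_Fc.2 ⟨?_, fun d hd => ?_, fun d hd hdc x hx => ?_⟩, fun x hx => ?_⟩
  · exact mul_mem (mul_mem (mul_mem hu hw) (inv_mem hu)) (inv_mem hw)
  · rw [mul_smul, mul_smul, mul_smul, hinv (hw1 d hd), hinv (hu1 d hd), hw1 d hd, hu1 d hd]
  · rw [mul_smul, mul_smul, mul_smul]
    by_cases h1 : d = d1
    · have h2 : d ≠ d2 := fun h => hd12 (h1.symm.trans h)
      have e1 := hw3 d hd hdc h2
      rw [hinv (e1 x hx), e1 _ (hst (hinv (hu1 d hd)) hx), smul_inv_smul]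
    · have e1 := hu3 d hd hdc h1
      have h3 : w⁻¹ • x ∈ Δ.Pan i d := hst (hinv (hw1 d hd)) hx
      rw [hinv (e1 _ h3), smul_inv_smul, e1 x hx]
  · have e1 : F.Eqv i c u g := hu2
    have e2 : F.Eqv i c w h := hw2
    have huc := F.fix c u hu
    have hwc := F.fix c w hw
    have hgc := F.fix c g hg
    have hhc := F.fix c h hh
    exact (((e1.mul F e2 hhc).mul F (e1.inv F huc) (hinv hgc)).mul F (e2.inv F hwc)
      (hinv hhc)) x hx

theorem card_D (c : C) : Nat.card {d : C // d ∈ Δ.Pan j c ∧ d ≠ c} = t := by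
  classical
  haveI := Fintype.ofFinite C
  have h1 := H.card_j c
  have h2 : Nat.card {d : C // d ∈ Δ.Pan j c ∧ d ≠ c} = (Δ.Pan j c \ {c}).ncard := by
    rw [← Nat.card_coe_set_eq]
    rfl
  rw [h2, Set.ncard_sdiff_singleton_of_mem (Δ.self_mem_Pan j c), ← Nat.card_coe_set_eq, h1]
  rfl

/-- The kernel of the `j`-panel in `U c`. -/
theorem card_Q (c : C) : t * Nat.card (F.U c ⊓ Kp Δ G j c : Subgroup G) ≤ Nat.card (F.U c) := by
  obtain ⟨y, z, -, hy, -⟩ := F.thick c j
  have hyc : y ≠ c := (Δ.ne_of_δ_simple hy).symm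
  have hyP : y ∈ Δ.Pan j c := Or.inr hy
  have horb : MulAction.orbit (F.U c) y = {d | d ∈ Δ.Pan j c ∧ d ≠ c} := by
    ext d
    rw [Set.mem_ofPred_eq]
    constructor
    · rintro ⟨u, rfl⟩
      have hu := F.fix c u u.2
      refine ⟨?_, fun h => hyc ?_⟩
      · have h1 := F.smul_Pan (u : G) hyP
        rwa [hu] at h1
      · have h1 : (u : G) • y = (u : G) • c := by rw [hu]; exact h
        exact smul_left_cancel _ h1
    · rintro ⟨h1, h2⟩
      obtain ⟨u, hu, hud⟩ := F.tr_Pan hyP h1 hyc h2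
      exact ⟨⟨u, hu⟩, hud⟩
  have h1 := MulAction.index_stabilizer (F.U c) y
  rw [horb, ← Nat.card_coe_set_eq] at h1
  have h2 : Nat.card ({d | d ∈ Δ.Pan j c ∧ d ≠ c} : Set C) = t := H.card_D c
  rw [h2] at h1
  have h3 := Subgroup.index_mul_card (MulAction.stabilizer (F.U c) y)
  rw [h1] at h3
  rw [← h3]
  refine Nat.mul_le_mul_left _ ?_
  refine Nat.card_le_card_of_injective
    (fun q : (F.U c ⊓ Kp Δ G j c : Subgroup G) =>
      (⟨⟨q.1, q.2.1⟩, q.2.2 y hyP⟩ : MulAction.stabilizer (F.U c) y)) ?_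
  intro q q' h
  have := congrArg (fun x : MulAction.stabilizer (F.U c) y => ((x : F.U c) : G)) h
  exact Subtype.ext this

theorem card_F (c : C) :
    16 ^ t * Nat.card (Fc F i j c) ≤ Nat.card (F.U c ⊓ Kp Δ G j c : Subgroup G) := by
  classical
  let D := {d : C // d ∈ Δ.Pan j c ∧ d ≠ c}
  let X := ∀ d : D, F.U d.1 ⧸ (Kp Δ G i d.1).subgroupOf (F.U d.1)
  haveI := Fintype.ofFinite D
  have hX : Nat.card X = 16 ^ t := by
    rw [Nat.card_pi, Finset.prod_congr rfl fun (d : D) _ => (Subgroup.index_eq_card _).symm]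
    have h1 : ∀ d : D, ((Kp Δ G i d.1).subgroupOf (F.U d.1)).index = 16 := fun d => H.idx d.1
    rw [Finset.prod_congr rfl fun (d : D) _ => h1 d, Finset.prod_const, Finset.card_univ,
      ← Nat.card_eq_fintype_card]
    congr 1
    exact H.card_D c
  have hex : ∀ κ : X, ∃ q ∈ F.U c, (∀ x ∈ Δ.Pan j c, q • x = x) ∧
      ∀ d : D, ∀ x ∈ Δ.Pan i d.1, q • x = ((κ d).out : G) • x := by
    intro κ
    obtain ⟨q, hq, h1, h2⟩ := H.surj_j c
      (fun e => if h : e ∈ Δ.Pan j c ∧ e ≠ c then ((κ ⟨e, h⟩).out : G) else 1) (by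
        intro e _
        by_cases hec : e ∈ Δ.Pan j c ∧ e ≠ c
        · rw [dif_pos hec]
          exact F.fix e _ (κ ⟨e, hec⟩).out.2
        · rw [dif_neg hec, one_smul])
    refine ⟨q, hq, h1, fun d x hx => ?_⟩
    rw [h2 d.1 d.2.1 d.2.2 x hx, dif_pos d.2]
  choose q hq hq1 hq2 using hex
  rw [← hX, ← Nat.card_prod]
  refine Nat.card_le_card_of_injective
    (fun z : X × Fc F i j c => (⟨q z.1 * z.2, mul_mem (hq z.1) (mem_Fc.1 z.2.2).1, fun x hx => by
      rw [mul_smul, (mem_Fc.1 z.2.2).2.1 x hx, hq1 z.1 x hx]⟩ :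
      (F.U c ⊓ Kp Δ G j c : Subgroup G))) ?_
  rintro ⟨κ, f⟩ ⟨κ', f'⟩ h
  have h1 : q κ * (f : G) = q κ' * (f' : G) :=
    congrArg (fun x : (F.U c ⊓ Kp Δ G j c : Subgroup G) => (x : G)) h
  have h2 : κ = κ' := by
    funext d
    suffices hs : ((κ d).out⁻¹ * (κ' d).out : F.U d.1) ∈ (Kp Δ G i d.1).subgroupOf (F.U d.1) by
      have h5 := QuotientGroup.eq.2 hs
      rwa [QuotientGroup.out_eq', QuotientGroup.out_eq'] at h5
    rw [Subgroup.mem_subgroupOf]
    intro x hx
    have h3 : (κ d).out.1 • x = (κ' d).out.1 • x := by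
      rw [← hq2 κ d x hx, ← hq2 κ' d x hx]
      have h4 := congrArg (fun g : G => g • x) h1
      simp only [mul_smul] at h4
      rwa [(mem_Fc.1 f.2).2.2 d.1 d.2.1 d.2.2 x hx, (mem_Fc.1 f'.2).2.2 d.1 d.2.1 d.2.2 x hx] at h4
    change ((κ d).out.1⁻¹ * (κ' d).out.1) • x = x
    rw [mul_smul, inv_smul_eq_iff]
    exact h3.symm
  subst h2
  have h3 := mul_left_cancel h1
  rw [Subtype.ext h3]

theorem card_N2 (c : C) : 4 * Nat.card (N2 F i j c) ≤ Nat.card (Fc F i j c) := by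
  obtain ⟨g, hg, h, hh, h4, h2, -⟩ := H.sig c
  obtain ⟨f, hf, hfx⟩ := H.exists_comm c hg hh
  set σ := g * h * g⁻¹ * h⁻¹ with hσ
  have hσc : σ • c = c := F.fix c _
    (mul_mem (mul_mem (mul_mem hg hh) (inv_mem hg)) (inv_mem hh))
  have hfc : f • c = c := F.fix c f hf.1
  have hpow : ∀ n : ℕ, ∀ x ∈ Δ.Pan i c, (f ^ n) • x = (σ ^ n) • x := by
    intro n
    induction n with
    | zero =>
      intro x _
      rw [pow_zero, pow_zero]
    | succ n ih =>
      intro x hx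
      have e1 : F.Eqv i c (f ^ n) (σ ^ n) := ih
      rw [pow_succ, pow_succ]
      exact (e1.mul F (fun x hx => hfx x hx : F.Eqv i c f σ) hσc) x hx
  obtain ⟨p, -, -, hp, -⟩ := F.thick c i
  have hpc : p ≠ c := (Δ.ne_of_δ_simple hp).symm
  have hpP : p ∈ Δ.Pan i c := Or.inr hp
  have hN : ∀ n ∈ N2 F i j c, n ∈ Fc F i j c := by
    intro n hn
    obtain ⟨h1, h2⟩ := mem_N2.1 hn
    exact mem_Fc.2 ⟨h1, fun d hd => h2 d hd d (Δ.self_mem_Pan i d), fun d hd _ => h2 d hd⟩
  have hcard : Nat.card (Fin 4) = 4 := by simp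
  rw [← hcard, ← Nat.card_prod]
  refine Nat.card_le_card_of_injective
    (fun z : Fin 4 × N2 F i j c => (⟨f ^ (z.1 : ℕ) * z.2, mul_mem (pow_mem hf _) (hN _ z.2.2)⟩ :
      Fc F i j c)) ?_
  have key : ∀ a b : ℕ, a < b → b < 4 → ∀ n ∈ N2 F i j c, ∀ n' ∈ N2 F i j c,
      f ^ a * n ≠ f ^ b * n' := by
    intro a b hab hb n hn n' hn' he
    have hnx : ∀ x ∈ Δ.Pan i c, n • x = x := (mem_N2.1 hn).2 c (Δ.self_mem_Pan j c)
    have hnx' : ∀ x ∈ Δ.Pan i c, n' • x = x := (mem_N2.1 hn').2 c (Δ.self_mem_Pan j c)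
    have h5 : ∀ x ∈ Δ.Pan i c, (f ^ (b - a)) • x = x := by
      intro x hx
      have h6 := congrArg (fun g : G => g • x) he
      simp only [mul_smul] at h6
      rw [hnx x hx, hnx' x hx] at h6
      have h7 : b = a + (b - a) := by omega
      rw [h7, pow_add, mul_smul] at h6
      exact (smul_left_cancel _ h6).symm
    have h6 : (f ^ (b - a)) • p = p := h5 p hpP
    have h7 : (f ^ 4) • p = p := by rw [hpow 4 p hpP, h4 p hpP]
    have h8 : (f ^ 2) • p ≠ p := by
      rw [hpow 2 p hpP]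
      exact h2 p hpP hpc
    apply h8
    have h9 : b - a = 1 ∨ b - a = 2 ∨ b - a = 3 := by omega
    rcases h9 with h9 | h9 | h9
    · rw [h9, pow_one] at h6
      rw [pow_two, mul_smul, h6, h6]
    · rwa [h9] at h6
    · rw [h9] at h6
      have h10 : f • p = p := by
        have : f ^ 4 = f * f ^ 3 := by group
        rw [this, mul_smul, h6] at h7
        exact h7
      rw [pow_two, mul_smul, h10, h10]
  rintro ⟨a, n⟩ ⟨b, n'⟩ he
  have he' : f ^ (a : ℕ) * (n : G) = f ^ (b : ℕ) * (n' : G) :=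
    congrArg (fun x : Fc F i j c => (x : G)) he
  have hab : a = b := by
    by_contra hne
    rcases lt_or_gt_of_ne hne with h5 | h5
    · exact key a b h5 b.2 n n.2 n' n'.2 he'
    · exact key b a h5 a.2 n' n'.2 n n.2 he'.symm
  subst hab
  have h5 := mul_left_cancel he'
  rw [Subtype.ext h5]

theorem card_ineq (c : C) : t * (16 ^ t * (4 * Nat.card (N2 F i j c))) ≤ Nat.card (F.U c) :=
  le_trans (Nat.mul_le_mul_left _ (le_trans (Nat.mul_le_mul_left _ (H.card_N2 c)) (H.card_F c)))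
    (H.card_Q c)

theorem even_t (c : C) : Even t := by
  classical
  haveI := Fintype.ofFinite C
  have h1 := F.even_card (i := j) (c := c)
    (P := Finset.univ.filter (fun d => d ∈ Δ.Pan j c)) (fun d => by simp only [_root_.Finset.mem_filter, _root_.Finset.mem_univ, _root_.true_and])
  have h2 : ((Finset.univ.filter (fun d => d ∈ Δ.Pan j c)).erase c).card = t := by
    rw [← H.card_D c, Nat.card_eq_fintype_card, Fintype.card_subtype]
    congr 1
    ext d
    simp only [and_comm, _root_.Finset.mem_erase, _root_.ne_eq, _root_.Finset.mem_filter, _root_.Finset.mem_univ, _root_.true_and]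
  rwa [h2] at h1

theorem t_le (c : C) : t = 2 ∨ t = 4 := by
  have h1 := H.card_ineq c
  have h2 := H.ord4 c
  have h3 := H.even_t c
  have h0 : 0 < Nat.card (N2 F i j c) := Nat.card_pos
  have ht0 : t ≠ 0 := by
    rintro rfl
    have h4 := H.card_D c
    obtain ⟨y, z, -, hy, -⟩ := F.thick c j
    haveI : Nonempty {d : C // d ∈ Δ.Pan j c ∧ d ≠ c} :=
      ⟨⟨y, Or.inr hy, (Δ.ne_of_δ_simple hy).symm⟩⟩
    exact absurd h4 (Nat.card_pos).ne'
  have h4 : t < 5 := by
    by_contra hcon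
    push Not at hcon
    have h5 : ∀ n : ℕ, 5 ≤ n → 4096 * n ^ 3 < 16 ^ n := by
      intro n hn
      induction n, hn using Nat.le_induction with
      | base => norm_num
      | succ n hn ih =>
        have h6 : (n + 1) ^ 3 ≤ 16 * n ^ 3 := by
          nlinarith only [hn, sq_nonneg (n : ℤ)]
        calc 4096 * (n + 1) ^ 3 ≤ 4096 * (16 * n ^ 3) := Nat.mul_le_mul_left _ h6
          _ = 16 * (4096 * n ^ 3) := by ring
          _ < 16 * 16 ^ n := by omega
          _ = 16 ^ (n + 1) := by ring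
    have h6 := h5 t hcon
    have h7 : t * (16 ^ t * (4 * 1)) ≤ 4 * (8 * t) ^ 4 :=
      le_trans (Nat.mul_le_mul_left _ (Nat.mul_le_mul_left _ (Nat.mul_le_mul_left _ h0)))
        (h1.trans h2)
    have h8 : t * (16 ^ t) ≤ t * (4096 * t ^ 3) := by
      have : 4 * (t * (16 ^ t)) ≤ 4 * (t * (4096 * t ^ 3)) := by
        calc 4 * (t * (16 ^ t)) = t * (16 ^ t * (4 * 1)) := by ring
          _ ≤ 4 * (8 * t) ^ 4 := h7
          _ = 4 * (t * (4096 * t ^ 3)) := by ring
      omega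
    have h9 := Nat.le_of_mul_le_mul_left h8 (Nat.pos_of_ne_zero ht0)
    omega
  obtain ⟨n, hn⟩ := h3
  omega

omit H [Finite G] [Finite C] in
/-- The commutator of an element of `Fc` and an element of the kernel of the `i`-panel. -/
theorem comm_mem_N2 {c : C} {q f : G} (hq : q ∈ F.U c) (hqx : ∀ x ∈ Δ.Pan i c, q • x = x)
    (hf : f ∈ Fc F i j c) : q * f * q⁻¹ * f⁻¹ ∈ N2 F i j c := by
  obtain ⟨hf1, hf2, hf3⟩ := mem_Fc.1 hf
  have hinv : ∀ {v : G} {x : C}, v • x = x → v⁻¹ • x = x := fun h => inv_smul_eq_iff.2 h.symm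
  refine mem_N2.2 ⟨mul_mem (mul_mem (mul_mem hq hf1) (inv_mem hq)) (inv_mem hf1),
    fun d hd x hx => ?_⟩
  rw [mul_smul, mul_smul, mul_smul]
  by_cases hdc : d = c
  · rw [hdc] at hx
    have h1 : f⁻¹ • x ∈ Δ.Pan i c := by
      have h2 := F.smul_Pan f⁻¹ hx
      rwa [hinv (F.fix c f hf1)] at h2
    rw [hinv (hqx _ h1), smul_inv_smul, hqx x hx]
  · have hq' : q⁻¹ • c = c := hinv (F.fix c q hq)
    have h1 : q⁻¹ • d ∈ Δ.Pan j c := by
      have h2 := F.smul_Pan q⁻¹ hd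
      rwa [hq'] at h2
    have h2 : q⁻¹ • d ≠ c := by
      intro h
      apply hdc
      rw [← hq'] at h
      exact smul_left_cancel _ h
    have h3 : q⁻¹ • x ∈ Δ.Pan i (q⁻¹ • d) := F.smul_Pan _ hx
    rw [hinv (hf3 d hd hdc x hx), hf3 _ h1 h2 _ h3, smul_inv_smul]

/-- The case `t ≥ 3`. -/
theorem false_of_le_two (c : C) (hN : Nat.card (N2 F i j c) ≤ 2) (ht : 3 ≤ t) : False := by
  classical
  obtain ⟨g, hg, h, hh, h4, h2, -⟩ := H.sig c
  obtain ⟨f, hf, hfx⟩ := H.exists_comm c hg hh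
  obtain ⟨hf1, hf2, hf3⟩ := mem_Fc.1 hf
  set σ := g * h * g⁻¹ * h⁻¹ with hσ
  have hσc : σ • c = c := F.fix c _
    (mul_mem (mul_mem (mul_mem hg hh) (inv_mem hg)) (inv_mem hh))
  have hfc : f • c = c := F.fix c f hf1
  have hf2x : ∀ x ∈ Δ.Pan i c, (f ^ 2) • x = (σ ^ 2) • x := by
    have e1 : F.Eqv i c f σ := hfx
    intro x hx
    rw [pow_two, pow_two]
    exact e1.mul F e1 hσc x hx
  -- `f ^ 2` commutes with the kernel of the `i`-panel
  have hcomm : ∀ q ∈ F.U c, (∀ x ∈ Δ.Pan i c, q • x = x) → q * f ^ 2 = f ^ 2 * q := by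
    intro q hq hqx
    set n := q * f * q⁻¹ * f⁻¹ with hn
    have hnN : n ∈ N2 F i j c := comm_mem_N2 hq hqx hf
    have hfn : f * n * f⁻¹ ∈ N2 F i j c := N2_conj (by rw [hfc]; exact Δ.self_mem_Pan j c) hnN
    have h1 : f * n * f⁻¹ = n ∧ n * n = 1 := by
      by_cases hn1 : n = 1
      · rw [hn1]
        refine ⟨by group, one_mul 1⟩
      · have hall : ∀ m ∈ N2 F i j c, m = 1 ∨ m = n := by
          intro m hm
          by_contra hcon
          push Not at hcon
          have h3 : ({1, n, m} : Finset G).card = 3 :=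
            Finset.card_eq_three.2 ⟨1, n, m, Ne.symm hn1, Ne.symm hcon.1, Ne.symm hcon.2, rfl⟩
          have h5 : (({1, n, m} : Finset G) : Set G) ⊆ (N2 F i j c : Set G) := by
            intro x hx
            simp only [Finset.coe_insert, Finset.coe_singleton, Set.mem_insert_iff,
              Set.mem_singleton_iff] at hx
            rcases hx with rfl | rfl | rfl
            · exact one_mem _
            · exact hnN
            · exact hm
          have h6 := Set.ncard_le_ncard h5 (Set.toFinite _)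
          rw [Set.ncard_coe_finset, h3, ← Nat.card_coe_set_eq] at h6
          have h7 : Nat.card (N2 F i j c : Set G) = Nat.card (N2 F i j c) := rfl
          omega
        constructor
        · rcases hall _ hfn with h3 | h3
          · exfalso
            apply hn1
            have h5 : n = f⁻¹ * (f * n * f⁻¹) * f := by group
            rw [h5, h3]
            group
          · exact h3
        · rcases hall _ (mul_mem hnN hnN) with h3 | h3
          · exact h3
          · exfalso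
            exact hn1 (mul_eq_left.1 h3)
    have h3 : q * f = n * f * q := by rw [hn]; group
    have h5 : f * n = n * f := by
      have := h1.1
      rwa [mul_inv_eq_iff_eq_mul] at this
    calc q * f ^ 2 = (q * f) * f := by rw [pow_two, mul_assoc]
      _ = (n * f * q) * f := by rw [h3]
      _ = n * f * (q * f) := by simp only [mul_assoc]
      _ = n * f * (n * f * q) := by rw [h3]
      _ = n * (f * n) * f * q := by simp only [mul_assoc]
      _ = n * (n * f) * f * q := by rw [h5]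
      _ = (n * n) * (f * f) * q := by simp only [mul_assoc]
      _ = f ^ 2 * q := by rw [h1.2, one_mul, pow_two]
  -- a chamber moved by `f ^ 2`
  obtain ⟨c1, -, -, hc1, -⟩ := F.thick c i
  have hc1c : c1 ≠ c := (Δ.ne_of_δ_simple hc1).symm
  have hc1P : c1 ∈ Δ.Pan i c := Or.inr hc1
  set c2 := (f ^ 2) • c1 with hc2
  have hc2P : c2 ∈ Δ.Pan i c := by
    have h1 := F.smul_Pan (f ^ 2) hc1P
    rwa [pow_two, mul_smul, hfc, hfc, ← pow_two] at h1
  have hc21 : c2 ≠ c1 := by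
    rw [hc2, hf2x c1 hc1P]
    exact h2 c1 hc1P hc1c
  have hδ : Δ.δ c1 c2 = cs.simple i := Δ.δ_eq_of_mem_Pan hc1P hc2P hc21.symm
  have hPan : Δ.Pan i c1 = Δ.Pan i c := Δ.Pan_eq_of_mem hc1P
  -- three elements of the `j`-panel of `c1`
  obtain ⟨b, hb⟩ : ∃ b : Fin 3 → C, Function.Injective b ∧ ∀ k, Δ.δ c1 (b k) = cs.simple j := by
    have h1 := H.card_D c1
    haveI : Finite {d : C // d ∈ Δ.Pan j c1 ∧ d ≠ c1} := inferInstance
    haveI := Fintype.ofFinite {d : C // d ∈ Δ.Pan j c1 ∧ d ≠ c1}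
    rw [Nat.card_eq_fintype_card] at h1
    obtain ⟨e⟩ : Nonempty (Fin 3 ↪ {d : C // d ∈ Δ.Pan j c1 ∧ d ≠ c1}) :=
      Function.Embedding.nonempty_of_card_le (by rw [Fintype.card_fin, h1]; exact ht)
    refine ⟨fun k => (e k).1, fun k l hkl => e.injective (Subtype.ext hkl), fun k => ?_⟩
    rcases (e k).2.1 with h3 | h3
    · exact absurd h3 (e k).2.2
    · exact h3
  obtain ⟨hbi, hbj⟩ := hb
  have hu : ∀ k, ∃ u ∈ F.U c1, u • c2 = c2 ∧ u • b 0 = b 0 ∧
      u • ((f ^ 2) • b 0) = (f ^ 2) • b k := by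
    intro k
    refine H.pairs c1 c2 (b 0) (b 0) ((f ^ 2) • b 0) ((f ^ 2) • b k) hδ (hbj 0) (hbj 0) ?_ ?_
    · rw [hc2, F.iso]
      exact hbj 0
    · rw [hc2, F.iso]
      exact hbj k
  choose u hu1 hu2 hu3 hu4 using hu
  -- two of the three are equal modulo the kernel
  have key : ∀ k l, k ≠ l → (∀ x ∈ Δ.Pan i c, ((u k)⁻¹ * u l) • x = x) → False := by
    intro k l hkl hx
    have h1 : (u k)⁻¹ * u l ∈ F.U c1 := mul_mem (inv_mem (hu1 k)) (hu1 l)
    have h3 : (u k)⁻¹ * u l ∈ F.U c := F.mem_of_fix h1 (hx c (Δ.self_mem_Pan i c))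
    have h5 := hcomm _ h3 hx
    have h6 : ((u k)⁻¹ * u l) • (f ^ 2) • b 0 = (f ^ 2) • b 0 := by
      rw [← mul_smul, h5, mul_smul, mul_smul, hu3 l, inv_smul_eq_iff.2 (hu3 k).symm]
    rw [mul_smul, inv_smul_eq_iff, hu4 l, hu4 k] at h6
    exact hkl (hbi (smul_left_cancel _ h6)).symm
  by_cases hex : ∃ k l, k ≠ l ∧ (∀ x ∈ Δ.Pan i c, u k • x = x) ∧ (∀ x ∈ Δ.Pan i c, u l • x = x)
  · obtain ⟨k, l, hkl, h1, h3⟩ := hex
    refine key k l hkl fun x hx => ?_
    rw [mul_smul, h3 x hx, inv_smul_eq_iff, h1 x hx]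
  · push Not at hex
    have h1 : ∃ k l, k ≠ l ∧ (∃ x ∈ Δ.Pan i c, u k • x ≠ x) ∧ (∃ x ∈ Δ.Pan i c, u l • x ≠ x) := by
      by_cases h01 : ∀ x ∈ Δ.Pan i c, u 0 • x = x
      · exact ⟨1, 2, by decide, hex 0 1 (by decide) h01, hex 0 2 (by decide) h01⟩
      · push Not at h01
        by_cases h11 : ∀ x ∈ Δ.Pan i c, u 1 • x = x
        · exact ⟨0, 2, by decide, h01, hex 1 2 (by decide) h11⟩
        · push Not at h11
          exact ⟨0, 1, by decide, h01, h11⟩
    obtain ⟨k, l, hkl, h3, h5⟩ := h1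
    refine key k l hkl ?_
    rw [← hPan] at h3 h5 ⊢
    exact (F.three c1 c2 i hδ (u k) (hu1 k) (hu2 k) h3).2 (u l) (hu1 l) (hu2 l) h5

end

end Hyp

end Cfsg.Agent.SplitTwo.Exc
end

-- part: SplitTwo/ExcD
section
/-!
# The stabiliser of an opposite chamber (S1144, [N])

`F : Fam Δ G`, `G` faithful, `d` opposite `c`: the order of `F.U c ⊓ G_d` is at most `4`, and at most `2` if
the panels of type `j` are regular.
-/

set_option autoImplicit false

namespace Cfsg.Agent.SplitTwo.ExcD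

open Cfsg.Agent.Tits.Core Cfsg.Agent.Tits.Core.Bldg Cfsg.Agent.SplitTwo.Exc

variable {I : Type*} {M : CoxeterMatrix I} {W : Type*} [Group W] {cs : CoxeterSystem M W}
variable {C : Type*} {Δ : Bldg cs C} {G : Type*} [Group G] [MulAction G C]
variable (F : Fam Δ G)

include F

/-- An element fixing two opposite chambers `c`, `d` fixes a chamber of every panel of `c`. -/
theorem exists_fix [Finite I] [Finite W] {c d : C} (h : Δ.Opp c d) {u : G} (hc : u • c = c)
    (hd : u • d = d) (k : I) : ∃ e, Δ.δ c e = cs.simple k ∧ u • e = e := by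
  have h1 : Δ.δ c d = cs.simple k * (cs.simple k * w0 cs) := by
    rw [cs.simple_mul_simple_cancel_left]
    exact h
  have h2 := Cfsg.Agent.Tits.Exchange.length_mul_w0 cs (cs.simple k)
  rw [cs.length_simple] at h2
  have h3 : cs.length (cs.simple k * (cs.simple k * w0 cs)) =
      cs.length (cs.simple k) + cs.length (cs.simple k * w0 cs) := by
    rw [cs.simple_mul_simple_cancel_left, cs.length_simple]
    omega
  obtain ⟨e, he1, he2⟩ := Δ.exists_between h1 h3
  exact ⟨e, he1, F.fix_between hc hd (by rw [he1, he2, h3])⟩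

/-- Rigidity. -/
theorem eq_one_of_pan [Finite I] [Finite W] (hfaith : ∀ g : G, (∀ x : C, g • x = x) → g = 1) {c d : C}
    (h : Δ.Opp c d) {u : G} (hd : u • d = d) (hp : ∀ k, ∀ x ∈ Δ.Pan k c, u • x = x) : u = 1 := by
  apply hfaith
  intro x
  refine Cfsg.Agent.Tits.Rigid.rigid (Δ := Δ) (Δ' := Δ) F.thick (J := Set.univ) (c := c) (d := d)
    (φ := fun y => u • y) (ψ := fun y => y) (fun a _ b _ => F.iso u a b) (fun a _ b _ => rfl)
    ?_ h hd x ?_
  · intro k _ y hy
    exact hp k y hy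
  · rw [Δ.Res_univ]
    trivial

/-- Two elements of `U c` fixing `d`, both trivial or both non-trivial on the panel, agree on it. -/
theorem agree_pan [Finite I] [Finite W] {c d : C} (h : Δ.Opp c d) {u v : G} (hu : u ∈ F.U c)
    (hv : v ∈ F.U c) (hud : u • d = d) (hvd : v • d = d) (k : I)
    (huv : (∀ x ∈ Δ.Pan k c, u • x = x) ↔ ∀ x ∈ Δ.Pan k c, v • x = x) :
    ∀ x ∈ Δ.Pan k c, (u⁻¹ * v) • x = x := by
  by_cases hux : ∀ x ∈ Δ.Pan k c, u • x = x
  · intro x hx
    rw [mul_smul, huv.1 hux x hx, inv_smul_eq_iff, hux x hx]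
  · have hvx : ¬ ∀ x ∈ Δ.Pan k c, v • x = x := fun h => hux (huv.2 h)
    push Not at hux hvx
    -- the projection of `d`
    have h1 : Δ.δ c d = cs.simple k * (cs.simple k * w0 cs) := by
      rw [cs.simple_mul_simple_cancel_left]
      exact h
    have h2 := Cfsg.Agent.Tits.Exchange.length_mul_w0 cs (cs.simple k)
    rw [cs.length_simple] at h2
    have h3 : cs.length (cs.simple k * (cs.simple k * w0 cs)) =
        cs.length (cs.simple k) + cs.length (cs.simple k * w0 cs) := by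
      rw [cs.simple_mul_simple_cancel_left, cs.length_simple]
      omega
    obtain ⟨e, he1, he2⟩ := Δ.exists_between h1 h3
    have hue : u • e = e := F.fix_between (F.fix c u hu) hud (by rw [he1, he2, h3])
    have hve : v • e = e := F.fix_between (F.fix c v hv) hvd (by rw [he1, he2, h3])
    exact (F.three c e k he1 u hu hue hux).2 v hv hve hvx

/-- `|U c ∩ G_d| ≤ 4` -/
theorem card_D_le [Finite W] (hfaith : ∀ g : G, (∀ x : C, g • x = x) → g = 1)
    {i j : I} (hI : ∀ k, k = i ∨ k = j) {c d : C} (h : Δ.Opp c d) :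
    Nat.card (F.U c ⊓ MulAction.stabilizer G d : Subgroup G) ≤ 4 := by
  classical
  have := DihPath.finI hI
  let f : (F.U c ⊓ MulAction.stabilizer G d : Subgroup G) → Bool × Bool := fun u =>
    (decide (∀ x ∈ Δ.Pan i c, (u : G) • x = x), decide (∀ x ∈ Δ.Pan j c, (u : G) • x = x))
  have hf : Function.Injective f := by
    intro u v huv
    have h1 := congrArg Prod.fst huv
    have h2 := congrArg Prod.snd huv
    simp only [f, decide_eq_decide] at h1 h2
    apply Subtype.ext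
    have h3 : (u : G)⁻¹ * v = 1 := by
      refine eq_one_of_pan F hfaith h ?_ ?_
      · have hu : (u : G) • d = d := u.2.2
        have hv : (v : G) • d = d := v.2.2
        rw [mul_smul, hv, inv_smul_eq_iff, hu]
      · intro k
        rcases hI k with rfl | rfl
        · exact agree_pan F h u.2.1 v.2.1 u.2.2 v.2.2 _ h1
        · exact agree_pan F h u.2.1 v.2.1 u.2.2 v.2.2 _ h2
    exact inv_mul_eq_one.1 h3
  have h4 := Nat.card_le_card_of_injective f hf
  have h5 : Nat.card (Bool × Bool) = 4 := by rw [Nat.card_eq_fintype_card]; rfl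
  rwa [h5] at h4

/-- `|U c ∩ G_d| ≤ 2` if the panels of type `j` are regular. -/
theorem card_D_le_two [Finite W] (hfaith : ∀ g : G, (∀ x : C, g • x = x) → g = 1)
    {i j : I} (hI : ∀ k, k = i ∨ k = j)
    (hreg : ∀ c e, Δ.δ c e = cs.simple j → ∀ u ∈ F.U c, u • e = e → ∀ x ∈ Δ.Pan j c, u • x = x)
    {c d : C} (h : Δ.Opp c d) :
    Nat.card (F.U c ⊓ MulAction.stabilizer G d : Subgroup G) ≤ 2 := by
  classical
  have := DihPath.finI hI
  let f : (F.U c ⊓ MulAction.stabilizer G d : Subgroup G) → Bool := fun u =>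
    decide (∀ x ∈ Δ.Pan i c, (u : G) • x = x)
  have hf : Function.Injective f := by
    intro u v huv
    simp only [f, decide_eq_decide] at huv
    apply Subtype.ext
    have h3 : (u : G)⁻¹ * v = 1 := by
      refine eq_one_of_pan F hfaith h ?_ ?_
      · have hu : (u : G) • d = d := u.2.2
        have hv : (v : G) • d = d := v.2.2
        rw [mul_smul, hv, inv_smul_eq_iff, hu]
      · intro k
        rcases hI k with rfl | rfl
        · exact agree_pan F h u.2.1 v.2.1 u.2.2 v.2.2 _ huv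
        · refine agree_pan F h u.2.1 v.2.1 u.2.2 v.2.2 _ ?_
          obtain ⟨e, he, hue⟩ := exists_fix F h (F.fix c u u.2.1) u.2.2 k
          obtain ⟨e', he', hve⟩ := exists_fix F h (F.fix c v v.2.1) v.2.2 k
          exact ⟨fun _ => hreg c e' he' v v.2.1 hve, fun _ => hreg c e he u u.2.1 hue⟩
    exact inv_mul_eq_one.1 h3
  have h4 := Nat.card_le_card_of_injective f hf
  have h5 : Nat.card Bool = 2 := by rw [Nat.card_eq_fintype_card]; rfl
  rwa [h5] at h4

end Cfsg.Agent.SplitTwo.ExcD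
end

-- part: SplitTwo/ExcPairs
section
/-!
# Transitivity on pairs (S1144, [N])

`V` fixes the chamber `c` of a generalised `m`-gon, `m ≥ 3`, and is transitive on the chambers opposite
`c`; `c₂` in the `i`-panel of `c`.  Then the stabiliser of `c₂` in `V` is transitive on the pairs
(chamber of the `j`-panel of `c`, chamber of the `j`-panel of `c₂`).
-/

set_option autoImplicit false

namespace Cfsg.Agent.SplitTwo.ExcPairs

open Cfsg.Agent.Tits.Core Cfsg.Agent.Tits.Core.Bldg Cfsg.Agent.SplitTwo.DihPath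

variable {I : Type*} {M : CoxeterMatrix I} {W : Type*} [Group W] {cs : CoxeterSystem M W}
  {C : Type*} {Δ : Bldg cs C}

section

variable [Finite W] {i j : I} (hI : ∀ k, k = j ∨ k = i)

include hI

/-- Going one step back along the gallery. -/
theorem step_back {x y z : C} {k n : ℤ} (hk : k < n) (hn : n ≤ k + M j i)
    (h : Δ.δ x y = cs.simple (ty j i k)) (hz : Δ.δ y z = (w cs j i (k + 1))⁻¹ * w cs j i n) :
    Δ.δ x z = (w cs j i k)⁻¹ * w cs j i n := by
  have e : cs.simple (ty j i k) * ((w cs j i (k + 1))⁻¹ * w cs j i n) =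
      (w cs j i k)⁻¹ * w cs j i n := by
    rw [w_succ, mul_inv_rev, cs.inv_simple, mul_assoc, cs.simple_mul_simple_cancel_left]
  have l1 := length_delta cs hI rfl (k + 1) (k := n - (k + 1)) (by omega)
  have l2 := length_delta cs hI rfl k (k := n - k) (by omega)
  rw [add_sub_cancel] at l1 l2
  rw [← e, ← hz]
  apply Δ.step_lt_left h
  rw [hz, e, l1, l2]
  omega

/-- The chamber opposite `c` attached to the gallery `a, c, c₂, a₂` of type `j, i, j`. -/
theorem exists_opp (hm : 3 ≤ M j i) {a c c2 a2 : C} (ha : Δ.δ c a = cs.simple j)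
    (h : Δ.δ c c2 = cs.simple i) (ha2 : Δ.δ c2 a2 = cs.simple j) :
    ∃ e, Δ.δ a e = w cs j i (M j i + 1) ∧
      Δ.δ c e = (w cs j i 1)⁻¹ * w cs j i (M j i + 1) ∧
      Δ.δ c2 e = (w cs j i 2)⁻¹ * w cs j i (M j i + 1) ∧
      Δ.δ a2 e = (w cs j i 3)⁻¹ * w cs j i (M j i + 1) := by
  set m : ℤ := ((M j i : ℕ) : ℤ) with hmdef
  have hm3 : (3 : ℤ) ≤ m := by omega
  have t0 : ty j i 0 = j := by simp only [ty, _root_.Even.zero, ↓ _root_.reduceIte]
  have t1 : ty j i 1 = i := by simp only [ty, _root_.Int.not_even_one, ↓ _root_.reduceIte]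
  have t2 : ty j i 2 = j := by simp only [ty, _root_.even_two, ↓ _root_.reduceIte]
  have hac : Δ.δ a c = cs.simple (ty j i 0) := by rw [t0, Δ.symm c a, ha, cs.inv_simple]
  have hcc : Δ.δ c c2 = cs.simple (ty j i 1) := by rw [t1, h]
  have hca : Δ.δ c2 a2 = cs.simple (ty j i 2) := by rw [t2, ha2]
  obtain ⟨f, hf3⟩ := Δ.exists_δ a2 ((w cs j i 3)⁻¹ * w cs j i m)
  have hf2 := step_back hI (k := 2) (n := m) (by omega) (by omega) hca hf3
  have hf1 := step_back hI (k := 1) (n := m) (by omega) (by omega) hcc hf2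
  have hf0 := step_back hI (k := 0) (n := m) (by omega) (by omega) hac hf1
  obtain ⟨e, he, hae⟩ := Δ.exists_step a f (ty j i m)
  have key : ∀ (x : C) (k : ℤ), 1 ≤ k → k ≤ 3 → Δ.δ x f = (w cs j i k)⁻¹ * w cs j i m →
      Δ.δ x e = (w cs j i k)⁻¹ * w cs j i (m + 1) := by
    intro x k hk1 hk3 hx
    have e1 : (w cs j i k)⁻¹ * w cs j i m * cs.simple (ty j i m) =
        (w cs j i k)⁻¹ * w cs j i (m + 1) := by rw [w_succ, mul_assoc]
    have l1 := length_delta cs hI rfl k (k := m - k) (by omega)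
    have l2 := length_delta cs hI rfl k (k := m + 1 - k) (by omega)
    rw [add_sub_cancel] at l1 l2
    rw [← e1, ← hx]
    apply Δ.step_lt x f e _ he
    rw [hx, e1, l1, l2]
    omega
  refine ⟨e, ?_, key c 1 le_rfl (by omega) hf1, key c2 2 (by omega) (by omega) hf2,
    key a2 3 (by omega) le_rfl hf3⟩
  rw [hae, hf0, w_zero, inv_one, one_mul, w_succ]

end

/-- **Transitivity on pairs.** -/
theorem trans_pairs [Finite W] {G : Type*} [Group G] [MulAction G C]
    (iso : ∀ (g : G) x y, Δ.δ (g • x) (g • y) = Δ.δ x y) {i j : I} (hI : ∀ k, k = i ∨ k = j)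
    (hm : 3 ≤ M i j) (V : Subgroup G) {c c2 : C} (hV : ∀ u ∈ V, u • c = c)
    (tr : ∀ d d2, Δ.Opp c d → Δ.Opp c d2 → ∃ u ∈ V, u • d = d2) (h : Δ.δ c c2 = cs.simple i)
    {a b a2 b2 : C} (ha : Δ.δ c a = cs.simple j) (hb : Δ.δ c b = cs.simple j)
    (ha2 : Δ.δ c2 a2 = cs.simple j) (hb2 : Δ.δ c2 b2 = cs.simple j) :
    ∃ u ∈ V, u • c2 = c2 ∧ u • a = b ∧ u • a2 = b2 := by
  have hI' : ∀ k, k = j ∨ k = i := fun k => (hI k).symm
  have hm' : 3 ≤ M j i := by rw [M.symmetric]; exact hm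
  set m : ℤ := ((M j i : ℕ) : ℤ) with hmdef
  have hm3 : (3 : ℤ) ≤ m := by omega
  obtain ⟨e, he0, he1, he2, he3⟩ := exists_opp hI' hm' ha h ha2
  obtain ⟨e', he0', he1', he2', he3'⟩ := exists_opp hI' hm' hb h hb2
  rw [← hmdef] at he0 he1 he2 he3 he0' he1' he2' he3'
  have hw : (w cs j i 1)⁻¹ * w cs j i (m + 1) = w0 cs := by
    rw [add_comm]
    exact w_inv_mul_m cs hI' rfl 1
  obtain ⟨u, hu, hue⟩ := tr e e' (he1.trans hw) (he1'.trans hw)
  have w1 : w cs j i 1 = cs.simple j := by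
    have := w_succ (a := j) (b := i) cs 0
    rw [zero_add, w_zero, one_mul] at this
    rw [this]
    simp only [ty, _root_.Even.zero, ↓ _root_.reduceIte]
  have w2 : (w cs j i 1)⁻¹ * w cs j i 2 = cs.simple i := by
    have := w_succ (a := j) (b := i) cs 1
    rw [show (1 : ℤ) + 1 = 2 from rfl] at this
    rw [this, inv_mul_cancel_left]
    simp only [ty, _root_.Int.not_even_one, ↓ _root_.reduceIte]
  have w3 : (w cs j i 2)⁻¹ * w cs j i 3 = cs.simple j := by
    have := w_succ (a := j) (b := i) cs 2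
    rw [show (2 : ℤ) + 1 = 3 from rfl] at this
    rw [this, inv_mul_cancel_left]
    simp only [ty, _root_.even_two, ↓ _root_.reduceIte]
  have len : ∀ k : ℤ, 1 ≤ k → k ≤ m → cs.length ((w cs j i k)⁻¹ * w cs j i (m + 1)) = (m + 1 - k).natAbs := by
    intro k h1 h2
    have := length_delta cs hI' rfl k (k := m + 1 - k) (by omega)
    rwa [add_sub_cancel] at this
  have l0 : cs.length (w cs j i (m + 1)) = (m - 1).natAbs := by
    have h1 := w_add_two_m cs hI' rfl (m + 1 - 2 * m)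
    rw [← hmdef, sub_add_cancel] at h1
    rw [h1, length_w cs hI' rfl (by omega)]
    omega
  have uniq : ∀ (s : I) (x y y' z : C) (v : W), cs.length (cs.simple s * v) = cs.length v + 1 →
      Δ.δ x y = cs.simple s → Δ.δ y z = v → Δ.δ x y' = cs.simple s → Δ.δ y' z = v → y = y' := by
    intro s x y y' z v hl h1 h2 h3 h4
    refine Δ.between_unique ?_ h1 h2 h3 h4
    rw [hl, cs.length_simple, add_comm]
  -- `u c₂ = c₂`
  have hc : u • c = c := hV u hu
  have hc2 : u • c2 = c2 := by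
    refine uniq i c (u • c2) c2 e' _ ?_ ?_ ?_ h he2'
    · rw [← w2, mul_assoc, mul_inv_cancel_left, len 1 le_rfl (by omega), len 2 (by omega) (by omega)]
      omega
    · have := iso u c c2
      rw [hc] at this
      rw [this, h]
    · rw [← hue, iso, he2]
  refine ⟨u, hu, hc2, ?_, ?_⟩
  · refine uniq j c (u • a) b e' _ ?_ ?_ ?_ hb he0'
    · have h1 : cs.simple j * w cs j i (m + 1) = (w cs j i 1)⁻¹ * w cs j i (m + 1) := by
        rw [w1, cs.inv_simple]
      rw [h1, len 1 le_rfl (by omega), l0]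
      omega
    · have := iso u c a
      rw [hc] at this
      rw [this, ha]
    · rw [← hue, iso, he0]
  · refine uniq j c2 (u • a2) b2 e' _ ?_ ?_ ?_ hb2 he3'
    · rw [← w3, mul_assoc, mul_inv_cancel_left, len 2 (by omega) (by omega), len 3 (by omega) hm3]
      omega
    · have := iso u c2 a2
      rw [hc2] at this
      rw [this, ha2]
    · rw [← hue, iso, he3]

end Cfsg.Agent.SplitTwo.ExcPairs
end

-- part: SplitTwo/ExcOrder
section
/-!
# The order bound for groups fixing a chamber (S1144, [N])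

A group `V` fixing the chamber `c` of a finite generalised `m`-gon, `m ≤ 8`, whose panels have at most
`a + 1`, resp. `b + 1`, chambers: `|V| ≤ |V_d| (a b) ^ 4` for every chamber `d` opposite to `c`.
-/

set_option autoImplicit false

namespace Cfsg.Agent.SplitTwo.ExcOrder

open Cfsg.Agent.Tits.Core Cfsg.Agent.Tits.Core.Bldg Cfsg.Agent.SplitTwo.DihPath

variable {I : Type*} {M : CoxeterMatrix I} {W : Type*} [Group W] {cs : CoxeterSystem M W}
  {C : Type*} {Δ : Bldg cs C} {G : Type*} [Group G] [MulAction G C]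

/-- One step. -/
theorem card_le_step [Finite C] (iso : ∀ (g : G) x y, Δ.δ (g • x) (g • y) = Δ.δ x y) {s : I} {a : ℕ}
    {c d : C} (ha : Nat.card (Δ.Pan s c) ≤ a + 1) (hd : Δ.δ c d = cs.simple s) (V : Subgroup G)
    (hV : ∀ u ∈ V, u • c = c) :
    Nat.card V ≤ Nat.card (V ⊓ MulAction.stabilizer G d : Subgroup G) * a := by
  have hcd : c ≠ d := by
    rintro rfl
    rw [(Δ.eq_one c c).2 rfl] at hd
    have h := cs.length_simple s
    rw [← hd, cs.length_one] at h
    omega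
  have h1 : MulAction.orbit V d ⊆ Δ.Pan s c \ {c} := by
    rintro _ ⟨⟨v, hv⟩, rfl⟩
    have h2 : Δ.δ c (v • d) = cs.simple s := by
      have := iso v c d
      rw [hV v hv] at this
      rw [this, hd]
    refine ⟨Or.inr h2, fun (h : v • d = c) => ?_⟩
    apply hcd
    have h3 : v⁻¹ • c = d := by rw [← h, inv_smul_smul]
    rw [← h3, inv_smul_eq_iff.2 (hV v hv).symm]
  have h2 : (MulAction.orbit V d).ncard ≤ a := by
    have h3 := Set.ncard_le_ncard h1
    rw [Set.ncard_sdiff_singleton_of_mem (show c ∈ Δ.Pan s c from Or.inl rfl)] at h3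
    have h4 : (Δ.Pan s c).ncard = Nat.card (Δ.Pan s c) := rfl
    omega
  have h3 := Subgroup.card_mul_index (MulAction.stabilizer V d)
  rw [MulAction.index_stabilizer] at h3
  have h4 : Nat.card (MulAction.stabilizer V d) =
      Nat.card (V ⊓ MulAction.stabilizer G d : Subgroup G) := by
    refine Nat.card_congr
      { toFun := fun x => ⟨(x : V), (x : V).2, x.2⟩
        invFun := fun x => ⟨⟨x, x.2.1⟩, x.2.2⟩
        left_inv := fun x => rfl
        right_inv := fun x => rfl }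
  rw [h4] at h3
  rw [← h3]
  exact Nat.mul_le_mul_left _ h2

section

variable {i j : I} {a b : ℕ}

/-- The bound for the panel of type `ty k`. -/
def q (a b : ℕ) (k : ℕ) : ℕ := if Even k then a else b

theorem card_le_walk [Finite C] [Finite G]
    (iso : ∀ (g : G) x y, Δ.δ (g • x) (g • y) = Δ.δ x y)
    (ha : ∀ x, Nat.card (Δ.Pan i x) ≤ a + 1) (hb : ∀ x, Nat.card (Δ.Pan j x) ≤ b + 1)
    (V : Subgroup G) {c : C} (hV : ∀ u ∈ V, u • c = c) (n : ℕ) :
    ∀ d : C, Δ.δ c d = w cs i j n →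
      Nat.card V ≤ Nat.card (V ⊓ MulAction.stabilizer G d : Subgroup G) *
        ∏ k ∈ Finset.range n, q a b k := by
  induction n with
  | zero =>
    intro d hd
    rw [Nat.cast_zero, w_zero, Δ.eq_one] at hd
    subst hd
    rw [Finset.range_zero, Finset.prod_empty, mul_one,
      inf_eq_left.2 (show V ≤ MulAction.stabilizer G c from hV)]
  | succ n ih =>
    intro d hd
    obtain ⟨e, he, hce⟩ := Δ.exists_step c d (ty i j n)
    rw [hd, Nat.cast_succ, w_succ, cs.simple_mul_simple_cancel_right] at hce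
    have hed : Δ.δ e d = cs.simple (ty i j n) := by
      rw [Δ.symm d e, he, cs.inv_simple]
    have h1 := ih e hce
    have h2 : Nat.card (Δ.Pan (ty i j n) e) ≤ q a b n + 1 := by
      rw [ty, q]
      by_cases hn : Even n
      · rw [if_pos hn, if_pos (by exact_mod_cast hn)]
        exact ha e
      · rw [if_neg hn, if_neg (by exact_mod_cast hn)]
        exact hb e
    have h3 := card_le_step iso h2 hed (V ⊓ MulAction.stabilizer G e) fun u hu => hu.2
    have h4 : Nat.card ((V ⊓ MulAction.stabilizer G e) ⊓ MulAction.stabilizer G d : Subgroup G) ≤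
        Nat.card (V ⊓ MulAction.stabilizer G d : Subgroup G) :=
      Subgroup.card_le_of_le (by
        exact le_inf (inf_le_left.trans inf_le_left) inf_le_right)
    rw [Finset.prod_range_succ]
    calc Nat.card V ≤ _ := h1
      _ ≤ (Nat.card (V ⊓ MulAction.stabilizer G d : Subgroup G) * q a b n) *
          ∏ k ∈ Finset.range n, q a b k :=
        Nat.mul_le_mul_right _ (h3.trans (Nat.mul_le_mul_right _ h4))
      _ = _ := by ring

/-- **The order bound.** -/
theorem card_le [Finite W] [Finite C] [Finite G]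
    (iso : ∀ (g : G) x y, Δ.δ (g • x) (g • y) = Δ.δ x y) (hI : ∀ k, k = i ∨ k = j)
    (hm : M i j ≤ 8) (h1a : 1 ≤ a) (h1b : 1 ≤ b)
    (ha : ∀ x, Nat.card (Δ.Pan i x) ≤ a + 1) (hb : ∀ x, Nat.card (Δ.Pan j x) ≤ b + 1)
    (V : Subgroup G) {c d : C} (hV : ∀ u ∈ V, u • c = c) (hd : Δ.Opp c d) :
    Nat.card V ≤ Nat.card (V ⊓ MulAction.stabilizer G d : Subgroup G) * (a * b) ^ 4 := by
  have h0 : w cs i j (M i j : ℕ) = w0 cs := by
    have := w_add_m cs hI rfl (0 : ℤ)
    rwa [zero_add, w_zero, one_mul] at this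
  have h1 := card_le_walk iso ha hb V hV (M i j) d (hd.trans h0.symm)
  refine h1.trans (Nat.mul_le_mul_left _ ?_)
  have h2 : ∏ k ∈ Finset.range 8, q a b k = (a * b) ^ 4 := by
    simp only [Finset.prod_range_succ, Finset.range_zero, Finset.prod_empty, q]
    norm_num [Nat.even_iff]
    ring
  rw [← h2]
  refine Finset.prod_le_prod_of_subset_of_one_le' (Finset.range_subset_range.2 hm) fun k _ _ => ?_
  rw [q]
  split_ifs
  · exact h1a
  · exact h1b

end

end Cfsg.Agent.SplitTwo.ExcOrder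
end

-- part: SplitTwo/ExcHyp168
section
/-!
S1144, [N], the exceptional panel: if the Fitting subgroups of the chamber stabilisers are 2-groups and some
panel is exceptional, then the hypotheses `Exc.Hyp` hold.
-/

set_option autoImplicit false
set_option linter.unusedSectionVars false

namespace Cfsg.Agent.SplitTwo.ExcHyp168

open Cfsg Cfsg.Agent.Tits.Core Cfsg.Agent.Tits.OppRes Cfsg.Agent.Tits.Rigid
open Cfsg.Agent.SplitTwo.Reducible Cfsg.Agent.SplitTwo.Glue MulAction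
open Cfsg.Agent.SplitTwo.Eps168 Cfsg.Agent.SplitTwo.PGroup168 Cfsg.Agent.SplitTwo.N168
open Subgroup

universe u v

/-- A fixed point free involution of `M` is central. -/
theorem central {Ω : Type u} [Finite Ω] {R M A : Subgroup (Equiv.Perm Ω)} {a b : Ω}
    (H : ExcSD.Hyp R M A a b) {t : Equiv.Perm Ω} (ht : t ∈ M) (htt : t * t = 1)
    (htf : ∀ x, x ≠ a → t x ≠ x) : ∀ m ∈ M, m * t = t * m := by
  obtain ⟨z, hz, -, hzz, hzc, -, hzi⟩ := H.exists_z
  have hinv : ∀ x ∈ A, t * x * t⁻¹ = x⁻¹ := by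
    intro x hx
    have hx' := H.An t (H.MR ht) x hx
    have hw : x * (t * x * t⁻¹) ∈ A := mul_mem hx hx'
    have h1 : t * (x * (t * x * t⁻¹)) = (x * (t * x * t⁻¹)) * t := by
      have h2 : t * (x * (t * x * t⁻¹)) = ((t * x * t⁻¹) * ((t * t) * x * (t * t)⁻¹)) * t := by
        group
      rw [h2, htt, one_mul, inv_one, mul_one, H.Ac _ hx' _ hx]
    have h3 : t ((x * (t * x * t⁻¹)) a) = (x * (t * x * t⁻¹)) a := by
      rw [← Equiv.Perm.mul_apply, h1, Equiv.Perm.mul_apply, H.Ma _ ht]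
    have h4 : (x * (t * x * t⁻¹)) a = a := by
      by_contra hne
      exact htf _ hne h3
    exact eq_inv_of_mul_eq_one_right (H.reg hw h4)
  have h1 : z⁻¹ * t = 1 := by
    refine H.triv (H.Ma _ (mul_mem (inv_mem hz) ht)) fun x hx => ?_
    have h2 : z⁻¹ * t * x * (z⁻¹ * t)⁻¹ = z⁻¹ * (t * x * t⁻¹) * z := by group
    rw [h2, hinv x hx]
    have h3 := hzi x hx
    rw [← h3]
    group
  rw [← inv_mul_eq_one.1 h1]
  exact hzc

section

variable {I : Type*} {M : CoxeterMatrix I} {W : Type*} [Group W] {cs : CoxeterSystem M W}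
variable {C : Type u} {Δ : Bldg cs C} [F : Cox cs]
variable {G : Type v} [Group G] [Finite G] [MulAction G C] [Finite C]

/-- `ExcSD.Hyp` for an exceptional panel. -/
theorem hyp_panel (hR : RankOneR.{u}) {c : C} {s : I} (H : Split Δ c (fit G c))
    (h2 : IsPGroup 2 (fit G c)) (hb : Bad Δ G s c) : ∃ (A : Subgroup (Equiv.Perm (Δ.Pan s c)))
      (b : Δ.Pan s c), ExcSD.Hyp (H.perm s).range (img H s) A ⟨c, Or.inl rfl⟩ b := by
  obtain ⟨b, hb, hbc, v, hv, hvb, x, hx, hvx⟩ := hb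
  have D := data H s
  have hb' : (⟨b, hb⟩ : Δ.Pan s c) ≠ ⟨c, Or.inl rfl⟩ := fun h => hbc (congrArg Subtype.val h)
  have hv1 : H.perm s ⟨v, H.le_panStab s hv⟩ ≠ 1 := by
    intro h
    rw [H.perm_eq_one] at h
    exact hvx (h x hx)
  have hM : IsPGroup 2 (img H s) := by
    unfold img
    exact (h2.comap_subtype).map _
  obtain ⟨A, hA⟩ := D.aff hR hb' ⟨_, mem_img H hv, Subtype.ext hvb, hv1⟩
  exact ⟨A, ⟨b, hb⟩, hb', D.le, D.fix, D.norm, hM, D.trans, D.unique hR hb',
    ⟨_, mem_img H hv, Subtype.ext hvb, hv1⟩, hA.le, hA.norm, hA.comm, hA.trans⟩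

/-- The commutator. -/
theorem sig (hR : RankOneR.{u}) {c : C} {s : I} (H : Split Δ c (fit G c))
    (h2 : IsPGroup 2 (fit G c)) (hb : Bad Δ G s c) : ∃ g ∈ fit G c, ∃ h ∈ fit G c,
    (∀ x ∈ Δ.Pan s c, ((g * h * g⁻¹ * h⁻¹) ^ 4) • x = x) ∧
    (∀ x ∈ Δ.Pan s c, x ≠ c → ((g * h * g⁻¹ * h⁻¹) ^ 2) • x ≠ x) ∧
    ∀ m ∈ fit G c, ∀ x ∈ Δ.Pan s c,
      m • ((g * h * g⁻¹ * h⁻¹) ^ 2) • x = ((g * h * g⁻¹ * h⁻¹) ^ 2) • m • x := by
  obtain ⟨A, b, HH⟩ := hyp_panel hR H h2 hb
  obtain ⟨g, hg, h, hh, h4, hf⟩ := (hb.panel hR H h2).2.2.2.2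
  obtain ⟨g, hg, rfl⟩ := hg
  obtain ⟨h, hh, rfl⟩ := hh
  have e : H.perm s g * H.perm s h * (H.perm s g)⁻¹ * (H.perm s h)⁻¹ =
      H.perm s (g * h * g⁻¹ * h⁻¹) := by
    simp only [map_mul, map_inv]
  have hcen := central HH (t := (H.perm s g * H.perm s h * (H.perm s g)⁻¹ * (H.perm s h)⁻¹) ^ 2)
    (by
      refine pow_mem (mul_mem (mul_mem (mul_mem ?_ ?_) (inv_mem ?_)) (inv_mem ?_)) 2
      · exact ⟨g, hg, rfl⟩
      · exact ⟨h, hh, rfl⟩
      · exact ⟨g, hg, rfl⟩
      · exact ⟨h, hh, rfl⟩)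
    (by
      rw [← pow_add]
      exact h4) hf
  rw [e] at h4 hf hcen
  refine ⟨g, hg, h, hh, ?_, ?_, ?_⟩
  · intro x hx
    rw [← map_pow, H.perm_eq_one] at h4
    exact h4 x hx
  · intro x hx hxc hxx
    refine hf ⟨x, hx⟩ (fun h => hxc (congrArg Subtype.val h)) ?_
    rw [← map_pow]
    exact Subtype.ext hxx
  · intro m hm x hx
    have h5 := hcen _ (mem_img H hm)
    rw [← map_pow, ← map_mul, ← map_mul] at h5
    have h6 := congrArg (fun σ : Equiv.Perm (Δ.Pan s c) => ((σ ⟨x, hx⟩ : Δ.Pan s c) : C)) h5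
    rw [← mul_smul, ← mul_smul]
    exact h6

variable [Finite W]

/-- **The hypotheses of the exceptional case.** -/
theorem hyp (hR : RankOneR.{u}) [IsSimpleGroup G] {i j : I} (hI : ∀ k, k = i ∨ k = j)
    (hm3 : 3 ≤ M i j) (hm8 : M i j ≤ 8) (hf : ∀ g : G, (∀ x : C, g • x = x) → g = 1)
    (H : ∀ c : C, Split Δ c (fit G c)) (h2 : ∀ c : C, IsPGroup 2 (fit G c)) (c₀ : C)
    (hb₀ : Bad Δ G i c₀) :
    Exc.Hyp (fam hR H h2 c₀) i j (Nat.card (Δ.Pan j c₀) - 1) := by
  have hb : ∀ c, Bad Δ G i c := fun c => bad_all (H c₀) hb₀ c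
  have hKp : ∀ c, Exc.Kp Δ G i c = kx Δ G i c := fun c => rfl
  have hidx : ∀ c, (Exc.Kp Δ G i c).relIndex (fit G c) = 16 := by
    intro c
    rw [hKp, ← card_img (H c) i]
    exact ((hb c).panel hR (H c) (h2 c)).2.1
  have hci : ∀ c, Nat.card (Δ.Pan i c) = 9 := fun c => ((hb c).panel hR (H c) (h2 c)).1
  have hcj : ∀ c, Nat.card (Δ.Pan j c) = Nat.card (Δ.Pan j c₀) - 1 + 1 := by
    intro c
    rw [card_Pan (H c₀) j c]
    have := two_lt_card (H c₀) j
    omega
  have hcj2 := two_lt_card (H c₀) j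
  refine ⟨?_, odd_card (H c₀) (h2 c₀), hI, hci, hcj, ?_, hidx, ?_, ?_, ?_, ?_⟩
  · refine hom_eq_one fun h => ?_
    have h3 : Nat.card (fit G c₀) ∣ 2 := (Subgroup.card_subgroup_dvd_card _).trans h
    have h4 := (Subgroup.relIndex_dvd_card (Exc.Kp Δ G i c₀) (fit G c₀)).trans h3
    rw [hidx] at h4
    omega
  · intro c g hg
    exact (hb c).stab hR (H c) (h2 c) hg
  · intro c
    exact sig hR (H c) (h2 c) (hb c)
  · intro c
    obtain ⟨d, hd⟩ : ∃ d, Δ.Opp c d := exists_delta Δ c (w0 cs)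
    have h3 := ExcD.card_D_le (fam hR H h2 c₀) hf hI hd
    have h4 := ExcOrder.card_le (H c₀).iso hI hm8 (a := 8) (b := Nat.card (Δ.Pan j c₀) - 1)
      (by norm_num) (by omega) (fun x => (hci x).le) (fun x => (hcj x).le) (fit G c)
      (fun u hu => smul_of_mem_fit G hu) hd
    exact h4.trans (Nat.mul_le_mul_right _ h3)
  · intro ht c
    obtain ⟨d, hd⟩ : ∃ d, Δ.Opp c d := exists_delta Δ c (w0 cs)
    have hreg : ∀ c e, Δ.δ c e = cs.simple j → ∀ u ∈ (fam hR H h2 c₀).U c, u • e = e →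
        ∀ x ∈ Δ.Pan j c, u • x = x := by
      intro c e he w hw hwe x hx
      by_contra hne
      have hec : e ≠ c := by
        rintro rfl
        rw [delta_self] at he
        have := congrArg cs.length he
        rw [cs.length_one, cs.length_simple] at this
        omega
      have hbj : Bad Δ G j c := ⟨e, Or.inr he, hec, w, hw, hwe, x, hx, hne⟩
      have h9 := (hbj.panel hR (H c) (h2 c)).1
      have := hcj c
      omega
    have h3 := ExcD.card_D_le_two (fam hR H h2 c₀) hf hI hreg hd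
    have h4 := ExcOrder.card_le (H c₀).iso hI hm8 (a := 8) (b := Nat.card (Δ.Pan j c₀) - 1)
      (by norm_num) (by omega) (fun x => (hci x).le) (fun x => (hcj x).le) (fit G c)
      (fun u hu => smul_of_mem_fit G hu) hd
    exact h4.trans (Nat.mul_le_mul_right _ h3)
  · intro c c2 a b a2 b2 h ha hb' ha2 hb2
    exact ExcPairs.trans_pairs (H c₀).iso hI hm3 (fit G c) (fun u hu => smul_of_mem_fit G hu)
      (fun d d2 hd hd2 => (H c).sphere d d2 (hd.trans hd2.symm)) h ha hb' ha2 hb2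

end

end Cfsg.Agent.SplitTwo.ExcHyp168
end

-- part: SplitTwo/RankOneFrame
section
/-!
# Rank one groups of odd degree: perpendiculars

`Frame X U`: `X` is a normal doubly transitive subgroup whose involutions fix exactly one point, `U a` is a
nilpotent normal subgroup of the stabiliser of `a` with `U a ⊓ X` regular on the other points, and the
involutions of `X` fixing `a` are central in `U a`. An involution `j ∈ U a` fixing another point is a *line
involution*. If it exists then `|U a ⊓ X| = q ^ 3`, `|Fix j| = q + 1`, where `q - 1` is the number of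
involutions of `X` fixing `a`.
-/

set_option autoImplicit false

namespace Cfsg.Agent.SplitTwo.RankOneFrame

open MulAction

structure Frame {G Ω : Type*} [Group G] [MulAction G Ω] (X : Subgroup G) (U : Ω → Subgroup G) : Prop where
  normal : ∀ g : G, ∀ x ∈ X, g * x * g⁻¹ ∈ X
  faithful : ∀ g : G, (∀ c : Ω, g • c = c) → g = 1
  fix : ∀ {a : Ω} {x : G}, x ∈ U a → x • a = a
  conj : ∀ (g : G) {a : Ω} {x : G}, x ∈ U a → g * x * g⁻¹ ∈ U (g • a)
  nil : ∀ a, Group.IsNilpotent (U a)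
  two : ∀ {a b c d : Ω}, a ≠ b → c ≠ d → ∃ g ∈ X, g • a = c ∧ g • b = d
  reg : ∀ {a b c : Ω}, b ≠ a → c ≠ a → ∃ x ∈ U a, x ∈ X ∧ x • b = c
  semireg : ∀ {a b : Ω} {x : G}, x ∈ U a → x ∈ X → b ≠ a → x • b = b → x = 1
  inv_le : ∀ {t : G}, t ∈ X → t * t = 1 → t ≠ 1 → ∀ {a b : Ω}, t • a = a → t • b = b → a = b
  inv_fix : ∀ {t : G}, t ∈ X → t * t = 1 → ∃ a : Ω, t • a = a
  inv_ex : ∀ a : Ω, ∃ t ∈ X, t ≠ 1 ∧ t * t = 1 ∧ t • a = a
  inv_mem : ∀ {a : Ω} {t : G}, t ∈ X → t * t = 1 → t • a = a → t ∈ U a ∧ ∀ x ∈ U a, t * x = x * t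
  inv_conj : ∀ {a b : Ω} {s t : G}, a ≠ b → s ∈ X → s * s = 1 → s ≠ 1 → s • a = a →
    t ∈ X → t * t = 1 → t ≠ 1 → t • a = a → ∃ d ∈ X, d • a = a ∧ d • b = b ∧ d * s * d⁻¹ = t

/-- `j` is a line involution. -/
def IsLine {G Ω : Type*} [Group G] [MulAction G Ω] (X : Subgroup G) (U : Ω → Subgroup G) (j : G) : Prop :=
  j * j = 1 ∧ j ∉ X ∧ ∃ a b : Ω, a ≠ b ∧ j ∈ U a ∧ j • b = b

/-- the involution in a dihedral group -/
theorem dihedral {G : Type*} [Group G] [Finite G] {t j : G} (ht : t * t = 1) (hj : j * j = 1) :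
    (∃ g : G, g ∈ Subgroup.closure ({t, j} : Set G) ∧ g * t * g⁻¹ = j) ∨
      ∃ k : ℕ, ((t * j) ^ k) ≠ 1 ∧ ((t * j) ^ k) * ((t * j) ^ k) = 1 ∧ t * (t * j) ^ k = (t * j) ^ k * t ∧
        j * (t * j) ^ k = (t * j) ^ k * j := by
  have hti : t⁻¹ = t := inv_eq_of_mul_eq_one_left ht
  have hji : j⁻¹ = j := inv_eq_of_mul_eq_one_left hj
  set g := t * j with hg
  have hgi : g⁻¹ = j * t := by rw [hg, mul_inv_rev, hti, hji]
  have h1 : t * g * t⁻¹ = g⁻¹ := by
    rw [hgi, hti, hg]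
    calc t * (t * j) * t = (t * t) * j * t := by group
      _ = j * t := by rw [ht, one_mul]
  have h2 : j * g * j⁻¹ = g⁻¹ := by
    rw [hgi, hji, hg]
    calc j * (t * j) * j = j * t * (j * j) := by group
      _ = j * t := by rw [hj, mul_one]
  have h1k : ∀ k : ℕ, t * g ^ k * t⁻¹ = (g ^ k)⁻¹ := by
    intro k
    rw [← conj_pow, h1, inv_pow]
  have h2k : ∀ k : ℕ, j * g ^ k * j⁻¹ = (g ^ k)⁻¹ := by
    intro k
    rw [← conj_pow, h2, inv_pow]
  rcases Nat.even_or_odd' (orderOf g) with ⟨k, hk | hk⟩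
  · right
    have hpos : 0 < orderOf g := orderOf_pos g
    have h3 : g ^ k * g ^ k = 1 := by
      rw [← pow_add, ← two_mul, ← hk, pow_orderOf_eq_one]
    have h4 : (g ^ k)⁻¹ = g ^ k := inv_eq_of_mul_eq_one_left h3
    refine ⟨k, ?_, h3, ?_, ?_⟩
    · exact pow_ne_one_of_lt_orderOf (by omega) (by omega)
    · have := h1k k
      rw [h4, mul_inv_eq_iff_eq_mul] at this
      exact this
    · have := h2k k
      rw [h4, mul_inv_eq_iff_eq_mul] at this
      exact this
  · left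
    refine ⟨g ^ k, ?_, ?_⟩
    · refine Subgroup.pow_mem _ ?_ _
      exact Subgroup.mul_mem _ (Subgroup.subset_closure (by simp)) (Subgroup.subset_closure (by simp))
    · have h5 : t * (g ^ k)⁻¹ = g ^ k * t := by
        have := h1k k
        rw [mul_inv_eq_iff_eq_mul] at this
        have h6 : t * (g ^ k)⁻¹ = t * ((g ^ k)⁻¹ * t) * t⁻¹ := by group
        rw [h6, ← this, ← mul_assoc t t, ht, one_mul, hti]
      rw [mul_assoc, h5, ← mul_assoc, ← pow_add, ← two_mul]
      have h7 : g ^ (2 * k) * g = 1 := by rw [← pow_succ, ← hk, pow_orderOf_eq_one]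
      have h8 : g ^ (2 * k) = g⁻¹ := eq_inv_of_mul_eq_one_left h7
      rw [h8, hgi, mul_assoc, ht, mul_one]

variable {G Ω : Type*} [Group G] [MulAction G Ω] {X : Subgroup G} {U : Ω → Subgroup G}

namespace Frame

theorem mem_of_conj (h : Frame X U) {g x : G} (hx : g * x * g⁻¹ ∈ X) : x ∈ X := by
  have := h.normal g⁻¹ _ hx
  have h1 : g⁻¹ * (g * x * g⁻¹) * g⁻¹⁻¹ = x := by group
  rwa [h1] at this

/-- Elements of `U a` fixing `b` commute with the two point stabiliser in `X`. -/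
theorem comm (h : Frame X U) {a b : Ω} (hab : b ≠ a) {y d : G} (hy : y ∈ U a) (hyb : y • b = b)
    (hd : d ∈ X) (hda : d • a = a) (hdb : d • b = b) : y * d = d * y := by
  have h1 : d * y⁻¹ * d⁻¹ ∈ U a := by
    have := h.conj d ((U a).inv_mem hy)
    rwa [hda] at this
  have h2 : y * (d * y⁻¹ * d⁻¹) ∈ U a := (U a).mul_mem hy h1
  have h3 : y * (d * y⁻¹ * d⁻¹) ∈ X := by
    have : y * (d * y⁻¹ * d⁻¹) = (y * d * y⁻¹) * d⁻¹ := by group
    rw [this]
    exact X.mul_mem (h.normal y d hd) (X.inv_mem hd)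
  have hyb' : y⁻¹ • b = b := by rw [inv_smul_eq_iff, hyb]
  have hdb' : d⁻¹ • b = b := by rw [inv_smul_eq_iff, hdb]
  have h4 : (y * (d * y⁻¹ * d⁻¹)) • b = b := by
    rw [mul_smul, mul_smul, mul_smul, hdb', hyb', hdb, hyb]
  have h5 := h.semireg h2 h3 hab h4
  have h6 : y * d = (y * (d * y⁻¹ * d⁻¹)) * (d * y) := by group
  rw [h6, h5, one_mul]

/-- uniqueness of the line involution fixing `a` and `b` -/
theorem line_unique (h : Frame X U) {a b : Ω} (hab : b ≠ a) {y j : G} (hy : y ∈ U a) (hyb : y • b = b)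
    (hyy : y * y = 1) (hjj : j * j = 1) (hjy : j * y ∈ X) (hja : j • a = a) (hjb : j • b = b) : j = y := by
  have hya := h.fix hy
  have hda : (j * y) • a = a := by rw [mul_smul, hya, hja]
  have hdb : (j * y) • b = b := by rw [mul_smul, hyb, hjb]
  have hc := h.comm hab hy hyb hjy hda hdb
  by_contra hne
  have h1 : j * y ≠ 1 := by
    intro he
    apply hne
    rw [mul_eq_one_iff_eq_inv] at he
    rw [he]
    exact inv_eq_of_mul_eq_one_left hyy
  have h2 : (j * y) * (j * y) = 1 := by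
    calc (j * y) * (j * y) = j * (y * (j * y)) := by group
      _ = j * ((j * y) * y) := by rw [hc]
      _ = (j * j) * (y * y) := by group
      _ = 1 := by rw [hjj, hyy, one_mul]
  exact hab (h.inv_le hjy h2 h1 hdb hda)

theorem line_mem (h : Frame X U) {y : G} (hy : IsLine X U y) {c : Ω} (hc : y • c = c) : y ∈ U c := by
  obtain ⟨hyy, hyX, a, b, hab, hya, hyb⟩ := hy
  by_cases hca : c = a
  · rw [hca]; exact hya
  obtain ⟨x, hx, hxa, hxb⟩ := h.two hab (fun e : c = a => hca e)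
  have h1 : x * y * x⁻¹ ∈ U c := by
    have := h.conj x hya
    rwa [hxa] at this
  have h2 : (x * y * x⁻¹) • a = a := by
    have hxa' : x⁻¹ • a = b := by rw [inv_smul_eq_iff, hxb]
    rw [mul_smul, mul_smul, hxa', hyb, hxb]
  have h3 : y = x * y * x⁻¹ := by
    refine h.line_unique (fun e : a = c => hca e.symm) h1 h2 ?_ hyy ?_ hc (h.fix hya)
    · calc x * y * x⁻¹ * (x * y * x⁻¹) = x * (y * y) * x⁻¹ := by group
        _ = 1 := by rw [hyy]; group
    · have h4 : y * (x * y * x⁻¹) = (y * x * y⁻¹) * (y * y) * x⁻¹ := by group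
      rw [h4, hyy, mul_one]
      exact X.mul_mem (h.normal y x hx) (X.inv_mem hx)
  rw [h3]
  exact h1

theorem line_other (h : Frame X U) {y : G} (hy : IsLine X U y) (c : Ω) :
    ∃ b : Ω, b ≠ c ∧ y • b = b := by
  obtain ⟨hyy, hyX, a, b, hab, hya, hyb⟩ := hy
  by_cases hca : a = c
  · exact ⟨b, fun e => hab (hca.trans e.symm), hyb⟩
  · exact ⟨a, hca, h.fix hya⟩

theorem line_ne_one {y : G} (hy : IsLine X U y) : y ≠ 1 := by
  rintro rfl
  exact hy.2.1 X.one_mem

theorem line_conj (h : Frame X U) {y : G} (hy : IsLine X U y) (g : G) : IsLine X U (g * y * g⁻¹) := by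
  obtain ⟨hyy, hyX, a, b, hab, hya, hyb⟩ := hy
  refine ⟨?_, fun hm => hyX (h.mem_of_conj hm), g • a, g • b, ?_, h.conj g hya, ?_⟩
  · calc g * y * g⁻¹ * (g * y * g⁻¹) = g * (y * y) * g⁻¹ := by group
      _ = 1 := by rw [hyy]; group
  · exact fun e => hab (MulAction.injective g e)
  · rw [mul_smul, mul_smul, inv_smul_smul, hyb]

/-- the iterated commutator -/
theorem exists_last {S : Subgroup G} (hN : Group.IsNilpotent S) (f : G → G)
    (hf : ∀ x, ∀ n, x ∈ S.lowerCentralSeries n → f x ∈ S.lowerCentralSeries (n + 1)) {q : G}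
    (hqS : q ∈ S) (hq : f q ≠ 1) (hf1 : f 1 = 1) : ∃ k : ℕ, f (f^[k] q) ≠ 1 ∧ f (f (f^[k] q)) = 1 := by
  classical
  have h1 : ∀ k, f^[k] q ∈ S.lowerCentralSeries k := by
    intro k
    induction k with
    | zero => exact hqS
    | succ k ih =>
      rw [Function.iterate_succ_apply']
      exact hf _ _ ih
  obtain ⟨n, hn⟩ := (Subgroup.isNilpotent_iff_lowerCentralSeries S).1 hN
  have h2 : ∃ k, f^[k] q = 1 := ⟨n, by
    have := h1 n
    rw [hn] at this
    exact Subgroup.mem_bot.1 this⟩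
  let m := Nat.find h2
  have hm : f^[m] q = 1 := Nat.find_spec h2
  have hmin : ∀ k < m, f^[k] q ≠ 1 := fun k hk => Nat.find_min h2 hk
  have hm0 : m ≠ 0 := by
    intro h0
    rw [h0] at hm
    apply hq
    rw [Function.iterate_zero, id] at hm
    rw [hm, hf1]
  have hm1 : m ≠ 1 := by
    intro h0
    rw [h0] at hm
    exact hq hm
  refine ⟨m - 2, ?_, ?_⟩
  · rw [← Function.iterate_succ_apply' f]
    exact hmin _ (by omega)
  · rw [← Function.iterate_succ_apply' f, ← Function.iterate_succ_apply' f]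
    have h3 : (m - 2).succ.succ = m := by omega
    rw [h3, hm]

/-- **(c1)** `j t` is a line involution for every involution `t ∈ X` sharing a fixed point with `j`. -/
theorem line_mul (h : Frame X U) {j : G} (hj : IsLine X U j) {c : Ω} (hjc : j • c = c) {t : G} (ht : t ∈ X)
    (htt : t * t = 1) (ht1 : t ≠ 1) (htc : t • c = c) : IsLine X U (j * t) := by
  have hjU := h.line_mem hj hjc
  have hjj := hj.1
  have hji : j⁻¹ = j := inv_eq_of_mul_eq_one_left hjj
  -- an element `q ∈ U c ⊓ X` not commuting with `j`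
  obtain ⟨b, hbc, hjb⟩ := h.line_other hj c
  have hex : ∃ q ∈ U c, q ∈ X ∧ q * j * q⁻¹ * j⁻¹ ≠ 1 := by
    by_contra hno
    push Not at hno
    apply line_ne_one hj
    apply h.faithful
    intro d
    by_cases hd : d = c
    · rw [hd]; exact hjc
    · obtain ⟨x, hx, hxX, hxb⟩ := h.reg hbc hd
      have h1 := hno x hx hxX
      have h2 : x * j = j * x := by
        rw [mul_inv_eq_one, mul_inv_eq_iff_eq_mul] at h1
        exact h1
      rw [← hxb, ← mul_smul, ← h2, mul_smul, hjb]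
  obtain ⟨q, hq, hqX, hqj⟩ := hex
  -- iterate
  let f : G → G := fun x => x * j * x⁻¹ * j⁻¹
  have hfl : ∀ x, ∀ n, x ∈ (U c).lowerCentralSeries n → f x ∈ (U c).lowerCentralSeries (n + 1) := by
    intro x n hx
    rw [Subgroup.lowerCentralSeries_succ]
    exact Subgroup.commutator_mem_commutator hx hjU
  obtain ⟨k, hk1, hk2⟩ := exists_last (h.nil c) f hfl hq hqj (by
      change 1 * _ * (1 : G)⁻¹ * _⁻¹ = 1
      rw [one_mul, inv_one, mul_one, mul_inv_cancel])
  have hXk : ∀ k, f^[k] q ∈ X ∧ f^[k] q ∈ U c := by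
    intro k
    induction k with
    | zero => exact ⟨hqX, hq⟩
    | succ k ih =>
      rw [Function.iterate_succ_apply']
      change _ * j * _⁻¹ * j⁻¹ ∈ X ∧ _ * j * _⁻¹ * j⁻¹ ∈ U c
      set z := f^[k] q with hz
      have h1 : z * j * z⁻¹ * j⁻¹ = z * (j * z⁻¹ * j⁻¹) := by group
      refine ⟨?_, (U c).mul_mem ((U c).mul_mem ((U c).mul_mem ih.2 hjU) ((U c).inv_mem ih.2))
        ((U c).inv_mem hjU)⟩
      rw [h1]
      exact X.mul_mem ih.1 (h.normal _ _ (X.inv_mem ih.1))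
  set x : G := f^[k] q with hx
  have hxX : x ∈ X := (hXk k).1
  have hxU : x ∈ U c := (hXk k).2
  set s : G := x * j * x⁻¹ * j⁻¹ with hs
  have hs1 : s ≠ 1 := hk1
  have hsX : s ∈ X := by
    have h1 : s = x * (j * x⁻¹ * j⁻¹) := by rw [hs]; group
    rw [h1]
    exact X.mul_mem hxX (h.normal _ _ (X.inv_mem hxX))
  have hsU : s ∈ U c := (U c).mul_mem ((U c).mul_mem ((U c).mul_mem hxU hjU) ((U c).inv_mem hxU))
    ((U c).inv_mem hjU)
  have hsj : s * j = j * s := by
    have h1 : s * j * s⁻¹ * j⁻¹ = 1 := hk2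
    rw [mul_inv_eq_one, mul_inv_eq_iff_eq_mul] at h1
    exact h1
  have hsc : s • c = c := h.fix hsU
  have hxj : x * j * x⁻¹ = s * j := by rw [hs]; group
  have hss : s * s = 1 := by
    have h1 : (s * j) * (s * j) = 1 := by
      rw [← hxj]
      calc x * j * x⁻¹ * (x * j * x⁻¹) = x * (j * j) * x⁻¹ := by group
        _ = 1 := by rw [hjj]; group
    calc s * s = s * s * (j * j) := by rw [hjj, mul_one]
      _ = s * (s * j) * j := by group
      _ = s * (j * s) * j := by rw [hsj]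
      _ = (s * j) * (s * j) := by group
      _ = 1 := h1
  obtain ⟨d, hd, hdc, hdb, hdst⟩ := h.inv_conj hbc.symm hsX hss hs1 hsc ht htt ht1 htc
  have hcomm := h.comm hbc hjU hjb hd hdc hdb
  have h1 : IsLine X U (s * j) := by
    rw [← hxj]
    exact h.line_conj hj x
  have h2 : j * t = d * (s * j) * d⁻¹ := by
    have h3 : d * (s * j) * d⁻¹ = (d * s * d⁻¹) * (d * j * d⁻¹) := by group
    have h4 : d * j * d⁻¹ = j := by rw [← hcomm, mul_inv_cancel_right]
    rw [h3, h4, hdst]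
    exact ((h.inv_mem ht htt htc).2 j hjU).symm
  rw [h2]
  exact h.line_conj h1 d

theorem inv_fixed_of_comm (h : Frame X U) {t z : G} (ht : t ∈ X) (htt : t * t = 1) (ht1 : t ≠ 1) {a : Ω}
    (hta : t • a = a) (hzt : t * z = z * t) : z • a = a := by
  have h1 : t • (z • a) = z • a := by rw [← mul_smul, hzt, mul_smul, hta]
  exact h.inv_le ht htt ht1 h1 hta

/-- **(c3), existence of the perpendicular** -/
theorem exists_perp [Finite G] (h : Frame X U) {j : G} (hj : IsLine X U j) {a : Ω} (ha : j • a ≠ a) :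
    ∃ c : Ω, ∃ s ∈ X, j • c = c ∧ s * s = 1 ∧ s ≠ 1 ∧ s • c = c ∧ (j * s) • a = a := by
  obtain ⟨t, ht, ht1, htt, hta⟩ := h.inv_ex a
  have hjj := hj.1
  have hji : j⁻¹ = j := inv_eq_of_mul_eq_one_left hjj
  rcases dihedral htt hjj with ⟨g, -, hg⟩ | ⟨k, hk1, hkk, hkt, hkj⟩
  · exact absurd (by rw [← hg]; exact h.normal g t ht) hj.2.1
  set z := (t * j) ^ k with hz
  have hza : z • a = a := h.inv_fixed_of_comm ht htt ht1 hta hkt
  have hzX : z ∉ X := by
    intro hzX
    exact ha (h.inv_fixed_of_comm hzX hkk hk1 hza hkj.symm)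
  -- `z` and `j` are congruent modulo `X`
  have hmod : z * j ∈ X := by
    have h1 : ∀ n : ℕ, (t * j) ^ n * (j ^ n)⁻¹ ∈ X := by
      intro n
      induction n with
      | zero => simp
      | succ n ih =>
        have h2 : (t * j) ^ (n + 1) * (j ^ (n + 1))⁻¹ =
            ((t * j) ^ n * (j ^ n)⁻¹) * (j ^ n * t * (j ^ n)⁻¹) := by
          rw [pow_succ, pow_succ, mul_inv_rev]
          group
        rw [h2]
        exact X.mul_mem ih (h.normal _ _ ht)
    have h3 := h1 k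
    rw [← hz] at h3
    rcases Nat.even_or_odd' k with ⟨m, hm | hm⟩
    · exfalso
      apply hzX
      have h4 : j ^ k = 1 := by rw [hm, pow_mul, pow_two, hjj, one_pow]
      rwa [h4, inv_one, mul_one] at h3
    · have h4 : j ^ k = j := by rw [hm, pow_succ, pow_mul, pow_two, hjj, one_pow, one_mul]
      rwa [h4, hji] at h3
  set s := z * j with hs
  have hss : s * s = 1 := by
    calc s * s = z * (j * z) * j := by rw [hs]; group
      _ = z * (z * j) * j := by rw [hkj]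
      _ = (z * z) * (j * j) := by group
      _ = 1 := by rw [hkk, hjj, one_mul]
  have hs1 : s ≠ 1 := by
    intro e
    apply ha
    have h1 : j = z := by
      have h2 : z⁻¹ = z := inv_eq_of_mul_eq_one_left hkk
      rw [hs, mul_eq_one_iff_inv_eq, h2] at e
      exact e.symm
    rw [h1]
    exact hza
  obtain ⟨c, hc⟩ := h.inv_fix hmod hss
  have hsj : s * j = j * s := by rw [hs, ← mul_assoc, hkj]
  refine ⟨c, s, hmod, h.inv_fixed_of_comm hmod hss hs1 hc hsj, hss, hs1, hc, ?_⟩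
  rw [← hsj, hs, mul_assoc, hjj, mul_one]
  exact hza

/-- **(c3), uniqueness of the perpendicular** -/
theorem perp_unique (h : Frame X U) {j : G} (hj : IsLine X U j) {a : Ω} (ha : j • a ≠ a) {c c' : Ω}
    {s s' : G} (hs : s ∈ X) (hjc : j • c = c) (hss : s * s = 1) (hs1 : s ≠ 1) (hsc : s • c = c)
    (hja : (j * s) • a = a) (hs' : s' ∈ X) (hjc' : j • c' = c') (hss' : s' * s' = 1) (hs1' : s' ≠ 1)
    (hsc' : s' • c' = c') (hja' : (j * s') • a = a) : s = s' ∧ c = c' := by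
  have hjj := hj.1
  have hl := h.line_mem (h.line_mul hj hjc hs hss hs1 hsc) hja
  have hl' := h.line_mem (h.line_mul hj hjc' hs' hss' hs1' hsc') hja'
  have hsj : s * j = j * s := (h.inv_mem hs hss hsc).2 j (h.line_mem hj hjc)
  have hsj' : s' * j = j * s' := (h.inv_mem hs' hss' hsc').2 j (h.line_mem hj hjc')
  have h1 : s * s' ∈ U a := by
    have h2 : s * s' = (j * s) * (j * s') := by
      calc s * s' = s * (j * j) * s' := by rw [hjj, mul_one]
        _ = (s * j) * (j * s') := by group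
        _ = (j * s) * (j * s') := by rw [hsj]
    rw [h2]
    exact (U a).mul_mem hl hl'
  have h3 : s * s' = 1 := by
    refine h.semireg h1 (X.mul_mem hs hs') ha ?_
    have h4 : s * s' * j = j * (s * s') := by
      rw [mul_assoc, hsj', ← mul_assoc, hsj, mul_assoc]
    rw [← mul_smul, h4, mul_smul, h.fix h1]
  have h5 : s = s' := by
    rw [mul_eq_one_iff_eq_inv] at h3
    rw [h3]
    exact inv_eq_of_mul_eq_one_left hss'
  exact ⟨h5, h.inv_le hs hss hs1 hsc (by rw [h5]; exact hsc')⟩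

end Frame

end Cfsg.Agent.SplitTwo.RankOneFrame
end

-- part: SplitTwo/RankOneOdd
section
/-!
# Kantor–Seitz groups of odd degree which are not affine

`KS U`, odd degree, `X` a normal nonabelian simple subgroup. The involutions of `X` fix exactly one point,
the stabilisers in `X` are strongly embedded, `X` is doubly transitive.
-/

set_option autoImplicit false
set_option linter.unusedSectionVars false

namespace Cfsg.Agent.SplitTwo.RankOneOdd

open MulAction Cfsg Cfsg.Agent.KantorSeitz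

universe u v

/-- The conclusion of S1174 for the group `X`. -/
def Crit (X : Type*) [Group X] : Prop :=
  ∀ (S : Sylow 2 X) (T : Subgroup X), T ≠ ⊥ → IsStronglyClosed T (S : Subgroup X) →
    (⨆ t : {t : X // t ∈ T ∧ orderOf t = 2}, Subgroup.centralizer ({(t : X)} : Set X)) ≠ ⊤ →
    ∃ H : Subgroup X, IsStronglyEmbedded H

variable {G Ω : Type*} [Group G] [Finite G] [MulAction G Ω] [Finite Ω] [FaithfulSMul G Ω]
  {U : Ω → Subgroup G}

/-- the involutions (and `1`) in the centre of `U a` -/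
def Zc (U : Ω → Subgroup G) (a : Ω) : Subgroup G where
  carrier := {z | z ∈ U a ∧ z * z = 1 ∧ ∀ u ∈ U a, u * z = z * u}
  one_mem' := ⟨one_mem _, one_mul _, fun u _ => by rw [one_mul, mul_one]⟩
  mul_mem' := by
    rintro x y ⟨hx, hxx, hxc⟩ ⟨hy, hyy, hyc⟩
    refine ⟨mul_mem hx hy, ?_, fun u hu => ?_⟩
    · calc x * y * (x * y) = x * (y * x) * y := by group
        _ = x * (x * y) * y := by rw [hxc y hy]
        _ = (x * x) * (y * y) := by group
        _ = 1 := by rw [hxx, hyy, one_mul]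
    · rw [← mul_assoc, hxc u hu, mul_assoc, hyc u hu, mul_assoc]
  inv_mem' := by
    rintro x ⟨hx, hxx, hxc⟩
    have : x⁻¹ = x := inv_eq_of_mul_eq_one_left hxx
    rw [this]
    exact ⟨hx, hxx, hxc⟩

theorem conj_Zc (h : KS U) (g : G) {a : Ω} {z : G} (hz : z ∈ Zc U a) : g * z * g⁻¹ ∈ Zc U (g • a) := by
  obtain ⟨h1, h2, h3⟩ := hz
  refine ⟨h.conj g h1, ?_, fun u hu => ?_⟩
  · calc g * z * g⁻¹ * (g * z * g⁻¹) = g * (z * z) * g⁻¹ := by group
      _ = 1 := by rw [h2]; group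
  · have h4 : g⁻¹ * u * g ∈ U a := by
      have := h.conj g⁻¹ hu
      rwa [inv_smul_smul, inv_inv] at this
    calc u * (g * z * g⁻¹) = g * ((g⁻¹ * u * g) * z) * g⁻¹ := by group
      _ = g * (z * (g⁻¹ * u * g)) * g⁻¹ := by rw [h3 _ h4]
      _ = _ := by group

theorem Zc_fix (h : KS U) {a : Ω} {z : G} (hz : z ∈ Zc U a) : z • a = a := h.fix hz.1

theorem Zc_eq (h : KS U) {a b : Ω} {z : G} (hz : z ∈ Zc U a) (hz1 : z ≠ 1) (hb : z • b = b) : b = a := by
  by_contra hab
  exact hz1 (h.semireg_of_comm hab (h.fix hz.1) hz.2.2 hb)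

/-- a commuting element fixes the point -/
theorem fix_of_comm (h : KS U) {a : Ω} {z g : G} (hz : z ∈ Zc U a) (hz1 : z ≠ 1) (hg : z * g = g * z) :
    g • a = a := by
  refine Zc_eq h hz hz1 ?_
  rw [← mul_smul, hg, mul_smul, Zc_fix h hz]

theorem exists_Zc (h : KS U) (hodd : Odd (Nat.card Ω)) {a b : Ω} (hab : b ≠ a) :
    ∃ z ∈ Zc U a, z ≠ 1 := by
  classical
  have : Fact (Nat.Prime 2) := ⟨Nat.prime_two⟩
  have hev : Even (Nat.card (U a)) := by
    -- the orbit `Ω ∖ {a}`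
    have h1 := MulAction.index_stabilizer (U a) b
    have h2 : MulAction.orbit (U a) b = {a}ᶜ := by
      ext c
      rw [Set.mem_compl_iff, Set.mem_singleton_iff]
      constructor
      · rintro ⟨x, rfl⟩ hc
        have h3 : x.1 • b = a := hc
        have h4 : x.1 • b = x.1 • a := by rw [h3, h.fix x.2]
        exact hab (MulAction.injective x.1 h4)
      · intro hc
        obtain ⟨x, hx, hxb⟩ := h.trans hab hc
        exact ⟨⟨x, hx⟩, hxb⟩
    rw [h2, Set.ncard_compl, Set.ncard_singleton] at h1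
    have h3 : (MulAction.stabilizer (U a) b).index ∣ Nat.card (U a) := Subgroup.index_dvd_card _
    rw [h1] at h3
    rw [even_iff_two_dvd]
    refine dvd_trans ?_ h3
    obtain ⟨k, hk⟩ := hodd
    exact ⟨k, by omega⟩
  have h1 : pP 2 (U a) ≠ ⊥ := by
    intro hb
    obtain ⟨⟨x, hx⟩, hx2⟩ := exists_prime_orderOf_dvd_card' 2 (even_iff_two_dvd.1 hev)
    rw [Subgroup.orderOf_mk] at hx2
    have h3 : x ∈ pP 2 (U a) := mem_pP_of hx (k := 1) (by rw [pow_one, ← hx2, pow_orderOf_eq_one])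
    rw [hb, Subgroup.mem_bot] at h3
    rw [h3, orderOf_one] at hx2
    omega
  have h2 := Z_ne_bot (p := 2) (h.nil a) h1
  obtain ⟨⟨z, hz⟩, hz1'⟩ := Subgroup.ne_bot_iff_exists_ne_one.1 h2
  have hz1 : z ≠ 1 := fun e => hz1' (Subtype.ext e)
  obtain ⟨-, k, hk⟩ := (mem_pP (h.nil a)).1 (Z_le hz)
  obtain ⟨n, -, hn⟩ := (Nat.dvd_prime_pow Nat.prime_two).1 (orderOf_dvd_of_pow_eq_one hk)
  have hn0 : n ≠ 0 := by
    rintro rfl
    rw [pow_zero, orderOf_eq_one_iff] at hn
    exact hz1 hn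
  obtain ⟨m, rfl⟩ := Nat.exists_eq_succ_of_ne_zero hn0
  have hj : z ^ 2 ^ m ∈ Z 2 U a := Subgroup.pow_mem _ hz _
  refine ⟨z ^ 2 ^ m, ⟨pP_le _ _ (Z_le hj), ?_, fun u hu => h.Z_comm hj hu⟩, ?_⟩
  · rw [← pow_add, ← two_mul, ← pow_succ', ← hn, pow_orderOf_eq_one]
  · refine pow_ne_one_of_lt_orderOf (pow_ne_zero _ (by norm_num)) ?_
    rw [hn]
    exact Nat.pow_lt_pow_right (by norm_num) (Nat.lt_succ_self m)

section

variable {X : Subgroup G}

/-- a nontrivial normal subgroup is transitive -/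
theorem trans_X (h : KS U) (hX : X.Normal) (hX1 : X ≠ ⊥) (a b : Ω) : ∃ x ∈ X, x • a = b := by
  by_cases hab : a = b
  · exact ⟨1, one_mem _, by rw [one_smul, hab]⟩
  obtain ⟨⟨x, hx⟩, hx1⟩ := Subgroup.ne_bot_iff_exists_ne_one.1 hX1
  have hx1' : x ≠ 1 := fun e => hx1 (Subtype.ext e)
  have : ∃ c : Ω, x • c ≠ c := by
    by_contra hno
    push Not at hno
    exact hx1' (KS.eq_one_of_fix (Ω := Ω) hno)
  obtain ⟨c, hc⟩ := this
  obtain ⟨g, hg1, hg2⟩ := h.two (Ne.symm hc) hab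
  refine ⟨g * x * g⁻¹, hX.conj_mem x hx g, ?_⟩
  rw [← hg1, mul_smul, mul_smul, inv_smul_smul, hg2]

/-- In odd degree some central involution of `U a` lies in `X`. -/
theorem exists_Zc_X (h : KS U) (hodd : Odd (Nat.card Ω)) (hX : X.Normal) [IsSimpleGroup X]
    (hnc : ∃ x y : X, x * y ≠ y * x) {a b : Ω} (hab : b ≠ a) : ∃ z ∈ Zc U a, z ∈ X ∧ z ≠ 1 := by
  classical
  by_contra hno
  push Not at hno
  obtain ⟨z, hz, hz1⟩ := exists_Zc h hodd hab
  have hzX : z ∉ X := fun hzX => hz1 (hno z hz hzX)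
  have hX1 : X ≠ ⊥ := by
    rintro rfl
    obtain ⟨x, y, hxy⟩ := hnc
    exact hxy (Subsingleton.elim _ _)
  -- `z` centralises the stabiliser
  have hcen : ∀ x ∈ X, x • a = a → z * x = x * z := by
    intro x hx hxa
    have h1 : x * z⁻¹ * x⁻¹ ∈ Zc U a := by
      have := conj_Zc h x ((Zc U a).inv_mem hz)
      rwa [hxa] at this
    have h2 := hno (z * (x * z⁻¹ * x⁻¹)) ((Zc U a).mul_mem hz h1) (by
      have : z * (x * z⁻¹ * x⁻¹) = (z * x * z⁻¹) * x⁻¹ := by group
      rw [this]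
      exact X.mul_mem (hX.conj_mem x hx z) (X.inv_mem hx))
    have h3 : z * x = (z * (x * z⁻¹ * x⁻¹)) * (x * z) := by group
    rw [h3, h2, one_mul]
  let H : Subgroup G := X ⊔ Subgroup.zpowers z
  have hzH : z ∈ H := Subgroup.mem_sup_right (Subgroup.mem_zpowers z)
  have hXH : X ≤ H := le_sup_left
  have hiso : IsIsolatedInvolution (⟨z, hzH⟩ : H) := by
    refine ⟨?_, ?_⟩
    · refine orderOf_eq_prime ?_ (fun e => hz1 (congrArg Subtype.val e))
      rw [pow_two]
      exact Subtype.ext hz.2.1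
    · rintro ⟨g, hg⟩ hc
      have hc' : z * (g * z * g⁻¹) = (g * z * g⁻¹) * z := congrArg Subtype.val hc.eq
      apply Subtype.ext
      change g * z * g⁻¹ = z
      obtain ⟨x, hx, y, hy, rfl⟩ := Subgroup.mem_sup_of_normal_left.1 hg
      obtain ⟨i, rfl⟩ := Subgroup.mem_zpowers_iff.1 hy
      have h1 : x * z ^ i * z * (x * z ^ i)⁻¹ = x * z * x⁻¹ := by group
      rw [h1] at hc' ⊢
      have h2 := fix_of_comm h hz hz1 hc'
      have h3 : x * z * x⁻¹ ∈ Zc U (x • a) := conj_Zc h x hz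
      have h4 : x * z * x⁻¹ ≠ 1 := by
        intro e
        apply hz1
        rw [mul_inv_eq_one] at e
        exact mul_left_cancel (e.trans (mul_one x).symm)
      have h5 := Zc_eq h h3 h4 h2
      rw [← hcen x hx h5.symm, mul_inv_cancel_right]
  have : Fact (Nat.Prime 2) := ⟨Nat.prime_two⟩
  have hp : IsPGroup 2 (Subgroup.zpowers (⟨z, hzH⟩ : H)) := by
    apply IsPGroup.of_card (n := 1)
    rw [Nat.card_zpowers, hiso.1, pow_one]
  obtain ⟨P, hP⟩ := hp.exists_le_sylow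
  have htP : (⟨z, hzH⟩ : H) ∈ P := hP (Subgroup.mem_zpowers _)
  obtain ⟨N, hN, hNodd, hcomm⟩ := Cfsg.Agent.S0215.result P (⟨z, hzH⟩ : H) hiso.1 htP
    (fun g hg => Cfsg.Agent.S1180.eq_of_conj_mem_isPGroup _ hiso (P : Subgroup H) P.2 htP g hg)
  -- the intersection of `N` and `X`
  let N' : Subgroup X := N.comap (Subgroup.inclusion hXH)
  have hN'n : N'.Normal := hN.comap _
  have hNX : N' = ⊥ := by
    rcases hN'n.eq_bot_or_eq_top with h1 | h1
    · exact h1
    · exfalso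
      have h2 : Odd (Nat.card X) := by
        have h3 : Nat.card X ∣ Nat.card N := by
          have h4 : ∀ x : X, Subgroup.inclusion hXH x ∈ N := by
            intro x
            have : x ∈ N' := by rw [h1]; trivial
            exact this
          let f : X →* N := (Subgroup.inclusion hXH).codRestrict N h4
          have hf : Function.Injective f := by
            intro x y hxy
            have := congrArg (fun n : N => ((n : H) : G)) hxy
            exact Subtype.ext this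
          exact Subgroup.card_dvd_of_injective f hf
        exact Odd.of_dvd_nat hNodd h3
      have h3 : Group.IsSolvable X := Cfsg.Agent.S0205.result h2
      obtain ⟨x, y, hxy⟩ := hnc
      exact hxy (IsSimpleGroup.comm_iff_isSolvable.2 h3 x y)
  have hzc : ∀ x ∈ X, z * x = x * z := by
    intro x hx
    have h1 := hcomm ⟨x, hXH hx⟩
    have h2 : (⟨z * x * z⁻¹ * x⁻¹, X.mul_mem (hX.conj_mem x hx z) (X.inv_mem hx)⟩ : X) ∈ N' := h1
    rw [hNX, Subgroup.mem_bot] at h2
    have h3 : z * x * z⁻¹ * x⁻¹ = 1 := congrArg Subtype.val h2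
    rw [mul_inv_eq_one, mul_inv_eq_iff_eq_mul] at h3
    exact h3
  apply hz1
  apply KS.eq_one_of_fix (Ω := Ω)
  intro c
  obtain ⟨x, hx, rfl⟩ := trans_X h hX hX1 a c
  rw [← mul_smul, hzc x hx, mul_smul, Zc_fix h hz]

/-- **All involutions of `X` are conjugate; each fixes exactly one point.** -/
theorem inv_conj_all (h : KS U) (hodd : Odd (Nat.card Ω)) (hX : X.Normal) [IsSimpleGroup X]
    (hnc : ∃ x y : X, x * y ≠ y * x) {a b : Ω} (hab : b ≠ a) (hcrit : Crit X) :
    ∀ x y : X, orderOf x = 2 → orderOf y = 2 → IsConj x y := by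
  classical
  have : Fact (Nat.Prime 2) := ⟨Nat.prime_two⟩
  have hX1 : X ≠ ⊥ := by
    rintro rfl
    obtain ⟨x, y, hxy⟩ := hnc
    exact hxy (Subsingleton.elim _ _)
  obtain ⟨z, hz, hzX, hz1⟩ := exists_Zc_X h hodd hX hnc hab
  let T : Subgroup X := (Zc U a).subgroupOf X
  have hT2 : IsPGroup 2 T := by
    rintro ⟨⟨x, hx⟩, hx'⟩
    refine ⟨1, Subtype.ext (Subtype.ext ?_)⟩
    have h1 : x * x = 1 := (Subgroup.mem_subgroupOf.1 hx').2.1
    change x ^ 2 ^ 1 = 1
    rw [pow_one, pow_two, h1]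
  obtain ⟨S, hS⟩ := hT2.exists_le_sylow
  -- `S` fixes `a`
  have hSa : ∀ s ∈ S, (s : X).1 • a = a := by
    have h1 : (Nat.card Ω).Coprime 2 := Nat.coprime_two_right.2 hodd
    obtain ⟨c, hc⟩ : (fixedPoints S Ω).Nonempty := by
      rw [Set.nonempty_iff_ne_empty]
      intro he
      have h2 := S.isPGroup'.card_modEq_card_fixedPoints Ω
      rw [he] at h2
      have h3 : Nat.card (∅ : Set Ω) = 0 := by simp
      rw [h3] at h2
      have h4 := Nat.modEq_zero_iff_dvd.1 h2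
      rw [← Nat.not_even_iff_odd] at hodd
      exact hodd (even_iff_two_dvd.2 h4)
    have hzS : (⟨z, hzX⟩ : X) ∈ S := hS (Subgroup.mem_subgroupOf.2 hz)
    have h5 : z • c = c := hc ⟨⟨z, hzX⟩, hzS⟩
    have h6 := Zc_eq h hz hz1 h5
    intro s hs
    have h7 : s.1 • c = c := hc ⟨s, hs⟩
    rwa [h6] at h7
  have hcl : IsStronglyClosed T (S : Subgroup X) := by
    refine ⟨hS, ?_⟩
    rintro ⟨x, hxX⟩ hx ⟨g, hg⟩ hgx
    by_cases hx1 : x = 1
    · subst hx1
      have : (⟨g, hg⟩ : X) * ⟨1, hxX⟩ * ⟨g, hg⟩⁻¹ = 1 := by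
        have h1 : (⟨1, hxX⟩ : X) = 1 := rfl
        rw [h1]
        group
      rw [this]
      exact one_mem _
    · have h1 : x ∈ Zc U a := Subgroup.mem_subgroupOf.1 hx
      have h2 := hSa _ hgx
      have h3 : g * x * g⁻¹ ∈ Zc U (g • a) := conj_Zc h g h1
      have h4 : g * x * g⁻¹ ≠ 1 := by
        intro e
        apply hx1
        rw [mul_inv_eq_one] at e
        exact mul_left_cancel (e.trans (mul_one g).symm)
      have h5 : a = g • a := Zc_eq h h3 h4 h2
      rw [← h5] at h3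
      exact Subgroup.mem_subgroupOf.2 h3
  have hprop : (⨆ t : {t : X // t ∈ T ∧ orderOf t = 2}, Subgroup.centralizer ({(t : X)} : Set X)) ≠ ⊤ := by
    intro htop
    have h1 : (⨆ t : {t : X // t ∈ T ∧ orderOf t = 2}, Subgroup.centralizer ({(t : X)} : Set X)) ≤
        stabilizer X a := by
      refine iSup_le ?_
      rintro ⟨t, ht, ht2⟩ x hx
      rw [Subgroup.mem_centralizer_singleton_iff] at hx
      refine fix_of_comm h (Subgroup.mem_subgroupOf.1 ht) ?_ (congrArg Subtype.val hx.symm)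
      intro e
      have : t = 1 := Subtype.ext e
      rw [this, orderOf_one] at ht2
      omega
    rw [htop] at h1
    obtain ⟨x, hx, hxa⟩ := trans_X h hX hX1 a b
    have h2 : x • a = a := h1 (Subgroup.mem_top (⟨x, hx⟩ : X))
    exact hab (hxa.symm.trans h2)
  have hTne : T ≠ ⊥ := by
    intro hT
    have h1 : (⟨z, hzX⟩ : X) ∈ T := Subgroup.mem_subgroupOf.2 hz
    rw [hT, Subgroup.mem_bot] at h1
    exact hz1 (congrArg Subtype.val h1)
  obtain ⟨H, hH⟩ := hcrit S T hTne hcl hprop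
  -- an involution outside `H`
  obtain ⟨s, hs⟩ := exists_prime_orderOf_dvd_card' 2 (even_iff_two_dvd.1 hH.2.1)
  have hs' : orderOf (s : X) = 2 := by rw [Subgroup.orderOf_coe, hs]
  have hu : ∃ u : X, orderOf u = 2 ∧ u ∉ H := by
    by_contra hno
    push Not at hno
    have h1 : Subgroup.normalClosure ({(s : X)} : Set X) ≤ H := by
      rw [Subgroup.normalClosure, Subgroup.closure_le]
      intro x hx
      rw [Group.mem_conjugatesOfSet_iff] at hx
      obtain ⟨s', hs1, hc⟩ := hx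
      rw [Set.mem_singleton_iff] at hs1
      subst hs1
      obtain ⟨g, rfl⟩ := isConj_iff.1 hc
      refine hno _ ?_
      have := orderOf_injective (MulAut.conj g).toMonoidHom (MulAut.conj g).injective (s : X)
      rw [← hs']
      exact this
    rcases (Subgroup.normalClosure_normal (s := ({(s : X)} : Set X))).eq_bot_or_eq_top with h2 | h2
    · have h3 : (s : X) ∈ Subgroup.normalClosure ({(s : X)} : Set X) :=
        Subgroup.subset_normalClosure rfl
      rw [h2, Subgroup.mem_bot] at h3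
      rw [h3, orderOf_one] at hs'
      omega
    · rw [h2, top_le_iff] at h1
      exact hH.1 h1
  obtain ⟨u, hu2, huH⟩ := hu
  exact (Cfsg.Agent.S1225.result H hH u hu2 huH s s hs' s.2 hs' s.2).2

theorem orderOf_two {K : Type*} [Group K] {x : K} : orderOf x = 2 ↔ x * x = 1 ∧ x ≠ 1 := by
  have : Fact (Nat.Prime 2) := ⟨Nat.prime_two⟩
  rw [orderOf_eq_prime_iff, pow_two]

/-- Every involution of `X` is a central involution of some `U p`. -/
theorem inv_mem_Zc (h : KS U) (hodd : Odd (Nat.card Ω)) (hX : X.Normal) [IsSimpleGroup X]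
    (hnc : ∃ x y : X, x * y ≠ y * x) {a b : Ω} (hab : b ≠ a) (hcrit : Crit X) {t : G} (ht : t ∈ X)
    (htt : t * t = 1) (ht1 : t ≠ 1) : ∃ p : Ω, t ∈ Zc U p := by
  obtain ⟨z, hz, hzX, hz1⟩ := exists_Zc_X h hodd hX hnc hab
  obtain ⟨x, hx⟩ := isConj_iff.1 (inv_conj_all h hodd hX hnc hab hcrit ⟨z, hzX⟩ ⟨t, ht⟩
    (orderOf_two.2 ⟨Subtype.ext hz.2.1, fun e => hz1 (congrArg Subtype.val e)⟩)
    (orderOf_two.2 ⟨Subtype.ext htt, fun e => ht1 (congrArg Subtype.val e)⟩))
  have h1 : x.1 * z * x.1⁻¹ = t := congrArg Subtype.val hx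
  exact ⟨x.1 • a, h1 ▸ conj_Zc h x.1 hz⟩

theorem inv_mem_Zc' (h : KS U) (hodd : Odd (Nat.card Ω)) (hX : X.Normal) [IsSimpleGroup X]
    (hnc : ∃ x y : X, x * y ≠ y * x) {a b : Ω} (hab : b ≠ a) (hcrit : Crit X) {t : G} (ht : t ∈ X)
    (htt : t * t = 1) (ht1 : t ≠ 1) {c : Ω} (htc : t • c = c) : t ∈ Zc U c := by
  obtain ⟨p, hp⟩ := inv_mem_Zc h hodd hX hnc hab hcrit ht htt ht1
  rwa [Zc_eq h hp ht1 htc]

/-- The stabilisers in `X` are strongly embedded. -/
theorem stronglyEmbedded (h : KS U) (hodd : Odd (Nat.card Ω)) (hX : X.Normal) [IsSimpleGroup X]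
    (hnc : ∃ x y : X, x * y ≠ y * x) {a b : Ω} (hab : b ≠ a) (hcrit : Crit X) :
    IsStronglyEmbedded (stabilizer X a) := by
  classical
  have : Fact (Nat.Prime 2) := ⟨Nat.prime_two⟩
  have hX1 : X ≠ ⊥ := by
    rintro rfl
    obtain ⟨x, y, hxy⟩ := hnc
    exact hxy (Subsingleton.elim _ _)
  obtain ⟨z, hz, hzX, hz1⟩ := exists_Zc_X h hodd hX hnc hab
  refine ⟨fun htop => ?_, ?_, fun g hg => ?_⟩
  · obtain ⟨x, hx, hxa⟩ := trans_X h hX hX1 a b
    have h2 : (⟨x, hx⟩ : X) ∈ stabilizer X a := by rw [htop]; trivial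
    exact hab (hxa.symm.trans h2)
  · have h1 : (⟨z, hzX⟩ : X) ∈ stabilizer X a := Zc_fix h hz
    have h2 : orderOf (⟨⟨z, hzX⟩, h1⟩ : stabilizer X a) = 2 :=
      orderOf_two.2 ⟨Subtype.ext (Subtype.ext hz.2.1), fun e => hz1
        (congrArg Subtype.val (congrArg Subtype.val e))⟩
    rw [even_iff_two_dvd, ← h2]
    exact orderOf_dvd_natCard _
  · rw [← Nat.not_even_iff_odd, even_iff_two_dvd]
    intro h2
    obtain ⟨d, hd⟩ := exists_prime_orderOf_dvd_card' 2 h2
    obtain ⟨hdd, hd1⟩ := orderOf_two.1 hd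
    have h3 : ((d : X) : G) ≠ 1 := fun e => hd1 (Subtype.ext (Subtype.ext e))
    have h4 : ((d : X) : G) * ((d : X) : G) = 1 := congrArg Subtype.val (congrArg Subtype.val hdd)
    have h5 : ((d : X) : G) • a = a := d.2.1
    obtain ⟨e, he, hed⟩ := Subgroup.mem_map.1 d.2.2
    have h6 : ((d : X) : G) • (g.1 • a) = g.1 • a := by
      have h7 : g.1 * e.1 * g.1⁻¹ = ((d : X) : G) := congrArg Subtype.val hed
      have h8 : e.1 • a = a := he
      rw [← h7, mul_smul, mul_smul, inv_smul_smul, h8]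
    have h9 := inv_mem_Zc' h hodd hX hnc hab hcrit (d : X).2 h4 h3 h5
    exact hg (Zc_eq h h9 h3 h6)

end

end Cfsg.Agent.SplitTwo.RankOneOdd
end

-- part: SplitTwo/RankOneOddB
section
/-!
# Kantor–Seitz groups of odd degree which are not affine: the frame
-/

set_option autoImplicit false
set_option linter.unusedSectionVars false

namespace Cfsg.Agent.SplitTwo.RankOneOddB

open MulAction Cfsg Cfsg.Agent.KantorSeitz Cfsg.Agent.SplitTwo.RankOneOdd Cfsg.Agent.SplitTwo.RankOneFrame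

variable {G Ω : Type*} [Group G] [Finite G] [MulAction G Ω] [Finite Ω] [FaithfulSMul G Ω]
  {U : Ω → Subgroup G} {X : Subgroup G}

theorem oddCore_X [IsSimpleGroup X] {t : X} (ht : orderOf t = 2) : oddCore X = ⊥ := by
  have : Fact (Nat.Prime 2) := ⟨Nat.prime_two⟩
  have hn : (oddCore X).Normal := Cfsg.Agent.Lib.Cores.pPrimeCore_normal 2
  rcases hn.eq_bot_or_eq_top with h1 | h1
  · exact h1
  · exfalso
    have h2 : Odd (Nat.card (oddCore X)) :=
      Nat.coprime_two_right.mp (Cfsg.Agent.Lib.Cores.pPrimeCore_coprime 2)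
    rw [h1, Subgroup.card_top, ← Nat.not_even_iff_odd] at h2
    exact h2 (even_iff_two_dvd.2 (ht ▸ orderOf_dvd_natCard t))

section

variable (h : KS U) (hodd : Odd (Nat.card Ω)) (hX : X.Normal) [IsSimpleGroup X]
  (hnc : ∃ x y : X, x * y ≠ y * x) (hcrit : Crit X)

include h hodd hX hnc hcrit

theorem oddCore_bot {a b : Ω} (hab : b ≠ a) : oddCore X = ⊥ := by
  obtain ⟨z, hz, hzX, hz1⟩ := exists_Zc_X h hodd hX hnc hab
  exact oddCore_X (t := ⟨z, hzX⟩)
    (orderOf_two.2 ⟨Subtype.ext hz.2.1, fun e => hz1 (congrArg Subtype.val e)⟩)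

theorem trans_stab {a b c : Ω} (hb : b ≠ a) (hc : c ≠ a) : ∃ x ∈ X, x • a = a ∧ x • b = c := by
  have hX1 : X ≠ ⊥ := by
    rintro rfl
    obtain ⟨x, y, hxy⟩ := hnc
    exact hxy (Subsingleton.elim _ _)
  have hSE := stronglyEmbedded h hodd hX hnc hb hcrit
  obtain ⟨g₁, hg₁, hg₁a⟩ := trans_X h hX hX1 a b
  obtain ⟨g₂, hg₂, hg₂a⟩ := trans_X h hX hX1 a c
  rcases Cfsg.Agent.S1220.result (stabilizer X a) hSE with h1 | ⟨-, h1⟩
  · obtain ⟨x, hx, hx'⟩ := h1 ⟨g₁, hg₁⟩ ⟨g₂, hg₂⟩ (fun e => hb (hg₁a.symm.trans e))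
      (fun e => hc (hg₂a.symm.trans e))
    refine ⟨x, x.2, hx, ?_⟩
    have h2 : (g₂⁻¹ * (x.1 * g₁)) • a = a := hx'
    rw [mul_smul, mul_smul, hg₁a, inv_smul_eq_iff, hg₂a] at h2
    exact h2
  · exfalso
    rw [oddCore_bot h hodd hX hnc hcrit hb, bot_sup_eq] at h1
    exact hSE.1 h1

theorem two_X {a b c d : Ω} (hab : a ≠ b) (hcd : c ≠ d) : ∃ g ∈ X, g • a = c ∧ g • b = d := by
  have hX1 : X ≠ ⊥ := by
    rintro rfl
    obtain ⟨x, y, hxy⟩ := hnc
    exact hxy (Subsingleton.elim _ _)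
  obtain ⟨g, hg, hga⟩ := trans_X h hX hX1 a c
  have h1 : g • b ≠ c := fun e => hab (MulAction.injective g (hga.trans e.symm))
  obtain ⟨x, hx, hxc, hxb⟩ := trans_stab h hodd hX hnc hcrit h1 hcd.symm
  exact ⟨x * g, X.mul_mem hx hg, by rw [mul_smul, hga, hxc], by rw [mul_smul, hxb]⟩

theorem oddCore_stab {a b : Ω} (hab : b ≠ a) : oddCore (stabilizer X a) = ⊥ := by
  have hSE := stronglyEmbedded h hodd hX hnc hab hcrit
  have h1 := Cfsg.Agent.S1221.result (stabilizer X a) hSE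
  rw [oddCore_bot h hodd hX hnc hcrit hab, le_bot_iff] at h1
  exact (Subgroup.map_eq_bot_iff_of_injective _ (stabilizer X a).subtype_injective).1 h1

/-- `O(U a) ∩ X = 1` -/
theorem pR_inf {a b : Ω} (hab : b ≠ a) {x : G} (hx : x ∈ pR 2 (U a)) (hxX : x ∈ X) : x = 1 := by
  have : Fact (Nat.Prime 2) := ⟨Nat.prime_two⟩
  let N : Subgroup (stabilizer X a) := ((pR 2 (U a)).subgroupOf X).subgroupOf (stabilizer X a)
  have hN : N.Normal := by
    refine ⟨?_⟩
    rintro ⟨⟨y, hyX⟩, hy⟩ hyN ⟨⟨g, hgX⟩, hg⟩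
    exact h.conj_pR_of_fix (p := 2) hg hyN
  have hNodd : Odd (Nat.card N) := by
    have h1 : Nat.card N ∣ Nat.card (pR 2 (U a)) := by
      let f : N →* pR 2 (U a) :=
        { toFun := fun y => ⟨((y : stabilizer X a) : X), y.2⟩
          map_one' := rfl
          map_mul' := fun _ _ => rfl }
      refine Subgroup.card_dvd_of_injective f ?_
      intro y y' hyy
      have h0 : (((y : stabilizer X a) : X) : G) = (((y' : stabilizer X a) : X) : G) :=
        congrArg (fun z : pR 2 (U a) => (z : G)) hyy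
      exact Subtype.ext (Subtype.ext (Subtype.ext h0))
    exact Odd.of_dvd_nat (Nat.coprime_two_right.1 (coprime_pR (h.nil a))) h1
  have h1 : N ≤ oddCore (stabilizer X a) :=
    Cfsg.Agent.Lib.Cores.le_pPrimeCore hN hNodd.coprime_two_right
  rw [oddCore_stab h hodd hX hnc hcrit hab, le_bot_iff] at h1
  have hxa : x • a = a := h.fix (pR_le _ _ hx)
  have h2 : (⟨⟨x, hxX⟩, hxa⟩ : stabilizer X a) ∈ N := hx
  rw [h1, Subgroup.mem_bot] at h2
  exact congrArg Subtype.val (congrArg Subtype.val h2)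

/-- every element of `U a ⊓ X` has `2`-power order -/
theorem two_pow {a b : Ω} (hab : b ≠ a) {x : G} (hx : x ∈ U a) (hxX : x ∈ X) : ∃ k, x ^ 2 ^ k = 1 := by
  have : Fact (Nat.Prime 2) := ⟨Nat.prime_two⟩
  obtain ⟨y, hy, z, hz, hxyz, -, hzx⟩ := exists_mul_parts (p := 2) hx
  have hzX : z ∈ X := (Subgroup.zpowers_le.2 hxX) hzx
  have hz1 := pR_inf h hodd hX hnc hcrit hab hz hzX
  rw [hxyz, hz1, mul_one]
  exact ((mem_pP (h.nil a)).1 hy).2

/-- `U a ⊓ X` is semiregular on the other points -/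
theorem semireg {a b : Ω} (hab : b ≠ a) {x : G} (hx : x ∈ U a) (hxX : x ∈ X) (hxb : x • b = b) : x = 1 := by
  have : Fact (Nat.Prime 2) := ⟨Nat.prime_two⟩
  by_contra hx1
  obtain ⟨k, hk⟩ := two_pow h hodd hX hnc hcrit hab hx hxX
  obtain ⟨n, -, hn⟩ := (Nat.dvd_prime_pow Nat.prime_two).1 (orderOf_dvd_of_pow_eq_one hk)
  have hn0 : n ≠ 0 := by
    rintro rfl
    rw [pow_zero, orderOf_eq_one_iff] at hn
    exact hx1 hn
  obtain ⟨m, rfl⟩ := Nat.exists_eq_succ_of_ne_zero hn0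
  have h1 : x ^ 2 ^ m * x ^ 2 ^ m = 1 := by
    rw [← pow_add, ← two_mul, ← pow_succ', ← hn, pow_orderOf_eq_one]
  have h2 : x ^ 2 ^ m ≠ 1 := by
    refine pow_ne_one_of_lt_orderOf (pow_ne_zero _ (by norm_num)) ?_
    rw [hn]
    exact Nat.pow_lt_pow_right (by norm_num) (Nat.lt_succ_self m)
  have h3 : x ^ 2 ^ m • a = a := h.fix ((U a).pow_mem hx _)
  have h4 : x ^ 2 ^ m • b = b := (stabilizer G b).pow_mem (show x ∈ stabilizer G b from hxb) _
  have h5 := inv_mem_Zc' h hodd hX hnc hab hcrit (X.pow_mem hxX _) h1 h2 h3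
  exact hab (Zc_eq h h5 h2 h4)

/-- `O(U a) = 1` -/
theorem pR_bot (htr : ∀ a b c : Ω, b ≠ a → c ≠ a → ∃ u ∈ U a, u ∈ X ∧ u • b = c) {a b : Ω} (hab : b ≠ a) {k : G} (hk : k ∈ pR 2 (U a)) : k = 1 := by
  have : Fact (Nat.Prime 2) := ⟨Nat.prime_two⟩
  -- `k` centralises `X_a`
  have hcen : ∀ x ∈ X, x • a = a → k * x = x * k := by
    intro x hx hxa
    have h1 : x * k⁻¹ * x⁻¹ ∈ pR 2 (U a) := h.conj_pR_of_fix hxa ((pR 2 (U a)).inv_mem hk)
    have h2 := pR_inf h hodd hX hnc hcrit hab (x := k * (x * k⁻¹ * x⁻¹)) ((pR 2 (U a)).mul_mem hk h1) (by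
      have : k * (x * k⁻¹ * x⁻¹) = (k * x * k⁻¹) * x⁻¹ := by group
      rw [this]
      exact X.mul_mem (hX.conj_mem x hx k) (X.inv_mem hx))
    have h3 : k * x = (k * (x * k⁻¹ * x⁻¹)) * (x * k) := by group
    rw [h3, h2, one_mul]
  have hka : k • a = a := h.fix (pR_le _ _ hk)
  have hkb : k • b ≠ a := fun e => hab (MulAction.injective k (e.trans hka.symm))
  obtain ⟨q, hq, hqX, hqb⟩ := htr a b (k • b) hab hkb
  have hkq : ∀ m : ℕ, k ^ m • b = q ^ m • b := by
    intro m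
    induction m with
    | zero => rw [pow_zero, pow_zero]
    | succ m ih =>
      have h1 : k * q ^ m = q ^ m * k :=
        hcen _ (X.pow_mem hqX _) (h.fix ((U a).pow_mem hq _))
      rw [pow_succ', mul_smul, ih, ← mul_smul, h1, mul_smul, ← hqb, ← mul_smul, ← pow_succ]
  have h1 := hkq (orderOf k)
  rw [pow_orderOf_eq_one, one_smul] at h1
  have h2 := semireg h hodd hX hnc hcrit hab ((U a).pow_mem hq _) (X.pow_mem hqX _) h1.symm
  obtain ⟨n, hn⟩ := two_pow h hodd hX hnc hcrit hab hq hqX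
  have h3 : (orderOf k).Coprime 2 := ((mem_pR (h.nil a)).1 hk).2
  have h4 : orderOf q ∣ orderOf k := orderOf_dvd_of_pow_eq_one h2
  have h5 : orderOf q ∣ 2 ^ n := orderOf_dvd_of_pow_eq_one hn
  have h6 : orderOf q = 1 := Nat.eq_one_of_dvd_coprimes (Nat.Coprime.pow_right n h3) h4 h5
  rw [orderOf_eq_one_iff] at h6
  rw [h6, one_smul] at hqb
  -- `k` fixes `b`, and centralises the transitive group `X_a`
  apply KS.eq_one_of_fix (Ω := Ω)
  intro c
  by_cases hca : c = a
  · rw [hca, hka]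
  · obtain ⟨x, hx, hxX, rfl⟩ := htr a b c hab hca
    rw [← mul_smul, hcen x hxX (h.fix hx), mul_smul, ← hqb]

theorem two_group (htr : ∀ a b c : Ω, b ≠ a → c ≠ a → ∃ u ∈ U a, u ∈ X ∧ u • b = c)
    {a b : Ω} (hab : b ≠ a) : IsPGroup 2 (U a) := by
  have : Fact (Nat.Prime 2) := ⟨Nat.prime_two⟩
  rintro ⟨x, hx⟩
  obtain ⟨y, hy, z, hz, hxyz, -, -⟩ := exists_mul_parts (p := 2) hx
  obtain ⟨-, k, hk⟩ := (mem_pP (h.nil a)).1 hy
  refine ⟨k, Subtype.ext ?_⟩
  change x ^ 2 ^ k = 1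
  rw [hxyz, pR_bot h hodd hX hnc hcrit htr hab hz, mul_one, hk]

/-- **The frame.** -/
theorem frame (htr : ∀ a b c : Ω, b ≠ a → c ≠ a → ∃ u ∈ U a, u ∈ X ∧ u • b = c)
    (hex : ∀ a : Ω, ∃ b : Ω, b ≠ a) (hne : Nonempty Ω) : Frame X U where
  normal g x hx := hX.conj_mem x hx g
  faithful g hg := KS.eq_one_of_fix hg
  fix hx := h.fix hx
  conj g _ _ hx := h.conj g hx
  nil := h.nil
  two hab hcd := two_X h hodd hX hnc hcrit hab hcd
  reg {a b c} hb hc := htr a b c hb hc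
  semireg hx hxX hab hxb := semireg h hodd hX hnc hcrit hab hx hxX hxb
  inv_le {t} ht htt ht1 a b hta htb := by
    obtain ⟨c, hc⟩ := hex a
    have h1 := inv_mem_Zc' h hodd hX hnc hc hcrit ht htt ht1 hta
    exact (Zc_eq h h1 ht1 htb).symm
  inv_fix {t} ht htt := by
    by_cases ht1 : t = 1
    · obtain ⟨a⟩ := hne
      exact ⟨a, by rw [ht1, one_smul]⟩
    · obtain ⟨a⟩ := hne
      obtain ⟨c, hc⟩ := hex a
      obtain ⟨p, hp⟩ := inv_mem_Zc h hodd hX hnc hc hcrit ht htt ht1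
      exact ⟨p, Zc_fix h hp⟩
  inv_ex a := by
    obtain ⟨c, hc⟩ := hex a
    obtain ⟨z, hz, hzX, hz1⟩ := exists_Zc_X h hodd hX hnc hc
    exact ⟨z, hzX, hz1, hz.2.1, Zc_fix h hz⟩
  inv_mem {a t} ht htt hta := by
    by_cases ht1 : t = 1
    · subst ht1
      exact ⟨one_mem _, fun x _ => by rw [one_mul, mul_one]⟩
    · obtain ⟨c, hc⟩ := hex a
      have h1 := inv_mem_Zc' h hodd hX hnc hc hcrit ht htt ht1 hta
      exact ⟨h1.1, fun x hx => (h1.2.2 x hx).symm⟩
  inv_conj {a b s t} hab hs hss hs1 hsa ht htt ht1 hta := by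
    -- an involution moving `a` to `b`
    obtain ⟨z, hz, hzX, hz1⟩ := exists_Zc_X h hodd hX hnc (a := b) (b := a) hab
    have hza : z • a ≠ a := fun e => hab (Zc_eq h hz hz1 e)
    obtain ⟨g, hg, hga, hgb⟩ := two_X h hodd hX hnc hcrit hza.symm hab
    have hSE := stronglyEmbedded h hodd hX hnc hab.symm hcrit
    have hu2 : orderOf (⟨g * z * g⁻¹, hX.conj_mem z hzX g⟩ : X) = 2 := by
      refine orderOf_two.2 ⟨Subtype.ext ?_, fun e => hz1 ?_⟩
      · change g * z * g⁻¹ * (g * z * g⁻¹) = 1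
        calc g * z * g⁻¹ * (g * z * g⁻¹) = g * (z * z) * g⁻¹ := by group
          _ = 1 := by rw [hz.2.1]; group
      · have e' : g * z * g⁻¹ = 1 := congrArg Subtype.val e
        rw [mul_inv_eq_one] at e'
        exact mul_left_cancel (e'.trans (mul_one g).symm)
    have huab : (g * z * g⁻¹) • a = b := by
      rw [mul_smul, mul_smul, inv_smul_eq_iff.2 hga.symm, hgb]
    obtain ⟨⟨d, hd, hds⟩, -⟩ := Cfsg.Agent.S1225.result (stabilizer X a) hSE
      ⟨g * z * g⁻¹, hX.conj_mem z hzX g⟩ hu2 (fun e => hab.symm (huab.symm.trans e)) ⟨s, hs⟩ ⟨t, ht⟩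
      (orderOf_two.2 ⟨Subtype.ext hss, fun e => hs1 (congrArg Subtype.val e)⟩) hsa
      (orderOf_two.2 ⟨Subtype.ext htt, fun e => ht1 (congrArg Subtype.val e)⟩) hta
    refine ⟨d, d.2, hd.1, ?_, congrArg Subtype.val hds⟩
    obtain ⟨e, he, hed⟩ := Subgroup.mem_map.1 hd.2
    have h7 : (g * z * g⁻¹) * e.1 * (g * z * g⁻¹)⁻¹ = d.1 := congrArg Subtype.val hed
    have h8 : e.1 • a = a := he
    rw [← h7, mul_smul, mul_smul, inv_smul_eq_iff.2 huab.symm, h8, huab]

end

end Cfsg.Agent.SplitTwo.RankOneOddB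
end

-- part: SplitTwo/RankOneMod
section
/-!
# A modular argument for rank one groups in characteristic two

`RankOne.le_of_aut`: `G` is generated by the conjugates of the `2`-group `Q`, `w` is an involution, `y` is an
involutory automorphism of `Q` compatible with the structure equations `w v w = x₁ d w x₂` such that `d ∈ D₀`
for the fixed points `v` of `y`. Then `D ≤ D₀`.
-/

set_option autoImplicit false

namespace Cfsg.Agent.SplitTwo.RankOneMod

open Cfsg.Agent.HKS MulAction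

variable {G : Type*} [Group G]

/-- functions invariant under right multiplication by `Q` and `D₀` -/
def Inv (Q D₀ : Subgroup G) (f : G → ZMod 2) : Prop :=
  (∀ g, ∀ u ∈ Q, f (g * u) = f g) ∧ (∀ g, ∀ d ∈ D₀, f (g * d) = f g)

/-- The operator of the double coset `Q w Q`. -/
noncomputable def T (Q : Subgroup G) [Fintype Q] (w : G) (f : G → ZMod 2) (g : G) : ZMod 2 :=
  ∑ u : Q, f (g * u * w)

variable {Q D₀ : Subgroup G} [Fintype Q] {w : G}

theorem T_left (f : G → ZMod 2) (x g : G) : T Q w (fun h => f (x * h)) g = T Q w f (x * g) := by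
  simp only [T, mul_assoc]

theorem T_add (f f' : G → ZMod 2) (g : G) :
    T Q w (fun h => f h + f' h) g = T Q w f g + T Q w f' g := by
  simp only [T, Finset.sum_add_distrib]

theorem T_mul_Q (f : G → ZMod 2) (g : G) {v : G} (hv : v ∈ Q) : T Q w f (g * v) = T Q w f g := by
  rw [T, T]
  refine Fintype.sum_equiv (Equiv.mulLeft ⟨v, hv⟩) _ _ (fun u => ?_)
  simp only [Equiv.coe_mulLeft, Subgroup.coe_mul, mul_assoc]

/-- conjugation by an element normalising `Q`, on `Q` -/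
def conjEquiv (Q : Subgroup G) (d : G) (hd : ∀ u ∈ Q, d * u * d⁻¹ ∈ Q) (hd' : ∀ u ∈ Q, d⁻¹ * u * d ∈ Q) :
    Q ≃ Q where
  toFun u := ⟨d * u * d⁻¹, hd u u.2⟩
  invFun u := ⟨d⁻¹ * u * d, hd' u u.2⟩
  left_inv u := Subtype.ext (by change d⁻¹ * (d * (u : G) * d⁻¹) * d = u; group)
  right_inv u := Subtype.ext (by change d * (d⁻¹ * (u : G) * d) * d⁻¹ = u; group)

theorem T_mul_D (f : G → ZMod 2) (g : G) {d : G} (hd : ∀ u ∈ Q, d * u * d⁻¹ ∈ Q)
    (hd' : ∀ u ∈ Q, d⁻¹ * u * d ∈ Q) : T Q w f (g * d) = ∑ u : Q, f (g * u * (d * w)) := by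
  rw [T]
  refine Fintype.sum_equiv (conjEquiv Q d hd hd') _ _ (fun u => ?_)
  congr 1
  change g * d * u * w = g * (d * u * d⁻¹) * (d * w)
  group

section

variable {B D W : Subgroup G}

theorem T_inv (h : RankOne B Q D W w) (hDD : D₀ ≤ D) (hwD : ∀ d ∈ D₀, w⁻¹ * d * w ∈ D₀)
    {f : G → ZMod 2} (hf : Inv Q D₀ f) : Inv Q D₀ (T Q w f) := by
  refine ⟨fun g u hu => T_mul_Q f g hu, fun g d hd => ?_⟩
  rw [T_mul_D f g (h.Qn d (h.DB (hDD hd))) (fun u hu => h.Qn' (h.DB (hDD hd)) hu), T]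
  refine Finset.sum_congr rfl (fun u _ => ?_)
  have h1 : g * (u : G) * (d * w) = g * u * w * (w⁻¹ * d * w) := by group
  rw [h1, hf.2 _ _ (hwD d hd)]

/-- the inner sum in `T (T f)` -/
noncomputable def S (Q : Subgroup G) [Fintype Q] (w : G) (f : G → ZMod 2) (g u : G) : ZMod 2 :=
  ∑ v : Q, f (g * v * (w * u * w))

theorem TT_eq (f : G → ZMod 2) (g : G) : T Q w (T Q w f) g = ∑ u : Q, S Q w f g u := by
  simp only [T, S]
  rw [Finset.sum_comm]
  refine Finset.sum_congr rfl (fun u _ => Finset.sum_congr rfl (fun v _ => ?_))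
  congr 1
  simp only [mul_assoc]

theorem S_eq (h : RankOne B Q D W w) {f : G → ZMod 2} (hf : Inv Q D₀ f) (g : G) {u x₁ d x₂ : G}
    (hx₁ : x₁ ∈ Q) (hd : d ∈ D) (hx₂ : x₂ ∈ Q) (he : w * u * w = x₁ * d * w * x₂) :
    S Q w f g u = T Q w f (g * d) := by
  rw [T_mul_D f g (h.Qn d (h.DB hd)) (fun u hu => h.Qn' (h.DB hd) hu), S]
  refine Fintype.sum_equiv (Equiv.mulRight ⟨x₁, hx₁⟩) _ _ (fun v => ?_)
  rw [he]
  have h1 : g * (v : G) * (x₁ * d * w * x₂) = g * (v * x₁) * (d * w) * x₂ := by group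
  rw [h1, hf.1 _ _ hx₂]
  rfl

theorem S_one (hw : w * w = 1) (hQ : Even (Nat.card Q)) {f : G → ZMod 2} (hf : Inv Q D₀ f) (g : G) :
    S Q w f g 1 = 0 := by
  have h1 : S Q w f g 1 = ∑ v : Q, f g := by
    rw [S]
    refine Finset.sum_congr rfl (fun v _ => ?_)
    rw [mul_one, hw, mul_one, hf.1 _ _ v.2]
  rw [h1, Finset.sum_const, Finset.card_univ, ← Nat.card_eq_fintype_card]
  obtain ⟨k, hk⟩ := hQ
  rw [hk, add_nsmul]
  exact CharTwo.add_self_eq_zero _

/-- **The quadratic relation.** -/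
theorem TT (h : RankOne B Q D W w) (hw : w * w = 1) (hDD : D₀ ≤ D)
    (hwD : ∀ d ∈ D₀, w⁻¹ * d * w ∈ D₀) (hQ : Even (Nat.card Q))
    (y : Q → Q) (hyy : ∀ u, y (y u) = u) (hy1 : y 1 = 1)
    (hy : ∀ u : Q, ∀ x₁ ∈ Q, ∀ d ∈ D, ∀ x₂ ∈ Q, w * u * w = x₁ * d * w * x₂ →
      ∃ z₁ ∈ Q, ∃ z₂ ∈ Q, w * (y u : G) * w = z₁ * d * w * z₂)
    (hfix : ∀ u : Q, u ≠ 1 → y u = u → ∃ x₁ ∈ Q, ∃ d ∈ D₀, ∃ x₂ ∈ Q, w * u * w = x₁ * d * w * x₂)
    (hodd : Even (Nat.card {u : Q // y u = u}))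
    {f : G → ZMod 2} (hf : Inv Q D₀ f) (g : G) : T Q w (T Q w f) g = T Q w f g := by
  classical
  have hwi : w⁻¹ = w := inv_eq_of_mul_eq_one_left hw
  have hTi := T_inv h hDD hwD hf
  -- structure equation
  have hst : ∀ u : Q, u ≠ 1 → ∃ x₁ ∈ Q, ∃ d ∈ D, ∃ x₂ ∈ Q, w * u * w = x₁ * d * w * x₂ := by
    intro u hu
    have h1 : w * (u : G) * w ∉ B := by
      have := h.not_mem_of_Q' u.2 (fun e => hu (Subtype.ext e))
      rwa [hwi] at this
    obtain ⟨b, hb, x₂, hx₂, he⟩ := h.bruhat' h1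
    obtain ⟨x₁, hx₁, d, hd, rfl⟩ := h.Bmul b hb
    exact ⟨x₁, hx₁, d, hd, x₂, hx₂, he⟩
  have hSy : ∀ u : Q, S Q w f g (y u) = S Q w f g u := by
    intro u
    by_cases hu : u = 1
    · rw [hu, hy1]
    · obtain ⟨x₁, hx₁, d, hd, x₂, hx₂, he⟩ := hst u hu
      obtain ⟨z₁, hz₁, z₂, hz₂, he'⟩ := hy u x₁ hx₁ d hd x₂ hx₂ he
      rw [S_eq h hf g hx₁ hd hx₂ he, S_eq h hf g hz₁ hd hz₂ he']
  rw [TT_eq, ← Finset.sum_filter_add_sum_filter_not Finset.univ (fun u : Q => y u = u)]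
  have h2 : ∑ u ∈ Finset.univ.filter (fun u : Q => ¬ y u = u), S Q w f g u = 0 := by
    refine Finset.sum_involution (fun u _ => y u) (fun u _ => ?_) (fun u hu _ => ?_) (fun u hu => ?_)
      (fun u _ => hyy u)
    · rw [hSy]
      exact CharTwo.add_self_eq_zero _
    · simpa only [_root_.ne_eq, _root_.Finset.mem_filter, _root_.Finset.mem_univ, _root_.true_and] using hu
    · simp only [Finset.mem_filter, Finset.mem_univ, true_and] at hu ⊢
      rw [hyy]
      exact fun e => hu e.symm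
  rw [h2, add_zero]
  have h3 : ∀ u ∈ Finset.univ.filter (fun u : Q => y u = u),
      S Q w f g u = T Q w f g + if u = 1 then T Q w f g else 0 := by
    intro u hu
    by_cases hu1 : u = 1
    · subst hu1
      rw [if_pos rfl]
      change S Q w f g 1 = _
      rw [S_one hw hQ hf]
      exact (CharTwo.add_self_eq_zero _).symm
    · rw [if_neg hu1, add_zero]
      obtain ⟨x₁, hx₁, d, hd, x₂, hx₂, he⟩ := hfix u hu1 (Finset.mem_filter.1 hu).2
      rw [S_eq h hf g hx₁ (hDD hd) hx₂ he, hTi.2 g d hd]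
  rw [Finset.sum_congr rfl h3, Finset.sum_add_distrib, Finset.sum_const]
  have h4 : (Finset.univ.filter (fun u : Q => y u = u)).card = Nat.card {u : Q // y u = u} := by
    rw [Nat.card_eq_fintype_card, Fintype.card_subtype]
  rw [h4]
  obtain ⟨k, hk⟩ := hodd
  rw [hk, add_nsmul, CharTwo.add_self_eq_zero, zero_add]
  rw [Finset.sum_ite_eq' (Finset.univ.filter (fun u : Q => y u = u)) 1 (fun _ => T Q w f g),
    if_pos (by simp only [hy1, _root_.Finset.mem_filter, _root_.Finset.mem_univ, _root_.and_self])]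

/-- A function in the kernel of `T` is invariant under left multiplication by `Q`. -/
theorem left_Q [Finite G] (h : RankOne B Q D W w) (hw : w * w = 1) (hDD : D₀ ≤ D)
    (hwD : ∀ d ∈ D₀, w⁻¹ * d * w ∈ D₀) (hQ : IsPGroup 2 Q)
    (hTT : ∀ f : G → ZMod 2, Inv Q D₀ f → ∀ g, T Q w (T Q w f) g = T Q w f g)
    {f : G → ZMod 2} (hf : Inv Q D₀ f) (hker : ∀ g, T Q w f g = 0) {u : G} (hu : u ∈ Q) (g : G) :
    f (u * g) = f g := by
  classical
  have : Fact (Nat.Prime 2) := ⟨Nat.prime_two⟩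
  have hwi : w⁻¹ = w := inv_eq_of_mul_eq_one_left hw
  -- the module `N`
  let N : AddSubgroup (G → ZMod 2) :=
    { carrier := {s | Inv Q D₀ s ∧ (∀ g, T Q w s g = 0) ∧ ∀ g ∈ B, s g = 0}
      zero_mem' := ⟨⟨fun _ _ _ => rfl, fun _ _ _ => rfl⟩, fun g => by simp only [T, _root_.Pi.zero_apply, _root_.Finset.sum_const_zero], fun _ _ => rfl⟩
      add_mem' := by
        rintro s s' ⟨hs1, hs2, hs3⟩ ⟨hs1', hs2', hs3'⟩
        refine ⟨⟨fun g u hu => ?_, fun g d hd => ?_⟩, fun g => ?_, fun g hg => ?_⟩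
        · rw [Pi.add_apply, Pi.add_apply, hs1.1 g u hu, hs1'.1 g u hu]
        · rw [Pi.add_apply, Pi.add_apply, hs1.2 g d hd, hs1'.2 g d hd]
        · have := T_add (Q := Q) (w := w) s s' g
          rw [hs2, hs2', add_zero] at this
          exact this
        · rw [Pi.add_apply, hs3 g hg, hs3' g hg, add_zero]
      neg_mem' := by
        intro s hs
        have h1 : -s = s := funext fun g => CharTwo.neg_eq (s g)
        change Inv Q D₀ (-s) ∧ (∀ g, T Q w (-s) g = 0) ∧ ∀ g ∈ B, (-s) g = 0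
        rw [h1]
        exact hs }
  -- there is no nonzero element in `N` invariant under `Q`
  have hno : ∀ s ∈ N, (∀ v ∈ Q, ∀ g, s (v * g) = s g) → s = 0 := by
    rintro s ⟨hs1, hs2, hs3⟩ hsQ
    let r : G → ZMod 2 := fun g => if g ∈ B then s (g * w) else 0
    have hr : Inv Q D₀ r := by
      refine ⟨fun g v hv => ?_, fun g d hd => ?_⟩
      · change (if g * v ∈ B then s (g * v * w) else 0) = if g ∈ B then s (g * w) else 0
        by_cases hg : g ∈ B
        · rw [if_pos hg, if_pos (B.mul_mem hg (h.QB hv))]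
          have h1 : g * v * w = (g * v * g⁻¹) * (g * w) := by group
          rw [h1, hsQ _ (h.Qn g hg v hv)]
        · rw [if_neg hg, if_neg (fun hgv => hg ((Subgroup.mul_mem_cancel_right B (h.QB hv)).1 hgv))]
      · change (if g * d ∈ B then s (g * d * w) else 0) = if g ∈ B then s (g * w) else 0
        by_cases hg : g ∈ B
        · rw [if_pos hg, if_pos (B.mul_mem hg (h.DB (hDD hd)))]
          have h1 : g * d * w = g * w * (w⁻¹ * d * w) := by group
          rw [h1, hs1.2 _ _ (hwD d hd)]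
        · rw [if_neg hg,
            if_neg (fun hgv => hg ((Subgroup.mul_mem_cancel_right B (h.DB (hDD hd))).1 hgv))]
    have hTr : ∀ g, T Q w r g = s g := by
      intro g
      by_cases hg : g ∈ B
      · rw [hs3 g hg, T]
        refine Finset.sum_eq_zero (fun v _ => ?_)
        change (if g * v * w ∈ B then _ else _) = _
        rw [if_neg (fun hm => h.wB ((Subgroup.mul_mem_cancel_left B (B.mul_mem hg (h.QB v.2))).1 hm))]
      · obtain ⟨b, hb, x, hx, rfl⟩ := h.bruhat' hg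
        rw [T, Finset.sum_eq_single (⟨x, hx⟩⁻¹ : Q)]
        · change (if b * w * x * x⁻¹ * w ∈ B then s (b * w * x * x⁻¹ * w * w) else 0) = _
          have h1 : b * w * x * x⁻¹ * w = b := by
            rw [mul_inv_cancel_right, mul_assoc, hw, mul_one]
          rw [h1, if_pos hb, hs1.1 _ _ hx]
        · intro v _ hv
          change (if b * w * x * v * w ∈ B then _ else _) = _
          rw [if_neg]
          intro hm
          have h1 : b * w * x * (v : G) * w = b * (w * (x * v) * w⁻¹) := by rw [hwi]; group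
          rw [h1, Subgroup.mul_mem_cancel_left B hb] at hm
          refine h.not_mem_of_Q' (Q.mul_mem hx v.2) (fun e => hv ?_) hm
          rw [eq_comm, inv_eq_iff_mul_eq_one]
          exact Subtype.ext e
        · intro hn
          exact absurd (Finset.mem_univ _) hn
    ext g
    rw [← hTr g, ← hTT r hr g]
    have h5 : T Q w r = s := funext hTr
    rw [h5]
    exact hs2 g
  -- hence `N = 0`
  have hN : ∀ s ∈ N, s = 0 := by
    intro s hs
    by_contra hs0
    let act : MulAction Q N :=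
      { smul := fun v s => ⟨fun g => s.1 ((v : G)⁻¹ * g), by
          obtain ⟨hs1, hs2, hs3⟩ := s.2
          refine ⟨⟨fun g x hx => ?_, fun g x hx => ?_⟩, fun g => ?_, fun g hg => ?_⟩
          · change s.1 ((v : G)⁻¹ * (g * x)) = _
            rw [← mul_assoc]
            exact hs1.1 _ _ hx
          · change s.1 ((v : G)⁻¹ * (g * x)) = _
            rw [← mul_assoc]
            exact hs1.2 _ _ hx
          · rw [T_left]
            exact hs2 _
          · exact hs3 _ (B.mul_mem (B.inv_mem (h.QB v.2)) hg)⟩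
        one_smul := fun s => Subtype.ext (funext fun g => by
          change s.1 (((1 : Q) : G)⁻¹ * g) = s.1 g
          rw [Subgroup.coe_one, inv_one, one_mul])
        mul_smul := fun v v' s => Subtype.ext (funext fun g => by
          change s.1 (((v * v' : Q) : G)⁻¹ * g) = s.1 ((v' : G)⁻¹ * ((v : G)⁻¹ * g))
          rw [Subgroup.coe_mul, mul_inv_rev, mul_assoc]) }
    have h2 : 2 ∣ Nat.card N := by
      have h3 : addOrderOf (⟨s, hs⟩ : N) = 2 := by
        refine addOrderOf_eq_prime ?_ (fun e => hs0 (congrArg Subtype.val e))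
        rw [two_nsmul]
        refine Subtype.ext (funext fun g => ?_)
        exact CharTwo.add_self_eq_zero _
      have h3' := addOrderOf_dvd_natCard (⟨s, hs⟩ : N)
      obtain ⟨k, hk⟩ := h3'
      exact ⟨k, by rw [hk, h3]⟩
    obtain ⟨s', hs', hne⟩ := hQ.exists_fixed_point_of_prime_dvd_card_of_fixed_point N h2
      (a := 0) (fun v => Subtype.ext rfl)
    apply hne
    symm
    refine Subtype.ext (hno s'.1 s'.2 (fun v hv g => ?_))
    have h4 := hs' (⟨v, hv⟩⁻¹ : Q)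
    have h5 := congrFun (congrArg Subtype.val h4) g
    change s'.1 (((⟨v, hv⟩⁻¹ : Q) : G)⁻¹ * g) = s'.1 g at h5
    rwa [Subgroup.coe_inv, inv_inv] at h5
  have h6 := hN (fun g => f (u * g) + f g) ?_
  · have h7 := congrFun h6 g
    exact CharTwo.add_eq_zero.1 h7
  · refine ⟨⟨fun g x hx => ?_, fun g x hx => ?_⟩, fun g => ?_, fun g hg => ?_⟩
    · change f (u * (g * x)) + f (g * x) = f (u * g) + f g
      rw [← mul_assoc, hf.1 _ _ hx, hf.1 _ _ hx]
    · change f (u * (g * x)) + f (g * x) = f (u * g) + f g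
      rw [← mul_assoc, hf.2 _ _ hx, hf.2 _ _ hx]
    · rw [T_add, T_left, hker, hker, add_zero]
    · change f (u * g) + f g = 0
      have h8 : u * g = g * (g⁻¹ * u * g) := by group
      rw [h8, hf.1 _ _ (h.Qn' hg hu)]
      exact CharTwo.add_self_eq_zero _

/-- **Main theorem of this file.** -/
theorem le_of_aut [Finite G] (h : RankOne B Q D W w) (hw : w * w = 1) (hDD : D₀ ≤ D)
    (hwD : ∀ d ∈ D₀, w⁻¹ * d * w ∈ D₀) (hQ : IsPGroup 2 Q) (hQe : Even (Nat.card Q))
    (hgen : Subgroup.normalClosure (Q : Set G) = ⊤)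
    (y : Q → Q) (hyy : ∀ u, y (y u) = u) (hy1 : y 1 = 1)
    (hy : ∀ u : Q, ∀ x₁ ∈ Q, ∀ d ∈ D, ∀ x₂ ∈ Q, w * u * w = x₁ * d * w * x₂ →
      ∃ z₁ ∈ Q, ∃ z₂ ∈ Q, w * (y u : G) * w = z₁ * d * w * z₂)
    (hfix : ∀ u : Q, u ≠ 1 → y u = u → ∃ x₁ ∈ Q, ∃ d ∈ D₀, ∃ x₂ ∈ Q, w * u * w = x₁ * d * w * x₂)
    (hodd : Even (Nat.card {u : Q // y u = u})) : D ≤ D₀ := by
  classical
  have hTT : ∀ f : G → ZMod 2, Inv Q D₀ f → ∀ g, T Q w (T Q w f) g = T Q w f g :=
    fun f hf g => TT h hw hDD hwD hQe y hyy hy1 hy hfix hodd hf g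
  let δ : G → ZMod 2 := fun g => if ∃ u ∈ Q, ∃ d ∈ D₀, g = u * d then 1 else 0
  have hδ : Inv Q D₀ δ := by
    refine ⟨fun g v hv => ?_, fun g e he => ?_⟩
    · have : (∃ u ∈ Q, ∃ d ∈ D₀, g * v = u * d) ↔ ∃ u ∈ Q, ∃ d ∈ D₀, g = u * d := by
        constructor
        · rintro ⟨u, hu, d, hd, he⟩
          refine ⟨u * (d * v⁻¹ * d⁻¹), Q.mul_mem hu (h.Qn d (h.DB (hDD hd)) _ (Q.inv_mem hv)), d, hd, ?_⟩
          rw [← mul_inv_eq_iff_eq_mul] at he
          calc g = u * d * v⁻¹ := by rw [← mul_inv_eq_iff_eq_mul.1 he]; group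
            _ = _ := by group
        · rintro ⟨u, hu, d, hd, rfl⟩
          refine ⟨u * (d * v * d⁻¹), Q.mul_mem hu (h.Qn d (h.DB (hDD hd)) _ hv), d, hd, ?_⟩
          group
      change (if _ then _ else _) = if _ then _ else _
      simp only [this]
    · have : (∃ u ∈ Q, ∃ d ∈ D₀, g * e = u * d) ↔ ∃ u ∈ Q, ∃ d ∈ D₀, g = u * d := by
        constructor
        · rintro ⟨u, hu, d, hd, he'⟩
          refine ⟨u, hu, d * e⁻¹, D₀.mul_mem hd (D₀.inv_mem he), ?_⟩
          rw [← mul_assoc, ← he', mul_inv_cancel_right]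
        · rintro ⟨u, hu, d, hd, rfl⟩
          exact ⟨u, hu, d * e, D₀.mul_mem hd he, by group⟩
      change (if _ then _ else _) = if _ then _ else _
      simp only [this]
  have hδB : ∀ g, g ∉ B → δ g = 0 := by
    intro g hg
    refine if_neg ?_
    rintro ⟨u, hu, d, hd, rfl⟩
    exact hg (B.mul_mem (h.QB hu) (h.DB (hDD hd)))
  have hTδ : ∀ g ∈ B, T Q w δ g = 0 := by
    intro g hg
    refine Finset.sum_eq_zero (fun v _ => hδB _ (fun hm => h.wB ?_))
    exact (Subgroup.mul_mem_cancel_left B (B.mul_mem hg (h.QB v.2))).1 hm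
  let f : G → ZMod 2 := fun g => δ g + T Q w δ g
  have hTδi := T_inv h hDD hwD hδ
  have hf : Inv Q D₀ f := by
    refine ⟨fun g u hu => ?_, fun g d hd => ?_⟩
    · change δ (g * u) + T Q w δ (g * u) = δ g + T Q w δ g
      rw [hδ.1 g u hu, hTδi.1 g u hu]
    · change δ (g * d) + T Q w δ (g * d) = δ g + T Q w δ g
      rw [hδ.2 g d hd, hTδi.2 g d hd]
  have hker : ∀ g, T Q w f g = 0 := by
    intro g
    change T Q w (fun g => δ g + T Q w δ g) g = 0
    rw [T_add, hTT δ hδ]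
    exact CharTwo.add_self_eq_zero _
  -- `f` is constant
  have hinv : ∀ x u : G, u ∈ Q → ∀ g, f (x * u * g) = f (x * g) := by
    intro x u hu g
    have hfx : Inv Q D₀ (fun g => f (x * g)) := by
      refine ⟨fun g v hv => ?_, fun g d hd => ?_⟩
      · change f (x * (g * v)) = f (x * g)
        rw [← mul_assoc, hf.1 _ _ hv]
      · change f (x * (g * d)) = f (x * g)
        rw [← mul_assoc, hf.2 _ _ hd]
    have := left_Q h hw hDD hwD hQ hTT hfx (fun g => by rw [T_left]; exact hker _) hu g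
    change f (x * (u * g)) = f (x * g) at this
    rwa [← mul_assoc] at this
  let K : Subgroup G :=
    { carrier := {k | ∀ g, f (k * g) = f g}
      one_mem' := fun g => by rw [one_mul]
      mul_mem' := by
        intro k k' hk hk' g
        rw [mul_assoc, hk, hk']
      inv_mem' := by
        intro k hk g
        have := hk (k⁻¹ * g)
        rw [mul_inv_cancel_left] at this
        exact this.symm }
  have hK : K = ⊤ := by
    rw [eq_top_iff, ← hgen, Subgroup.normalClosure, Subgroup.closure_le]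
    intro k hk
    rw [Group.mem_conjugatesOfSet_iff] at hk
    obtain ⟨u, hu, hc⟩ := hk
    obtain ⟨x, rfl⟩ := isConj_iff.1 hc
    intro g
    have := hinv x u hu (x⁻¹ * g)
    rw [mul_inv_cancel_left] at this
    rw [← this]
    congr 1
    group
  have hconst : ∀ g, f g = f 1 := by
    intro g
    have : g ∈ K := by rw [hK]; trivial
    have := this 1
    rwa [mul_one] at this
  intro d hd
  have h1 : f 1 = 1 := by
    change δ 1 + T Q w δ 1 = 1
    rw [hTδ 1 B.one_mem, add_zero]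
    exact if_pos ⟨1, Q.one_mem, 1, D₀.one_mem, by rw [mul_one]⟩
  have h2 : δ d = 1 := by
    have := hconst d
    change δ d + T Q w δ d = f 1 at this
    rwa [hTδ d (h.DB hd), add_zero, h1] at this
  by_contra hd0
  have h3 : δ d = 0 := by
    refine if_neg ?_
    rintro ⟨u, hu, e, he, hde⟩
    apply hd0
    have h4 : u = d * e⁻¹ := by rw [hde]; group
    have h5 : u = 1 := h.QD u hu (by rw [h4]; exact D.mul_mem hd (D.inv_mem (hDD he)))
    rw [hde, h5, one_mul]
    exact he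
  rw [h3] at h2
  exact zero_ne_one h2

end

end Cfsg.Agent.SplitTwo.RankOneMod
end

-- part: SplitTwo/RankOneCount
section
/-!
# Rank one groups of odd degree: counting perpendiculars

If there is a line involution then `|U c ⊓ X| = q ^ 3`, where `q` is the order of the group of involutions
of `X` fixing `c`, and the elements of `U c ⊓ X` commuting with a line involution `j` fixing `c` are
involutions.
-/

set_option autoImplicit false

namespace Cfsg.Agent.SplitTwo.RankOneFrame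

open MulAction

theorem arith {k e g : ℕ} (hg : 1 ≤ g) (hge : g ≤ e)
    (h : 2 ^ k = 2 ^ e + (2 ^ e + 1) * (2 ^ g - 1) * 2 ^ e) : e = g ∧ k = 3 * g := by
  obtain ⟨d, rfl⟩ := Nat.exists_eq_add_of_le hge
  have hP : 2 ≤ 2 ^ g := by
    calc 2 = 2 ^ 1 := by norm_num
      _ ≤ 2 ^ g := Nat.pow_le_pow_right (by norm_num) hg
  obtain ⟨P, hP'⟩ : ∃ P, 2 ^ g = P + 1 := ⟨2 ^ g - 1, by omega⟩
  have h1 : 2 ^ k = 2 ^ g * 2 ^ g * 2 ^ d * (2 ^ d * P + 1) := by
    rw [h, pow_add, hP', Nat.add_sub_cancel]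
    ring
  rcases Nat.eq_zero_or_pos d with hd | hd
  · subst hd
    refine ⟨rfl, ?_⟩
    have h2 : 2 ^ k = 2 ^ (3 * g) := by
      rw [h1, pow_zero, one_mul, mul_one, ← hP']
      ring
    exact Nat.pow_right_injective (le_refl 2) h2
  · exfalso
    have h2 : (2 ^ d * P + 1) ∣ 2 ^ k := ⟨2 ^ g * 2 ^ g * 2 ^ d, by rw [h1]; ring⟩
    obtain ⟨i, -, hi⟩ := (Nat.dvd_prime_pow Nat.prime_two).1 h2
    have h3 : 2 ∣ 2 ^ d * P := Dvd.dvd.mul_right (dvd_pow_self 2 (by omega)) P
    have h4 : 2 ≤ 2 ^ d * P := by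
      refine Nat.le_of_dvd (Nat.mul_pos (pow_pos (by norm_num) d) (by omega)) h3
    rcases Nat.eq_zero_or_pos i with hi0 | hi0
    · rw [hi0, pow_zero] at hi
      omega
    · have h5 : 2 ∣ 2 ^ i := dvd_pow_self 2 (by omega)
      rw [← hi] at h5
      omega

variable {G Ω : Type*} [Group G] [MulAction G Ω] {X : Subgroup G} {U : Ω → Subgroup G}

/-- the group of involutions of `X` fixing `c` -/
def tor (h : Frame X U) (c : Ω) : Subgroup G where
  carrier := {s | s ∈ X ∧ s * s = 1 ∧ s • c = c}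
  one_mem' := ⟨X.one_mem, one_mul _, one_smul _ _⟩
  mul_mem' := by
    rintro s t ⟨hs, hss, hsc⟩ ⟨ht, htt, htc⟩
    refine ⟨X.mul_mem hs ht, ?_, by rw [mul_smul, htc, hsc]⟩
    have h1 := (h.inv_mem hs hss hsc).2 t (h.inv_mem ht htt htc).1
    calc s * t * (s * t) = s * (t * s) * t := by group
      _ = s * (s * t) * t := by rw [h1]
      _ = (s * s) * (t * t) := by group
      _ = 1 := by rw [hss, htt, one_mul]
  inv_mem' := by
    rintro s ⟨hs, hss, hsc⟩
    have : s⁻¹ = s := inv_eq_of_mul_eq_one_left hss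
    rw [this]
    exact ⟨hs, hss, hsc⟩

/-- the elements of `U c ⊓ X` commuting with `j` -/
def cen (X : Subgroup G) (U : Ω → Subgroup G) (j : G) (c : Ω) : Subgroup G :=
  U c ⊓ X ⊓ Subgroup.centralizer {j}

theorem mem_cen {j : G} {c : Ω} {x : G} : x ∈ cen X U j c ↔ x ∈ U c ∧ x ∈ X ∧ x * j = j * x := by
  rw [cen, Subgroup.mem_inf, Subgroup.mem_inf, Subgroup.mem_centralizer_singleton_iff, and_assoc]

namespace Frame

theorem tor_le_cen (h : Frame X U) {j : G} (hj : IsLine X U j) {c : Ω} (hjc : j • c = c) :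
    tor h c ≤ cen X U j c := by
  rintro s ⟨hs, hss, hsc⟩
  obtain ⟨h1, h2⟩ := h.inv_mem hs hss hsc
  exact mem_cen.2 ⟨h1, hs, h2 j (h.line_mem hj hjc)⟩

theorem card_Q (h : Frame X U) [Finite Ω] (c : Ω) {b : Ω} (hbc : b ≠ c) :
    Nat.card (U c ⊓ X : Subgroup G) + 1 = Nat.card Ω := by
  classical
  have := Fintype.ofFinite Ω
  have h1 : Nat.card (U c ⊓ X : Subgroup G) = Nat.card {d : Ω // d ≠ c} := by
    refine Nat.card_congr (Equiv.ofBijective (fun x => ⟨(x : G) • b, fun e => hbc ?_⟩) ⟨?_, ?_⟩)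
    · exact MulAction.injective (x : G) (e.trans (h.fix x.2.1).symm)
    · rintro ⟨x, hx⟩ ⟨y, hy⟩ hxy
      have h2 : x • b = y • b := congrArg Subtype.val hxy
      have h3 : y⁻¹ * x = 1 := by
        refine h.semireg ((U c).mul_mem ((U c).inv_mem hy.1) hx.1)
          (X.mul_mem (X.inv_mem hy.2) hx.2) hbc ?_
        rw [mul_smul, h2, inv_smul_smul]
      exact Subtype.ext (inv_mul_eq_one.1 h3).symm
    · rintro ⟨d, hd⟩
      obtain ⟨x, hx, hxX, hxb⟩ := h.reg hbc hd
      exact ⟨⟨x, hx, hxX⟩, Subtype.ext hxb⟩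
  rw [h1, Nat.card_eq_fintype_card, Nat.card_eq_fintype_card, Fintype.card_subtype_compl,
    Fintype.card_subtype_eq]
  have : 0 < Fintype.card Ω := Fintype.card_pos_iff.2 ⟨c⟩
  omega

theorem card_cen (h : Frame X U) [Finite Ω] {j : G} (hj : IsLine X U j) {c : Ω} (hjc : j • c = c) :
    Nat.card (cen X U j c) = Nat.card {d : Ω // j • d = d ∧ d ≠ c} := by
  obtain ⟨b, hbc, hjb⟩ := h.line_other hj c
  refine Nat.card_congr (Equiv.ofBijective (fun x => ⟨(x : G) • b, ?_, fun e => hbc ?_⟩) ⟨?_, ?_⟩)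
  · rw [← mul_smul, ← (mem_cen.1 x.2).2.2, mul_smul, hjb]
  · exact MulAction.injective (x : G) (e.trans (h.fix (mem_cen.1 x.2).1).symm)
  · rintro ⟨x, hx⟩ ⟨y, hy⟩ hxy
    have h2 : x • b = y • b := congrArg Subtype.val hxy
    have h3 : y⁻¹ * x = 1 := by
      refine h.semireg ((U c).mul_mem ((U c).inv_mem (mem_cen.1 hy).1) (mem_cen.1 hx).1)
        (X.mul_mem (X.inv_mem (mem_cen.1 hy).2.1) (mem_cen.1 hx).2.1) hbc ?_
      rw [mul_smul, h2, inv_smul_smul]
    exact Subtype.ext (inv_mul_eq_one.1 h3).symm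
  · rintro ⟨d, hd, hdc⟩
    obtain ⟨x, hx, hxX, hxb⟩ := h.reg hbc hdc
    refine ⟨⟨x, mem_cen.2 ⟨hx, hxX, ?_⟩⟩, Subtype.ext hxb⟩
    have hjU := h.line_mem hj hjc
    have h1 : x⁻¹ * (j * x * j⁻¹) = 1 := by
      refine h.semireg ((U c).mul_mem ((U c).inv_mem hx)
        ((U c).mul_mem ((U c).mul_mem hjU hx) ((U c).inv_mem hjU)))
        (X.mul_mem (X.inv_mem hxX) (h.normal j x hxX)) hbc ?_
      have hjb' : j⁻¹ • b = b := by rw [inv_smul_eq_iff, hjb]
      rw [mul_smul, mul_smul, mul_smul, hjb', hxb, hd, inv_smul_eq_iff, hxb]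
    have h2 := inv_mul_eq_one.1 h1
    calc x * j = (j * x * j⁻¹) * j := by rw [← h2]
      _ = j * x := by group

theorem cen_mul (h : Frame X U) {j : G} {c : Ω} {s : G} (hs : s ∈ tor h c) :
    cen X U (j * s) c = cen X U j c := by
  obtain ⟨hsX, hss, hsc⟩ := hs
  ext x
  rw [mem_cen, mem_cen]
  refine and_congr_right (fun hx => and_congr_right (fun _ => ?_))
  have h1 := (h.inv_mem hsX hss hsc).2 x hx
  constructor
  · intro h2
    have h3 : x * j * s = j * x * s := by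
      rw [mul_assoc x, h2, mul_assoc, h1, mul_assoc]
    exact mul_right_cancel h3
  · intro h2
    rw [← mul_assoc, h2, mul_assoc, ← h1, mul_assoc]

theorem card_tor (h : Frame X U) (c d : Ω) (hcd : c ≠ d) :
    Nat.card (tor h c) = Nat.card (tor h d) := by
  obtain ⟨g, hg, hgc, -⟩ := h.two hcd hcd.symm
  refine Nat.card_congr ⟨fun s => ⟨g * s * g⁻¹, ?_⟩, fun s => ⟨g⁻¹ * s * g, ?_⟩, fun s => ?_, fun s => ?_⟩
  · obtain ⟨s, hs, hss, hsc⟩ := s
    refine ⟨h.normal g s hs, ?_, ?_⟩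
    · calc g * s * g⁻¹ * (g * s * g⁻¹) = g * (s * s) * g⁻¹ := by group
        _ = 1 := by rw [hss]; group
    · rw [← hgc, mul_smul, mul_smul, inv_smul_smul, hsc]
  · obtain ⟨s, hs, hss, hsc⟩ := s
    refine ⟨?_, ?_, ?_⟩
    · have := h.normal g⁻¹ s hs
      rwa [inv_inv] at this
    · calc g⁻¹ * s * g * (g⁻¹ * s * g) = g⁻¹ * (s * s) * g := by group
        _ = 1 := by rw [hss]; group
    · rw [mul_smul, mul_smul, hgc, hsc, inv_smul_eq_iff, hgc]
  · exact Subtype.ext (by change g⁻¹ * (g * s * g⁻¹) * g = s; group)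
  · exact Subtype.ext (by change g * (g⁻¹ * s * g) * g⁻¹ = s; group)

/-- the number of points outside the line -/
theorem card_outside [Finite G] [Finite Ω] (h : Frame X U) {j : G} (hj : IsLine X U j) {c₀ : Ω}
    (hc₀ : j • c₀ = c₀) :
    Nat.card {a : Ω // j • a ≠ a} =
      (Nat.card (cen X U j c₀) + 1) * ((Nat.card (tor h c₀) - 1) * Nat.card (cen X U j c₀)) := by
  classical
  have := Fintype.ofFinite Ω
  have := Fintype.ofFinite G
  let A : {c : Ω // j • c = c} → Type _ := fun c => {s : G // s ∈ X ∧ s * s = 1 ∧ s ≠ 1 ∧ s • c.1 = c.1}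
  let Bf : (c : {c : Ω // j • c = c}) → A c → Type _ := fun c s => {a : Ω // (j * s.1) • a = a ∧ a ≠ c.1}
  let e : (Σ c : {c : Ω // j • c = c}, Σ s : A c, Bf c s) → {a : Ω // j • a ≠ a} :=
    fun p => ⟨p.2.2.1, by
      obtain ⟨⟨c, hc⟩, ⟨s, hs, hss, hs1, hsc⟩, ⟨a, ha, hac⟩⟩ := p
      intro hja
      change j • a = a at hja
      change (j * s) • a = a at ha
      have h1 : s • a = a := by
        rw [mul_smul] at ha
        have : j • (s • a) = j • a := by rw [ha, hja]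
        exact MulAction.injective j this
      exact hac (h.inv_le hs hss hs1 h1 hsc)⟩
  have he : Function.Bijective e := by
    constructor
    · rintro ⟨⟨c, hc⟩, ⟨s, hs, hss, hs1, hsc⟩, ⟨a, ha, hac⟩⟩ ⟨⟨c', hc'⟩, ⟨s', hs', hss', hs1', hsc'⟩, ⟨a', ha', hac'⟩⟩ hee
      have h1 : a = a' := congrArg Subtype.val hee
      subst h1
      have hja : j • a ≠ a := (e ⟨⟨c, hc⟩, ⟨s, hs, hss, hs1, hsc⟩, ⟨a, ha, hac⟩⟩).2
      obtain ⟨h2, h3⟩ := h.perp_unique hj hja hs hc hss hs1 hsc ha hs' hc' hss' hs1' hsc' ha'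
      subst h2
      subst h3
      rfl
    · rintro ⟨a, ha⟩
      obtain ⟨c, s, hs, hjc, hss, hs1, hsc, hja⟩ := h.exists_perp hj ha
      exact ⟨⟨⟨c, hjc⟩, ⟨s, hs, hss, hs1, hsc⟩, ⟨a, hja, fun e => ha (by rw [e]; exact hjc)⟩⟩, rfl⟩
  rw [← Nat.card_congr (Equiv.ofBijective e he), Nat.card_sigma]
  -- cardinality of the fibres
  have hcen : ∀ c : Ω, j • c = c → Nat.card (cen X U j c) = Nat.card (cen X U j c₀) := by
    intro c hc
    rw [h.card_cen hj hc, h.card_cen hj hc₀]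
    have key : ∀ d : Ω, j • d = d →
        Nat.card {x : Ω // j • x = x ∧ x ≠ d} + 1 = Nat.card {x : Ω // j • x = x} := by
      intro d hd
      rw [Nat.card_eq_fintype_card, Nat.card_eq_fintype_card, Fintype.card_subtype, Fintype.card_subtype]
      rw [← Finset.filter_filter, Finset.filter_ne']
      rw [Finset.card_erase_of_mem (by simpa only [_root_.Finset.mem_filter, _root_.Finset.mem_univ, _root_.true_and] using hd)]
      have : 0 < (Finset.univ.filter (fun x : Ω => j • x = x)).card :=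
        Finset.card_pos.2 ⟨d, by simpa only [_root_.Finset.mem_filter, _root_.Finset.mem_univ, _root_.true_and] using hd⟩
      omega
    have h1 := key c hc
    have h2 := key c₀ hc₀
    omega
  have hF : Nat.card {c : Ω // j • c = c} = Nat.card (cen X U j c₀) + 1 := by
    rw [h.card_cen hj hc₀]
    rw [Nat.card_eq_fintype_card, Nat.card_eq_fintype_card, Fintype.card_subtype, Fintype.card_subtype]
    rw [← Finset.filter_filter, Finset.filter_ne']
    rw [Finset.card_erase_of_mem (by simpa only [_root_.Finset.mem_filter, _root_.Finset.mem_univ, _root_.true_and] using hc₀)]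
    have : 0 < (Finset.univ.filter (fun x : Ω => j • x = x)).card :=
      Finset.card_pos.2 ⟨c₀, by simpa only [_root_.Finset.mem_filter, _root_.Finset.mem_univ, _root_.true_and] using hc₀⟩
    omega
  have hA : ∀ c, Nat.card (A c) = Nat.card (tor h c₀) - 1 := by
    rintro ⟨c, hc⟩
    have h1 : Nat.card (A ⟨c, hc⟩) + 1 = Nat.card (tor h c) := by
      have h2 : Nat.card (A ⟨c, hc⟩) = Nat.card {s : tor h c // s ≠ 1} := by
        refine Nat.card_congr ⟨fun s => ⟨⟨s.1, s.2.1, s.2.2.1, s.2.2.2.2⟩, fun e => s.2.2.2.1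
          (congrArg Subtype.val e)⟩, fun s => ⟨s.1.1, s.1.2.1, s.1.2.2.1, fun e => s.2 (Subtype.ext e),
          s.1.2.2.2⟩, fun s => rfl, fun s => rfl⟩
      rw [h2, Nat.card_eq_fintype_card, Nat.card_eq_fintype_card, Fintype.card_subtype_compl,
        Fintype.card_subtype_eq]
      have : 0 < Fintype.card (tor h c) := Fintype.card_pos
      omega
    have h3 : Nat.card (tor h c) = Nat.card (tor h c₀) := by
      by_cases hcc : c = c₀
      · rw [hcc]
      · exact h.card_tor c c₀ hcc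
    omega
  have hB : ∀ c (s : A c), Nat.card (Bf c s) = Nat.card (cen X U j c₀) := by
    rintro ⟨c, hc⟩ ⟨s, hs, hss, hs1, hsc⟩
    have hl := h.line_mul hj hc hs hss hs1 hsc
    have hlc : (j * s) • c = c := by rw [mul_smul, hsc, hc]
    have h1 := h.card_cen hl hlc
    rw [h.cen_mul (s := s) ⟨hs, hss, hsc⟩, hcen c hc] at h1
    exact h1.symm
  have hinner : ∀ c, Nat.card (Σ s : A c, Bf c s) = (Nat.card (tor h c₀) - 1) * Nat.card (cen X U j c₀) := by
    intro c
    have : Finite (A c) := Subtype.finite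
    have := Fintype.ofFinite (A c)
    rw [Nat.card_sigma, Finset.sum_congr rfl (fun s _ => hB c s), Finset.sum_const, Finset.card_univ,
      ← Nat.card_eq_fintype_card, hA, smul_eq_mul]
  rw [Finset.sum_congr rfl (fun c _ => hinner c), Finset.sum_const, Finset.card_univ,
    ← Nat.card_eq_fintype_card, hF, smul_eq_mul]

/-- **Main theorem of this file.** -/
theorem count [Finite G] [Finite Ω] (h : Frame X U) (h2 : ∀ c, IsPGroup 2 (U c)) {j : G}
    (hj : IsLine X U j) {c : Ω} (hc : j • c = c) :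
    Nat.card (U c ⊓ X : Subgroup G) = Nat.card (tor h c) ^ 3 ∧ cen X U j c = tor h c ∧
      ∃ g : ℕ, 1 ≤ g ∧ Nat.card (tor h c) = 2 ^ g := by
  classical
  have := Fintype.ofFinite Ω
  have : Fact (Nat.Prime 2) := ⟨Nat.prime_two⟩
  have hp : ∀ H : Subgroup G, H ≤ U c → ∃ n : ℕ, Nat.card H = 2 ^ n := by
    intro H hH
    exact IsPGroup.iff_card.1 ((h2 c).to_le hH)
  obtain ⟨k, hk⟩ := hp (U c ⊓ X) inf_le_left
  obtain ⟨e, he⟩ := hp (cen X U j c) (inf_le_left.trans inf_le_left)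
  obtain ⟨g, hg⟩ := hp (tor h c) (fun s hs => (h.inv_mem hs.1 hs.2.1 hs.2.2).1)
  have hle := h.tor_le_cen hj hc
  have hge : g ≤ e := by
    have h1 := Subgroup.card_dvd_of_le hle
    rw [hg, he] at h1
    exact (Nat.pow_dvd_pow_iff_le_right (by norm_num)).1 h1
  have hg1 : 1 ≤ g := by
    rcases Nat.eq_zero_or_pos g with h0 | h0
    · exfalso
      rw [h0, pow_zero] at hg
      obtain ⟨t, ht, ht1, htt, htc⟩ := h.inv_ex c
      have h3 := Subgroup.card_eq_one.1 hg
      have h4 : t ∈ tor h c := ⟨ht, htt, htc⟩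
      rw [h3] at h4
      exact ht1 (Subgroup.mem_bot.1 h4)
    · exact h0
  obtain ⟨b, hbc, -⟩ := h.line_other hj c
  have hQ := h.card_Q c hbc
  have hout := h.card_outside hj hc
  have hfix : Nat.card {a : Ω // j • a = a} = Nat.card (cen X U j c) + 1 := by
    rw [h.card_cen hj hc]
    rw [Nat.card_eq_fintype_card, Nat.card_eq_fintype_card, Fintype.card_subtype, Fintype.card_subtype]
    rw [← Finset.filter_filter, Finset.filter_ne']
    rw [Finset.card_erase_of_mem (by simpa only [_root_.Finset.mem_filter, _root_.Finset.mem_univ, _root_.true_and] using hc)]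
    have : 0 < (Finset.univ.filter (fun x : Ω => j • x = x)).card :=
      Finset.card_pos.2 ⟨c, by simpa only [_root_.Finset.mem_filter, _root_.Finset.mem_univ, _root_.true_and] using hc⟩
    omega
  have htot : Nat.card {a : Ω // j • a = a} + Nat.card {a : Ω // j • a ≠ a} = Nat.card Ω := by
    rw [Nat.card_eq_fintype_card, Nat.card_eq_fintype_card, Nat.card_eq_fintype_card,
      Fintype.card_subtype_compl]
    have := Fintype.card_subtype_le (fun a : Ω => j • a = a)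
    omega
  rw [hfix, hout, ← hQ, hk, he, hg] at htot
  have h5 : 2 ^ k = 2 ^ e + (2 ^ e + 1) * (2 ^ g - 1) * 2 ^ e := by
    rw [mul_assoc]
    omega
  obtain ⟨h6, h7⟩ := arith hg1 hge h5
  refine ⟨?_, ?_, g, hg1, hg⟩
  · rw [hk, hg, h7, ← pow_mul, mul_comm]
  · symm
    refine Subgroup.eq_of_le_of_card_ge hle ?_
    rw [he, hg, h6]

end Frame

end Cfsg.Agent.SplitTwo.RankOneFrame
end

-- part: SplitTwo/RankOneSetup
section
/-!
# Rank one groups of odd degree: the rank one set-up of `X`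
-/

set_option autoImplicit false

namespace Cfsg.Agent.SplitTwo.RankOneFrame

open MulAction Cfsg.Agent.HKS Cfsg

/-- comparison of orders -/
theorem order_arith {g m : ℕ} (hg : 1 ≤ g)
    (h : (2 ^ g ^ 1) * 0 = 0 →
      (2 ^ g) ^ 3 * (((2 ^ g) ^ 3 + 1) * (2 ^ g - 1)) =
        (2 ^ (2 * m + 1)) ^ 2 * (((2 ^ (2 * m + 1)) ^ 2 + 1) * (2 ^ (2 * m + 1) - 1))) : False := by
  have h := h (by simp)
  set s := 2 * m + 1 with hs
  have hodd : ∀ n : ℕ, 1 ≤ n → Odd (2 ^ n - 1) := by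
    intro n hn
    obtain ⟨k, hk⟩ : ∃ k, 2 ^ n = 2 * k := (dvd_pow_self 2 (by omega))
    have : 1 ≤ 2 ^ n := Nat.one_le_two_pow
    exact ⟨k - 1, by omega⟩
  have hodd' : ∀ n : ℕ, 1 ≤ n → Odd (2 ^ n + 1) := by
    intro n hn
    obtain ⟨k, hk⟩ : ∃ k, 2 ^ n = 2 * k := (dvd_pow_self 2 (by omega))
    exact ⟨k, by omega⟩
  have hA : Odd (((2 ^ g) ^ 3 + 1) * (2 ^ g - 1)) := by
    rw [← pow_mul]
    exact (hodd' _ (by omega)).mul (hodd _ hg)
  have hB : Odd (((2 ^ s) ^ 2 + 1) * (2 ^ s - 1)) := by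
    rw [← pow_mul]
    exact (hodd' _ (by omega)).mul (hodd _ (by omega))
  have h1 : (2 ^ g) ^ 3 = (2 ^ s) ^ 2 := by
    apply Nat.dvd_antisymm
    · have h2 : (2 ^ g) ^ 3 ∣ (2 ^ s) ^ 2 * (((2 ^ s) ^ 2 + 1) * (2 ^ s - 1)) := ⟨_, h.symm⟩
      refine Nat.Coprime.dvd_of_dvd_mul_right ?_ h2
      rw [← pow_mul]
      exact Nat.Coprime.pow_left _ (Nat.coprime_two_left.2 hB)
    · have h2 : (2 ^ s) ^ 2 ∣ (2 ^ g) ^ 3 * (((2 ^ g) ^ 3 + 1) * (2 ^ g - 1)) := ⟨_, h⟩
      refine Nat.Coprime.dvd_of_dvd_mul_right ?_ h2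
      rw [← pow_mul]
      exact Nat.Coprime.pow_left _ (Nat.coprime_two_left.2 hA)
  rw [h1] at h
  have h3 : 0 < (2 ^ s) ^ 2 := by positivity
  have h4 := Nat.eq_of_mul_eq_mul_left h3 h
  have h5 : 0 < (2 ^ s) ^ 2 + 1 := by positivity
  have h6 := Nat.eq_of_mul_eq_mul_left h5 h4
  have h7 : 2 ^ g = 2 ^ s := by
    have : 1 ≤ 2 ^ g := Nat.one_le_two_pow
    have : 1 ≤ 2 ^ s := Nat.one_le_two_pow
    omega
  rw [h7, ← pow_mul, ← pow_mul] at h1
  have := Nat.pow_right_injective (le_refl 2) h1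
  omega

variable {G Ω : Type*} [Group G] [MulAction G Ω] {X : Subgroup G} {U : Ω → Subgroup G}

namespace Frame

section

variable [Finite G] [Finite Ω]

/-- set stabiliser of `{a, b}` in `X` -/
def pairStab (X : Subgroup G) (a b : Ω) : Subgroup X where
  carrier := {g | (g.1 • a = a ∧ g.1 • b = b) ∨ (g.1 • a = b ∧ g.1 • b = a)}
  one_mem' := Or.inl ⟨one_smul _ _, one_smul _ _⟩
  mul_mem' := by
    rintro ⟨g, hg⟩ ⟨k, hk⟩ h1 h2
    change ((g * k) • a = a ∧ (g * k) • b = b) ∨ ((g * k) • a = b ∧ (g * k) • b = a)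
    simp only [mul_smul]
    rcases h1 with ⟨h1, h1'⟩ | ⟨h1, h1'⟩ <;> rcases h2 with ⟨h2, h2'⟩ | ⟨h2, h2'⟩ <;>
      simp only [] at h1 h1' h2 h2' <;> rw [h2, h2'] <;> simp [h1, h1']
  inv_mem' := by
    rintro ⟨g, hg⟩ h1
    change (g⁻¹ • a = a ∧ g⁻¹ • b = b) ∨ (g⁻¹ • a = b ∧ g⁻¹ • b = a)
    simp only [inv_smul_eq_iff]
    rcases h1 with ⟨h1, h1'⟩ | ⟨h1, h1'⟩
    · exact Or.inl ⟨h1.symm, h1'.symm⟩
    · exact Or.inr ⟨h1'.symm, h1.symm⟩

omit [Finite G] [Finite Ω] in
/-- the rank one structure of `X` -/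
theorem rankOne (h : Frame X U) {a b : Ω} (hab : b ≠ a) {w : X} (hwa : w.1 • a = b) (hwb : w.1 • b = a) :
    RankOne (stabilizer X a) ((U a).subgroupOf X) (stabilizer X a ⊓ stabilizer X b) (pairStab X a b) w where
  QB u hu := h.fix (Subgroup.mem_subgroupOf.1 hu)
  Qn x hx u hu := by
    rw [Subgroup.mem_subgroupOf] at hu ⊢
    have := h.conj x.1 hu
    have h1 : x.1 • a = a := hx
    rwa [h1] at this
  DB := inf_le_left
  Bmul x hx := by
    have hxa : x.1 • a = a := hx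
    have hxb : x.1 • b ≠ a := fun e => hab (MulAction.injective x.1 (e.trans hxa.symm))
    obtain ⟨u, hu, huX, hub⟩ := h.reg hab hxb
    refine ⟨⟨u, huX⟩, Subgroup.mem_subgroupOf.2 hu, ⟨u, huX⟩⁻¹ * x, ⟨?_, ?_⟩, by group⟩
    · change (u⁻¹ * x.1) • a = a
      rw [mul_smul, hxa, inv_smul_eq_iff, h.fix hu]
    · change (u⁻¹ * x.1) • b = b
      rw [mul_smul, ← hub, inv_smul_smul]
  QD x hx hxD := Subtype.ext (h.semireg (Subgroup.mem_subgroupOf.1 hx) x.2 hab hxD.2)
  DW d hd := Or.inl ⟨hd.1, hd.2⟩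
  wW := Or.inr ⟨hwa, hwb⟩
  wB hw := hab (hwa.symm.trans hw)
  Wmul g hg hgD := by
    rcases hg with hg | ⟨hg1, hg2⟩
    · exact absurd ⟨hg.1, hg.2⟩ hgD
    · refine ⟨w⁻¹ * g, ⟨?_, ?_⟩, by group⟩
      · change (w.1⁻¹ * g.1) • a = a
        rw [mul_smul, hg1, inv_smul_eq_iff, hwa]
      · change (w.1⁻¹ * g.1) • b = b
        rw [mul_smul, hg2, inv_smul_eq_iff, hwb]
  Wn g hg d hd := by
    have hda : d.1 • a = a := hd.1
    have hdb : d.1 • b = b := hd.2
    refine ⟨?_, ?_⟩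
    · change (g.1 * d.1 * g.1⁻¹) • a = a
      rcases hg with ⟨h1, h2⟩ | ⟨h1, h2⟩
      · rw [mul_smul, mul_smul, inv_smul_eq_iff.2 h1.symm, hda, h1]
      · rw [mul_smul, mul_smul, inv_smul_eq_iff.2 h2.symm, hdb, h2]
    · change (g.1 * d.1 * g.1⁻¹) • b = b
      rcases hg with ⟨h1, h2⟩ | ⟨h1, h2⟩
      · rw [mul_smul, mul_smul, inv_smul_eq_iff.2 h2.symm, hdb, h2]
      · rw [mul_smul, mul_smul, inv_smul_eq_iff.2 h1.symm, hda, h1]
  WB g hg hgB := by
    rcases hg with hg | ⟨hg1, hg2⟩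
    · exact ⟨hg.1, hg.2⟩
    · exact absurd (hg1.symm.trans hgB) hab
  bruhat g hg := by
    have hga : g.1 • a ≠ a := hg
    obtain ⟨u, hu, huX, hub⟩ := h.reg hab hga
    refine ⟨⟨u, huX⟩, Subgroup.mem_subgroupOf.2 hu, w⁻¹ * ⟨u, huX⟩⁻¹ * g, ?_, by group⟩
    change (w.1⁻¹ * u⁻¹ * g.1) • a = a
    rw [mul_smul, mul_smul, ← hub, inv_smul_smul, inv_smul_eq_iff, hwa]
  conjD x hx hxw := by
    refine ⟨hx, ?_⟩
    have h1 : (w.1⁻¹ * x.1 * w.1) • a = a := hxw
    rw [mul_smul, mul_smul, hwa, inv_smul_eq_iff, hwa] at h1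
    exact h1

/-- two distinct commuting involutions -/
def Two (X : Subgroup G) : Prop :=
  ∃ x y : X, x ≠ 1 ∧ y ≠ 1 ∧ x ≠ y ∧ x * x = 1 ∧ y * y = 1 ∧ x * y = y * x

omit [Finite Ω] in
theorem odd_D (h : Frame X U) {a b : Ω} (hab : b ≠ a) :
    Odd (Nat.card ↥(stabilizer X a ⊓ stabilizer X b)) := by
  rw [← Nat.not_even_iff_odd, even_iff_two_dvd]
  intro h2
  have : Fact (Nat.Prime 2) := ⟨Nat.prime_two⟩
  obtain ⟨d, hd⟩ := exists_prime_orderOf_dvd_card' 2 h2
  have hd1 : d ≠ 1 := by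
    rintro rfl
    rw [orderOf_one] at hd
    omega
  have hdd : d * d = 1 := by
    rw [← pow_two, ← hd]
    exact pow_orderOf_eq_one d
  have h3 : ((d : X) : G) ≠ 1 := fun e => hd1 (Subtype.ext (Subtype.ext e))
  have h4 : ((d : X) : G) * ((d : X) : G) = 1 := congrArg Subtype.val (congrArg Subtype.val hdd)
  exact hab (h.inv_le (d : X).2 h4 h3 d.2.2 d.2.1)

omit [Finite G] [Finite Ω] in
theorem two_pretransitive (h : Frame X U) : MulAction.IsMultiplyPretransitive X Ω 2 := by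
  rw [MulAction.is_two_pretransitive_iff]
  intro a b c d hab hcd
  obtain ⟨g, hg, hga, hgb⟩ := h.two hab hcd
  exact ⟨⟨g, hg⟩, hga, hgb⟩

theorem setup (h : Frame X U) {a b : Ω} (hab : b ≠ a) {w : X} (hwa : w.1 • a = b)
    (hwb : w.1 • b = a) (hww : w * w = 1) : IsRankOneSetup X Ω a w ((U a).subgroupOf X) where
  two_transitive := h.two_pretransitive
  mul_self := hww
  ne_one := by
    rintro rfl
    exact hab (by rw [← hwa]; exact one_smul _ _)
  not_mem hw := hab (hwa.symm.trans hw)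
  le u hu := h.fix (Subgroup.mem_subgroupOf.1 hu)
  conj_mem x hx u hu := (h.rankOne hab hwa hwb).Qn x hx u hu
  inf_eq_bot := by
    rw [eq_bot_iff]
    rintro x ⟨hx, hx'⟩
    have h1 : x.1 • (w.1 • a) = w.1 • a := hx'
    rw [hwa] at h1
    exact Subgroup.mem_bot.2 (Subtype.ext (h.semireg (Subgroup.mem_subgroupOf.1 hx) x.2 hab h1))
  sup_eq := by
    have hwa' : w • a = b := hwa
    rw [hwa']
    apply le_antisymm
    · exact sup_le (fun u hu => h.fix (Subgroup.mem_subgroupOf.1 hu)) inf_le_left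
    · intro x hx
      obtain ⟨u, hu, d, hd, rfl⟩ := (h.rankOne hab hwa hwb).Bmul x hx
      exact Subgroup.mul_mem_sup hu hd
  even_card := by
    obtain ⟨t, ht, ht1, htt, hta⟩ := h.inv_ex a
    have h1 : (⟨t, ht⟩ : X) ∈ (U a).subgroupOf X := Subgroup.mem_subgroupOf.2 (h.inv_mem ht htt hta).1
    have h2 : orderOf (⟨⟨t, ht⟩, h1⟩ : (U a).subgroupOf X) = 2 := by
      refine orderOf_eq_prime ?_ ?_
      · rw [pow_two]
        exact Subtype.ext (Subtype.ext htt)
      · exact fun e => ht1 (congrArg Subtype.val (congrArg Subtype.val e))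
    rw [even_iff_two_dvd, ← h2]
    exact orderOf_dvd_natCard _
  odd_card := by
    have hwa' : w • a = b := hwa
    rw [hwa']
    exact h.odd_D hab

end

end Frame

end Cfsg.Agent.SplitTwo.RankOneFrame
end

-- part: SplitTwo/RankOneEnd
section
/-!
# Rank one groups of odd degree: there are no line involutions

`Frame.not_isLine`: in a `Frame X U` with `X` simple and `U c` a `2`-group there is no line involution.
-/

set_option autoImplicit false

namespace Cfsg.Agent.SplitTwo.RankOneFrame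

open MulAction Cfsg.Agent.HKS Cfsg

/-- A finite non-abelian simple group has no isolated involution (by the `Z*`-theorem). -/
theorem not_isolated {X : Type*} [Group X] [Finite X] [IsSimpleGroup X] (t : X)
    (hiso : Cfsg.IsIsolatedInvolution t) (hnc : ∃ a b : X, a * b ≠ b * a) : False := by
  have : Fact (Nat.Prime 2) := ⟨Nat.prime_two⟩
  have hp : IsPGroup 2 (Subgroup.zpowers t) := by
    apply IsPGroup.of_card (n := 1)
    rw [Nat.card_zpowers, hiso.1, pow_one]
  obtain ⟨P, hP⟩ := hp.exists_le_sylow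
  have htP : t ∈ P := hP (Subgroup.mem_zpowers t)
  obtain ⟨N, hN, hodd, hcomm⟩ := Cfsg.Agent.S0215.result P t hiso.1 htP
    (fun g hg => Cfsg.Agent.S1180.eq_of_conj_mem_isPGroup t hiso (P : Subgroup X) P.2 htP g hg)
  rcases hN.eq_bot_or_eq_top with h | h
  · have hcen : ∀ g : X, t * g = g * t := by
      intro g
      have := hcomm g
      rw [h, Subgroup.mem_bot] at this
      have h1 : t * g * t⁻¹ = g := mul_inv_eq_one.mp this
      rwa [mul_inv_eq_iff_eq_mul] at h1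
    have htc : t ∈ Subgroup.center X := by
      rw [Subgroup.mem_center_iff]; intro g; exact (hcen g).symm
    rcases (inferInstance : (Subgroup.center X).Normal).eq_bot_or_eq_top with hc | hc
    · rw [hc, Subgroup.mem_bot] at htc
      have := hiso.1
      rw [htc, orderOf_one] at this
      omega
    · obtain ⟨a, b, hab⟩ := hnc
      apply hab
      have : b ∈ Subgroup.center X := by rw [hc]; trivial
      exact (Subgroup.mem_center_iff.mp this a)
  · rw [h, Subgroup.card_top] at hodd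
    have h2 : 2 ∣ Nat.card X := by
      rw [← hiso.1]; exact orderOf_dvd_natCard t
    rw [← Nat.not_even_iff_odd] at hodd
    exact hodd (even_iff_two_dvd.2 h2)

variable {G Ω : Type*} [Group G] [MulAction G Ω] {X : Subgroup G} {U : Ω → Subgroup G}

namespace Frame

variable [Finite G] [Finite Ω]

theorem two_involutions [IsSimpleGroup X] (h : Frame X U) (hnc : ∃ x y : X, x * y ≠ y * x) (a : Ω) :
    ∃ s ∈ tor h a, ∃ s' ∈ tor h a, s ≠ 1 ∧ s' ≠ 1 ∧ s ≠ s' := by
  obtain ⟨s, hs, hs1, hss, hsa⟩ := h.inv_ex a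
  by_contra hno
  push Not at hno
  have hall : ∀ s' ∈ tor h a, s' ≠ 1 → s = s' := fun s' hs' h1 =>
    hno s ⟨hs, hss, hsa⟩ s' hs' hs1 h1
  refine not_isolated (⟨s, hs⟩ : X) ⟨?_, ?_⟩ hnc
  · refine orderOf_eq_prime ?_ (fun e => hs1 (congrArg Subtype.val e))
    rw [pow_two]
    exact Subtype.ext hss
  · intro g hg
    have hg' : s * (g.1 * s * g.1⁻¹) = (g.1 * s * g.1⁻¹) * s := congrArg Subtype.val hg.eq
    apply Subtype.ext
    change g.1 * s * g.1⁻¹ = s
    refine (hall _ ⟨h.normal _ _ hs, ?_, h.inv_fixed_of_comm hs hss hs1 hsa hg'⟩ ?_).symm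
    · calc g.1 * s * g.1⁻¹ * (g.1 * s * g.1⁻¹) = g.1 * (s * s) * g.1⁻¹ := by group
        _ = 1 := by rw [hss]; group
    · intro e
      apply hs1
      have : g.1⁻¹ * (g.1 * s * g.1⁻¹) * g.1 = s := by group
      rw [← this, e]
      group

theorem two_of_simple [IsSimpleGroup X] (h : Frame X U) (hnc : ∃ x y : X, x * y ≠ y * x) (a : Ω) :
    ∃ x y : X, x ≠ 1 ∧ y ≠ 1 ∧ x ≠ y ∧ x * x = 1 ∧ y * y = 1 ∧ x * y = y * x := by
  obtain ⟨s, ⟨hs, hss, hsa⟩, s', ⟨hs', hss', hsa'⟩, h1, h2, h3⟩ := h.two_involutions hnc a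
  exact ⟨⟨s, hs⟩, ⟨s', hs'⟩, fun e => h1 (congrArg Subtype.val e), fun e => h2 (congrArg Subtype.val e),
    fun e => h3 (congrArg Subtype.val e), Subtype.ext hss, Subtype.ext hss',
    Subtype.ext ((h.inv_mem hs hss hsa).2 s' (h.inv_mem hs' hss' hsa').1)⟩

/-- The two point stabiliser is inverted by `w`. -/
theorem D_le [IsSimpleGroup X] (h : Frame X U) (h2 : ∀ c, IsPGroup 2 (U c)) {j : G} (hj : IsLine X U j)
    {a b : Ω} (hab : b ≠ a) (hja : j • a = a) (hjb : j • b = b) {w : X} (hwa : w.1 • a = b)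
    (hwb : w.1 • b = a) (hww : w * w = 1) (hwj : w.1 * j = j * w.1) (C : Subgroup X)
    (hC : (C : Set X) = invertedBy (stabilizer X a ⊓ stabilizer X (w • a)) w) :
    stabilizer X a ⊓ stabilizer X b ≤ C := by
  classical
  have := Fintype.ofFinite G
  have hwa' : w • a = b := hwa
  rw [hwa'] at hC
  have hmemC : ∀ x, x ∈ C ↔ x ∈ stabilizer X a ⊓ stabilizer X b ∧ w * x * w⁻¹ = x⁻¹ := by
    intro x
    rw [← SetLike.mem_coe, hC]
    rfl
  have hwi : w⁻¹ = w := inv_eq_of_mul_eq_one_left hww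
  have hR := h.rankOne hab hwa hwb
  have hjU := h.line_mem hj hja
  have hjj := hj.1
  have hji : j⁻¹ = j := inv_eq_of_mul_eq_one_left hjj
  have := Fintype.ofFinite ((U a).subgroupOf X)
  -- conjugation by `j` on `X`
  let y : X → X := fun x => ⟨j * x * j⁻¹, h.normal j x x.2⟩
  have hymul : ∀ x x', y (x * x') = y x * y x' := fun x x' => Subtype.ext (by
    change j * (x.1 * x'.1) * j⁻¹ = j * x.1 * j⁻¹ * (j * x'.1 * j⁻¹)
    group)
  have hyy : ∀ x, y (y x) = x := fun x => Subtype.ext (by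
    change j * (j * x.1 * j⁻¹) * j⁻¹ = x.1
    calc j * (j * x.1 * j⁻¹) * j⁻¹ = (j * j) * x.1 * (j * j)⁻¹ := by group
      _ = x.1 := by rw [hjj]; group)
  have hyw : y w = w := Subtype.ext (by
    change j * w.1 * j⁻¹ = w.1
    rw [← hwj, mul_inv_cancel_right])
  have hyD : ∀ d ∈ stabilizer X a ⊓ stabilizer X b, y d = d := by
    intro d hd
    refine Subtype.ext ?_
    change j * d.1 * j⁻¹ = d.1
    rw [h.comm hab hjU hjb d.2 hd.1 hd.2, mul_inv_cancel_right]
  have hyQ : ∀ x ∈ (U a).subgroupOf X, y x ∈ (U a).subgroupOf X := by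
    intro x hx
    rw [Subgroup.mem_subgroupOf] at hx ⊢
    exact (U a).mul_mem ((U a).mul_mem hjU hx) ((U a).inv_mem hjU)
  have hcount := h.count h2 hj hja
  -- the group of fixed points of `y`
  have hfix2 : ∀ u : X, u ∈ (U a).subgroupOf X → y u = u → u * u = 1 := by
    intro u hu hyu
    have h1 : u.1 ∈ cen X U j a := by
      refine mem_cen.2 ⟨Subgroup.mem_subgroupOf.1 hu, u.2, ?_⟩
      have h3 : j * u.1 * j⁻¹ = u.1 := congrArg Subtype.val hyu
      rw [mul_inv_eq_iff_eq_mul] at h3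
      exact h3.symm
    rw [hcount.2.1] at h1
    exact Subtype.ext h1.2.1
  refine RankOneMod.le_of_aut hR hww ?_ ?_ ?_ ?_ ?_ (fun u => ⟨y u, hyQ u u.2⟩) ?_ ?_ ?_ ?_ ?_
  · intro x hx
    exact ((hmemC x).1 hx).1
  · intro d hd
    obtain ⟨h1, h3⟩ := (hmemC d).1 hd
    have h4 : w⁻¹ * d * w = d⁻¹ := by
      calc w⁻¹ * d * w = w * d * w⁻¹ := by rw [hwi]
        _ = d⁻¹ := h3
    rw [h4]
    exact C.inv_mem hd
  · -- `2`-group
    rintro ⟨⟨x, hx⟩, hx'⟩
    obtain ⟨k, hk⟩ := h2 a ⟨x, Subgroup.mem_subgroupOf.1 hx'⟩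
    refine ⟨k, Subtype.ext (Subtype.ext ?_)⟩
    have := congrArg Subtype.val hk
    exact this
  · exact (h.setup hab hwa hwb hww).even_card
  · -- generation
    rcases (Subgroup.normalClosure_normal (s := ((U a).subgroupOf X : Set X))).eq_bot_or_eq_top with h3 | h3
    · exfalso
      obtain ⟨t, ht, ht1, htt, hta⟩ := h.inv_ex a
      have h4 : (⟨t, ht⟩ : X) ∈ Subgroup.normalClosure ((U a).subgroupOf X : Set X) :=
        Subgroup.subset_normalClosure (Subgroup.mem_subgroupOf.2 (h.inv_mem ht htt hta).1)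
      rw [h3, Subgroup.mem_bot] at h4
      exact ht1 (congrArg Subtype.val h4)
    · exact h3
  · intro u
    exact Subtype.ext (hyy u)
  · exact Subtype.ext (Subtype.ext (by change j * 1 * j⁻¹ = 1; group))
  · intro u x₁ hx₁ d hd x₂ hx₂ he
    refine ⟨y x₁, hyQ _ hx₁, y x₂, hyQ _ hx₂, ?_⟩
    change w * y u * w = y x₁ * d * w * y x₂
    calc w * y u * w = y w * y u * y w := by rw [hyw]
      _ = y (w * u * w) := by rw [hymul, hymul]
      _ = y (x₁ * d * w * x₂) := by rw [he]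
      _ = y x₁ * d * w * y x₂ := by rw [hymul, hymul, hymul, hyw, hyD d hd]
  · intro u hu1 hyu
    have hyu' : y u = u := congrArg Subtype.val hyu
    have huu := hfix2 u u.2 hyu'
    have h1 : w * (u : X) * w ∉ stabilizer X a := by
      have := hR.not_mem_of_Q' u.2 (fun e => hu1 (Subtype.ext e))
      rwa [hwi] at this
    obtain ⟨p, hp, x₂, hx₂, he⟩ := hR.bruhat' h1
    obtain ⟨x₁, hx₁, d, hd, rfl⟩ := hR.Bmul p hp
    refine ⟨x₁, hx₁, d, (hmemC d).2 ⟨hd, ?_⟩, x₂, hx₂, he⟩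
    -- `w u w` is an involution
    have h3 : (w * (u : X) * w)⁻¹ = w * (u : X) * w := by
      refine inv_eq_of_mul_eq_one_left ?_
      calc w * (u : X) * w * (w * u * w) = w * (u : X) * (w * w) * u * w := by group
        _ = w * ((u : X) * u) * w := by rw [hww]; group
        _ = 1 := by rw [huu, mul_one, hww]
    have h4 : x₁ * w * ((w⁻¹ * d * w) * x₂) = x₂⁻¹ * w * (d⁻¹ * x₁⁻¹) := by
      calc x₁ * w * ((w⁻¹ * d * w) * x₂) = x₁ * d * w * x₂ := by group
        _ = (x₁ * d * w * x₂)⁻¹ := by rw [← he, h3]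
        _ = x₂⁻¹ * w⁻¹ * (d⁻¹ * x₁⁻¹) := by group
        _ = _ := by rw [hwi]
    obtain ⟨h5, h6⟩ := hR.unique_bruhat hx₁ (Subgroup.inv_mem _ hx₂)
      (Subgroup.mul_mem _ (hR.DB (hR.winv_conj hd)) (hR.QB hx₂))
      (Subgroup.mul_mem _ (Subgroup.inv_mem _ (hR.DB hd)) (Subgroup.inv_mem _ (hR.QB hx₁))) h4
    rw [h5, inv_inv] at h6
    have h7 := mul_right_cancel h6
    rw [← h7]
    calc w * d * w⁻¹ = w⁻¹ * d * w := by rw [hwi]
      _ = w⁻¹ * d * w := rfl
  · -- the number of fixed points is even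
    obtain ⟨-, hcen, g, hg1, hg⟩ := hcount
    have h1 : Nat.card {u : (U a).subgroupOf X // (⟨y u, hyQ u u.2⟩ : (U a).subgroupOf X) = u} =
        Nat.card (tor h a) := by
      rw [← hcen]
      refine Nat.card_congr ⟨fun u => ⟨u.1.1.1, ?_⟩, fun x => ⟨⟨⟨x.1, ?_⟩, ?_⟩, ?_⟩, fun u => rfl, fun x => rfl⟩
      · have h3 : j * u.1.1.1 * j⁻¹ = u.1.1.1 := congrArg Subtype.val (congrArg Subtype.val u.2)
        rw [mul_inv_eq_iff_eq_mul] at h3
        exact mem_cen.2 ⟨Subgroup.mem_subgroupOf.1 u.1.2, u.1.1.2, h3.symm⟩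
      · exact (mem_cen.1 x.2).2.1
      · exact Subgroup.mem_subgroupOf.2 (mem_cen.1 x.2).1
      · refine Subtype.ext (Subtype.ext ?_)
        change j * x.1 * j⁻¹ = x.1
        rw [mul_inv_eq_iff_eq_mul]
        exact (mem_cen.1 x.2).2.2.symm
    rw [h1, hg, even_iff_two_dvd]
    exact dvd_pow_self 2 (by omega)

end Frame

end Cfsg.Agent.SplitTwo.RankOneFrame
end

-- part: SplitTwo/RankOneFinal
section
/-!
# Rank one groups of odd degree: there are no line involutions, the end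

`X` would be a Zassenhaus group of order `q³ (q³ + 1) (q - 1)`.
-/

set_option autoImplicit false

namespace Cfsg.Agent.SplitTwo.RankOneFrame

open MulAction Cfsg.Agent.HKS Cfsg

variable {G Ω : Type*} [Group G] [MulAction G Ω] {X : Subgroup G} {U : Ω → Subgroup G}

namespace Frame

variable [Finite G] [Finite Ω]

/-- `|D| = q - 1` if `D` is inverted by `w`. -/
theorem card_D (h : Frame X U) {a b : Ω} (hab : b ≠ a)
    (hfree : ∀ d : X, d ∈ stabilizer X a ⊓ stabilizer X b → d ≠ 1 →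
      (U a).subgroupOf X ⊓ Subgroup.centralizer {d} = ⊥) :
    Nat.card ↥(stabilizer X a ⊓ stabilizer X b) + 1 = Nat.card (tor h a) := by
  classical
  have := Fintype.ofFinite G
  obtain ⟨s, hs, hs1, hss, hsa⟩ := h.inv_ex a
  have h1 : Nat.card ↥(stabilizer X a ⊓ stabilizer X b) = Nat.card {x : tor h a // x ≠ 1} := by
    refine Nat.card_congr (Equiv.ofBijective (fun d => ⟨⟨d.1.1 * s * d.1.1⁻¹, ?_, ?_, ?_⟩, ?_⟩) ⟨?_, ?_⟩)
    · exact h.normal _ _ hs
    · calc d.1.1 * s * d.1.1⁻¹ * (d.1.1 * s * d.1.1⁻¹) = d.1.1 * (s * s) * d.1.1⁻¹ := by group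
        _ = 1 := by rw [hss]; group
    · have h3 : d.1.1 • a = a := d.2.1
      rw [mul_smul, mul_smul, inv_smul_eq_iff.2 h3.symm, hsa, h3]
    · intro e
      have h3 : d.1.1 * s * d.1.1⁻¹ = 1 := congrArg Subtype.val e
      apply hs1
      rw [mul_inv_eq_one] at h3
      exact mul_left_cancel (h3.trans (mul_one _).symm)
    · rintro ⟨d, hd⟩ ⟨e, he⟩ hde
      have h3 : d.1 * s * d.1⁻¹ = e.1 * s * e.1⁻¹ := congrArg Subtype.val (congrArg Subtype.val hde)
      have h4 : e⁻¹ * d ∈ stabilizer X a ⊓ stabilizer X b := Subgroup.mul_mem _ (Subgroup.inv_mem _ he) hd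
      by_contra hne
      have h5 : e⁻¹ * d ≠ 1 := fun h6 => hne (Subtype.ext (inv_mul_eq_one.1 h6).symm)
      have h6 := hfree _ h4 h5
      have h7 : (⟨s, hs⟩ : X) ∈ (U a).subgroupOf X ⊓ Subgroup.centralizer {e⁻¹ * d} := by
        refine ⟨Subgroup.mem_subgroupOf.2 (h.inv_mem hs hss hsa).1,
          Subgroup.mem_centralizer_singleton_iff.2 ?_⟩
        apply Subtype.ext
        change s * (e.1⁻¹ * d.1) = e.1⁻¹ * d.1 * s
        calc s * (e.1⁻¹ * d.1) = e.1⁻¹ * (e.1 * s * e.1⁻¹) * d.1 := by group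
          _ = e.1⁻¹ * (d.1 * s * d.1⁻¹) * d.1 := by rw [h3]
          _ = _ := by group
      rw [h6, Subgroup.mem_bot] at h7
      exact hs1 (congrArg Subtype.val h7)
    · rintro ⟨⟨t, ht, htt, hta⟩, ht1⟩
      obtain ⟨d, hd, hda, hdb, hdt⟩ := h.inv_conj hab.symm hs hss hs1 hsa ht htt
        (fun e => ht1 (Subtype.ext e)) hta
      exact ⟨⟨⟨d, hd⟩, hda, hdb⟩, Subtype.ext (Subtype.ext hdt)⟩
  rw [h1, Nat.card_eq_fintype_card, Nat.card_eq_fintype_card, Fintype.card_subtype_compl,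
    Fintype.card_subtype_eq]
  have : 0 < Fintype.card (tor h a) := Fintype.card_pos
  omega

/-- `X` is a Zassenhaus group. -/
theorem zassenhaus [IsSimpleGroup X] (h : Frame X U) {a b : Ω} (hab : b ≠ a)
    (hfree : ∀ d : X, d ∈ stabilizer X a ⊓ stabilizer X b → d ≠ 1 →
      (U a).subgroupOf X ⊓ Subgroup.centralizer {d} = ⊥)
    (hD : ∃ d : X, d ∈ stabilizer X a ⊓ stabilizer X b ∧ d ≠ 1) : IsZassenhausGroup X Ω := by
  have hf : FaithfulSMul X Ω := by
    refine ⟨fun {x y} hxy => ?_⟩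
    have h1 : x.1⁻¹ * y.1 = 1 := by
      refine h.faithful _ (fun c => ?_)
      rw [mul_smul, inv_smul_eq_iff]
      exact (hxy c).symm
    exact Subtype.ext (inv_mul_eq_one.1 h1)
  refine ⟨hf, h.two_pretransitive, ?_, ?_, ?_⟩
  · intro g p q r hpq hqr hpr hgp hgq hgr
    obtain ⟨x, hx, hxp, hxq⟩ := h.two hpq hab.symm
    let g' : X := ⟨x, hx⟩ * g * ⟨x, hx⟩⁻¹
    have hpt : ∀ {c d : Ω}, x • c = d → g • c = c → g' • d = d := by
      intro c d hcd hc
      change (x * g.1 * x⁻¹) • d = d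
      rw [mul_smul, mul_smul, inv_smul_eq_iff.2 hcd.symm]
      have : g.1 • c = c := hc
      rw [this, hcd]
    have hg'a := hpt hxp hgp
    have hg'b := hpt hxq hgq
    have hg'r := hpt (rfl : x • r = x • r) hgr
    have hra : x • r ≠ a := fun e => hpr (MulAction.injective x (hxp.trans e.symm))
    have hrb : x • r ≠ b := fun e => hqr (MulAction.injective x (hxq.trans e.symm))
    obtain ⟨u, hu, huX, hub⟩ := h.reg hab hra
    by_contra hg
    have hg1 : g' ≠ 1 := by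
      intro e
      apply hg
      have : g = ⟨x, hx⟩⁻¹ * g' * ⟨x, hx⟩ := by
        change g = ⟨x, hx⟩⁻¹ * (⟨x, hx⟩ * g * ⟨x, hx⟩⁻¹) * ⟨x, hx⟩
        group
      rw [this, e]
      group
    have h3 := hfree g' ⟨hg'a, hg'b⟩ hg1
    have h4 : (⟨u, huX⟩ : X) ∈ (U a).subgroupOf X ⊓ Subgroup.centralizer {g'} := by
      refine ⟨Subgroup.mem_subgroupOf.2 hu, Subgroup.mem_centralizer_singleton_iff.2 ?_⟩
      apply Subtype.ext
      change u * g'.1 = g'.1 * u
      have h5 : u⁻¹ * (g'.1 * u * g'.1⁻¹) = 1 := by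
        have ha1 : g'.1 • a = a := hg'a
        have hb1 : g'.1 • b = b := hg'b
        have hr1 : g'.1 • (x • r) = x • r := hg'r
        have h6 := h.conj g'.1 hu
        rw [ha1] at h6
        refine h.semireg ((U a).mul_mem ((U a).inv_mem hu) h6)
          (X.mul_mem (X.inv_mem huX) (h.normal _ _ huX)) hab ?_
        rw [mul_smul, mul_smul, mul_smul, inv_smul_eq_iff.2 hb1.symm, hub, hr1, ← hub, inv_smul_smul]
      have h7 := inv_mul_eq_one.1 h5
      calc u * g'.1 = (g'.1 * u * g'.1⁻¹) * g'.1 := by rw [← h7]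
        _ = _ := by group
    rw [h3, Subgroup.mem_bot] at h4
    have h8 : u = 1 := congrArg Subtype.val h4
    rw [h8, one_smul] at hub
    exact hrb hub.symm
  · obtain ⟨d, hd, hd1⟩ := hD
    exact ⟨d, hd1, a, b, hab.symm, hd.1, hd.2⟩
  · intro N hN htr
    rcases hN.eq_bot_or_eq_top with hN' | hN'
    · exfalso
      obtain ⟨n, hn⟩ := htr.exists_smul_eq a b
      have h1 : n = 1 := by
        have h2 : n.1 ∈ (⊥ : Subgroup X) := hN' ▸ n.2
        exact Subtype.ext (Subgroup.mem_bot.1 h2)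
      rw [h1, one_smul] at hn
      exact hab hn.symm
    · obtain ⟨d, hd, hd1⟩ := hD
      refine ⟨a, fun hbot => hd1 ?_⟩
      have h1 : (⟨d, by rw [hN']; trivial⟩ : N) ∈ stabilizer N a := hd.1
      rw [hbot, Subgroup.mem_bot] at h1
      exact congrArg Subtype.val h1

/-- **There are no line involutions.** -/
theorem not_isLine [IsSimpleGroup X] (h : Frame X U) (hnc : ∃ x y : X, x * y ≠ y * x)
    (h2 : ∀ c, IsPGroup 2 (U c)) {j : G} (hj : IsLine X U j) : False := by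
  classical
  have := Fintype.ofFinite Ω
  obtain ⟨-, -, c₀, -, -, hjc₀, -⟩ := id hj
  have hjc : j • c₀ = c₀ := h.fix hjc₀
  obtain ⟨t, ht, ht1, htt, htc⟩ := h.inv_ex c₀
  obtain ⟨a, hac, hja⟩ := h.line_other hj c₀
  have hjt : t * j = j * t := (h.inv_mem ht htt htc).2 j hjc₀
  have hab : t • a ≠ a := fun e => hac (h.inv_le ht htt ht1 e htc)
  have hjb : j • (t • a) = t • a := by rw [← mul_smul, ← hjt, mul_smul, hja]
  set b := t • a with hb
  let w : X := ⟨t, ht⟩
  have hwa : w.1 • a = b := rfl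
  have hwb : w.1 • b = a := by
    change t • t • a = a
    rw [← mul_smul, htt, one_smul]
  have hww : w * w = 1 := Subtype.ext htt
  have hS := h.setup hab hwa hwb hww
  have hTwo := h.two_of_simple hnc a
  have hf : FaithfulSMul X Ω := by
    refine ⟨fun {x y} hxy => ?_⟩
    have h1 : x.1⁻¹ * y.1 = 1 := by
      refine h.faithful _ (fun c => ?_)
      rw [mul_smul, inv_smul_eq_iff]
      exact (hxy c).symm
    exact Subtype.ext (inv_mul_eq_one.1 h1)
  obtain ⟨C, hC, -, -⟩ := Cfsg.Agent.S1131.result hS hTwo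
  have hDC := h.D_le h2 hj hab hja hjb hwa hwb hww hjt C hC
  have hwa' : w • a = b := hwa
  have hfree : ∀ d : X, d ∈ stabilizer X a ⊓ stabilizer X b → d ≠ 1 →
      (U a).subgroupOf X ⊓ Subgroup.centralizer {d} = ⊥ := by
    intro d hd hd1
    refine Cfsg.Agent.S1128.result hS hTwo d ?_ hd1
    rw [← hC]
    exact hDC hd
  have hcD := h.card_D hab hfree
  obtain ⟨hQ3, -, g, hg1, hg⟩ := h.count h2 hj hja
  -- `D ≠ 1`
  have hDex : ∃ d : X, d ∈ stabilizer X a ⊓ stabilizer X b ∧ d ≠ 1 := by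
    obtain ⟨s, ⟨hs, hss, hsa⟩, s', ⟨hs', hss', hsa'⟩, h1, h3, h4⟩ := h.two_involutions hnc a
    obtain ⟨d, hd, hda, hdb, hds⟩ := h.inv_conj hab.symm hs hss h1 hsa hs' hss' h3 hsa'
    refine ⟨⟨d, hd⟩, ⟨hda, hdb⟩, fun e => h4 ?_⟩
    have : d = 1 := congrArg Subtype.val e
    rw [← hds, this]
    group
  have hZ := h.zassenhaus hab hfree hDex
  -- orders
  have hQc : Nat.card ((U a).subgroupOf X) = Nat.card (U a ⊓ X : Subgroup G) := by
    refine Nat.card_congr ⟨fun x => ⟨x.1.1, Subgroup.mem_subgroupOf.1 x.2, x.1.2⟩,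
      fun x => ⟨⟨x.1, x.2.2⟩, Subgroup.mem_subgroupOf.2 x.2.1⟩, fun x => rfl, fun x => rfl⟩
  have hQ1 := h.card_Q a hab
  have hR := h.rankOne hab hwa hwb
  have hcX := hR.card_eq
  have hcB := hR.card_B
  rw [hcB, hQc, hQ3, hg] at hcX
  rw [hg] at hcD
  have hDodd := h.odd_D hab
  have hDcard : Nat.card ↥(stabilizer X a ⊓ stabilizer X b) = 2 ^ g - 1 := by omega
  have hfixQ : ∀ u ∈ (U a).subgroupOf X, u ≠ 1 → ∀ c : Ω, u • c = c → c = a := by
    intro u hu hu1 c huc
    by_contra hca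
    exact hu1 (Subtype.ext (h.semireg (Subgroup.mem_subgroupOf.1 hu) u.2 hca huc))
  have hQle : (U a).subgroupOf X ≤ stabilizer X a := fun u hu => h.fix (Subgroup.mem_subgroupOf.1 hu)
  have hcardΩ : Fintype.card Ω = (2 ^ g) ^ 3 + 1 := by
    rw [← Nat.card_eq_fintype_card, ← hQ1, hQ3, hg]
  have hgpos : 2 ≤ 2 ^ g := by
    calc 2 = 2 ^ 1 := by norm_num
      _ ≤ 2 ^ g := Nat.pow_le_pow_right (by norm_num) hg1
  have hfeit := Cfsg.Agent.S0885.result hZ (a := a) (b := b) hab.symm ((2 ^ g) ^ 3) (2 ^ g - 1) hcardΩ hDcard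
    (by rw [← hDcard]; exact hDodd) ((U a).subgroupOf X) hQle
    (by rw [hQc, hQ1, Nat.card_eq_fintype_card]) hfixQ
  have hna : ∃ u v : (U a).subgroupOf X, u * v ≠ v * u := by
    rcases hfeit with h1 | ⟨-, h1, -⟩
    · exfalso
      have h3 : 4 * 2 ^ g ≤ (2 ^ g) ^ 3 := by
        have h4 : 4 ≤ (2 ^ g) * (2 ^ g) := Nat.mul_le_mul hgpos hgpos
        calc 4 * 2 ^ g ≤ (2 ^ g * 2 ^ g) * 2 ^ g := Nat.mul_le_mul_right _ h4
          _ = _ := by ring
      omega
    · exact h1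
  have hP2 : IsPGroup 2 ((U a).subgroupOf X) := by
    rintro ⟨⟨x, hx⟩, hx'⟩
    obtain ⟨k, hk⟩ := h2 a ⟨x, Subgroup.mem_subgroupOf.1 hx'⟩
    refine ⟨k, Subtype.ext (Subtype.ext ?_)⟩
    have := congrArg Subtype.val hk
    exact this
  have hSz := Cfsg.Agent.S0347.result hZ a ((U a).subgroupOf X) hQle
    (by
      refine ⟨fun u hu g => ?_⟩
      rw [Subgroup.mem_subgroupOf] at hu ⊢
      exact hR.Qn g.1 g.2 u.1 hu) hP2 hna
    (by
      intro y z hy hz
      obtain ⟨u, hu, huX, huy⟩ := h.reg hy hz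
      refine ⟨⟨⟨u, huX⟩, Subgroup.mem_subgroupOf.2 hu⟩, huy, ?_⟩
      rintro ⟨⟨v, hvX⟩, hv⟩ hvy
      have hv' : v ∈ U a := Subgroup.mem_subgroupOf.1 hv
      have hvy' : v • y = z := hvy
      refine Subtype.ext (Subtype.ext ?_)
      change v = u
      have h3 : u⁻¹ * v = 1 := by
        refine h.semireg ((U a).mul_mem ((U a).inv_mem hu) hv') (X.mul_mem (X.inv_mem huX) hvX) hy ?_
        rw [mul_smul, hvy', ← huy, inv_smul_smul]
      exact (inv_mul_eq_one.1 h3).symm)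
  obtain ⟨-, m, -, hm⟩ := hSz
  refine order_arith (m := m) hg1 (fun _ => ?_)
  rw [hcX, hDcard] at hm
  calc (2 ^ g) ^ 3 * (((2 ^ g) ^ 3 + 1) * (2 ^ g - 1)) =
      ((2 ^ g) ^ 3 + 1) * ((2 ^ g) ^ 3 * (2 ^ g - 1)) := by ring
    _ = (2 ^ (2 * m + 1)) ^ 2 * ((2 ^ (2 * m + 1)) ^ 2 + 1) * (2 ^ (2 * m + 1) - 1) := hm
    _ = _ := by ring

/-- **Main theorem.** -/
theorem eq_one [IsSimpleGroup X] (h : Frame X U) (hnc : ∃ x y : X, x * y ≠ y * x)
    (h2 : ∀ c, IsPGroup 2 (U c)) {a b : Ω} (hab : b ≠ a) {y : G} (hy : y ∈ U a) (hyb : y • b = b) :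
    y = 1 := by
  classical
  by_contra hy1
  have : Fact (Nat.Prime 2) := ⟨Nat.prime_two⟩
  obtain ⟨k, hk⟩ := h2 a ⟨y, hy⟩
  have hk' : y ^ 2 ^ k = 1 := congrArg Subtype.val hk
  obtain ⟨n, -, hn⟩ := (Nat.dvd_prime_pow Nat.prime_two).1 (orderOf_dvd_of_pow_eq_one hk')
  have hn0 : n ≠ 0 := by
    rintro rfl
    rw [pow_zero, orderOf_eq_one_iff] at hn
    exact hy1 hn
  obtain ⟨m, rfl⟩ := Nat.exists_eq_succ_of_ne_zero hn0
  set j := y ^ 2 ^ m with hj
  have hjj : j * j = 1 := by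
    rw [hj, ← pow_add, ← two_mul, ← pow_succ', ← hn, pow_orderOf_eq_one]
  have hj1 : j ≠ 1 := by
    refine pow_ne_one_of_lt_orderOf (pow_ne_zero _ (by norm_num)) ?_
    rw [hn]
    exact Nat.pow_lt_pow_right (by norm_num) (Nat.lt_succ_self m)
  have hjU : j ∈ U a := (U a).pow_mem hy _
  have hjb : j • b = b := by
    have : y ∈ stabilizer G b := hyb
    exact (stabilizer G b).pow_mem this _
  refine h.not_isLine hnc h2 (j := j) ⟨hjj, fun hjX => ?_, a, b, hab.symm, hjU, hjb⟩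
  exact hab (h.inv_le hjX hjj hj1 hjb (h.fix hjU))

end Frame

end Cfsg.Agent.SplitTwo.RankOneFrame
end

-- part: SplitTwo/RankTransfer
section
/-!
# A transfer argument for doubly transitive groups

`X` is a doubly transitive simple group, `U` a nilpotent group which fixes `a`, is transitive on the other
points, and is normalised by the stabiliser of `a`. Then `U ⊓ X` is transitive on the points different
from `a` (part of S1144 and S1145, proof of helper493).
-/

set_option autoImplicit false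
set_option linter.unusedSectionVars false

namespace Cfsg.Agent.SplitTwo.RankTransfer

open MulAction

/-- The transfer into a quotient of a point stabiliser in whose kernel all elements with a second fixed
point are. -/
theorem transfer_eq {X Ω A : Type*} [Group X] [Finite X] [MulAction X Ω] [CommGroup A] (a : Ω)
    (φ : stabilizer X a →* A) (h1 : ∀ (x : stabilizer X a) (c : Ω), c ≠ a → x • c = c → φ x = 1)
    (x : stabilizer X a) : MonoidHom.transfer φ (x : X) = φ x := by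
  classical
  have : Fintype (Quotient (orbitRel (Subgroup.zpowers (x : X)) (X ⧸ stabilizer X a))) :=
    Fintype.ofFinite _
  rw [MonoidHom.transfer_eq_prod_quotient_orbitRel_zpowers_quot]
  let q0 : Quotient (orbitRel (Subgroup.zpowers (x : X)) (X ⧸ stabilizer X a)) :=
    Quotient.mk _ (((1 : X) : X ⧸ stabilizer X a))
  rw [Finset.prod_eq_single q0]
  · -- the fixed point `a`
    have hfix : ∀ z : X, z ∈ stabilizer X a → z • ((1 : X) : X ⧸ stabilizer X a) = ((1 : X) : X ⧸ stabilizer X a) := by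
      intro z hz
      change ((z * 1 : X) : X ⧸ stabilizer X a) = ((1 : X) : X ⧸ stabilizer X a)
      rw [QuotientGroup.eq]
      simpa using hz
    have hout : q0.out = ((1 : X) : X ⧸ stabilizer X a) := by
      have h2 : (orbitRel (Subgroup.zpowers (x : X)) (X ⧸ stabilizer X a)) q0.out
          ((1 : X) : X ⧸ stabilizer X a) := Quotient.exact (Quotient.out_eq q0)
      obtain ⟨⟨z, hz⟩, hz'⟩ := h2
      rw [← hz']
      exact hfix z ((Subgroup.zpowers_le.2 x.2) hz)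
    have hmin : Function.minimalPeriod ((x : X) • ·) q0.out = 1 := by
      rw [Function.minimalPeriod_eq_one_iff_isFixedPt, hout]
      exact hfix x x.2
    have hmem : q0.out.out ∈ stabilizer X a := by
      have h3 : ((q0.out.out : X) : X ⧸ stabilizer X a) = ((1 : X) : X ⧸ stabilizer X a) := by
        rw [QuotientGroup.out_eq', hout]
      rw [eq_comm, QuotientGroup.eq] at h3
      simpa using h3
    have h4 : (⟨q0.out.out⁻¹ * (x : X) ^ Function.minimalPeriod ((x : X) • ·) q0.out * q0.out.out,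
        QuotientGroup.out_conj_pow_minimalPeriod_mem (stabilizer X a) (x : X) q0.out⟩ : stabilizer X a) =
        (⟨q0.out.out, hmem⟩ : stabilizer X a)⁻¹ * x * ⟨q0.out.out, hmem⟩ := by
      apply Subtype.ext
      change q0.out.out⁻¹ * (x : X) ^ Function.minimalPeriod ((x : X) • ·) q0.out * q0.out.out =
        q0.out.out⁻¹ * (x : X) * q0.out.out
      rw [hmin, pow_one]
    rw [h4, map_mul, map_mul, map_inv, mul_comm, mul_inv_cancel_left]
  · intro q _ hq
    apply h1 _ (q.out.out⁻¹ • a)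
    · intro e
      rw [inv_smul_eq_iff] at e
      apply hq
      have h3 : ((q.out.out : X) : X ⧸ stabilizer X a) = ((1 : X) : X ⧸ stabilizer X a) := by
        rw [eq_comm, QuotientGroup.eq]
        simpa using e.symm
      rw [QuotientGroup.out_eq'] at h3
      rw [← Quotient.out_eq q, h3]
    · have h5 : q.out.out⁻¹ * (x : X) ^ Function.minimalPeriod ((x : X) • ·) q.out * q.out.out ∈ stabilizer X a :=
        QuotientGroup.out_conj_pow_minimalPeriod_mem (stabilizer X a) (x : X) q.out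
      change (q.out.out⁻¹ * (x : X) ^ Function.minimalPeriod ((x : X) • ·) q.out * q.out.out) • (q.out.out⁻¹ • a) =
        q.out.out⁻¹ • a
      have h6 : (x : X) ^ Function.minimalPeriod ((x : X) • ·) q.out • a = a :=
        (stabilizer X a).pow_mem x.2 _
      rw [mul_smul, smul_inv_smul, mul_smul, h6]
  · intro h
    exact absurd (Finset.mem_univ _) h

/-- A normal maximal subgroup of a nilpotent group has commutative quotient. -/
theorem quot_comm {U : Type*} [Group U] [Finite U] (hU : Group.IsNilpotent U) {K : Subgroup U}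
    (hK : IsCoatom K) (hn : K.Normal) : ∀ x y : U ⧸ K, x * y = y * x := by
  have := hU
  have hnt : Nontrivial (U ⧸ K) := QuotientGroup.nontrivial_iff.2 hK.1
  have hc : Subgroup.center (U ⧸ K) ≠ ⊥ := Group.IsNilpotent.center_ne_bot _
  have h1 : (Subgroup.center (U ⧸ K)).comap (QuotientGroup.mk' K) = ⊤ := by
    apply hK.2
    refine lt_of_le_of_ne ?_ ?_
    · intro k hk
      rw [Subgroup.mem_comap]
      have : QuotientGroup.mk' K k = 1 := (QuotientGroup.eq_one_iff k).2 hk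
      rw [this]
      exact one_mem _
    · intro e
      apply hc
      rw [eq_bot_iff]
      intro z hz
      obtain ⟨k, rfl⟩ := QuotientGroup.mk'_surjective K z
      have h2 : k ∈ (Subgroup.center (U ⧸ K)).comap (QuotientGroup.mk' K) := hz
      rw [← e] at h2
      exact (QuotientGroup.eq_one_iff k).2 h2
  intro x y
  obtain ⟨k, rfl⟩ := QuotientGroup.mk'_surjective K y
  have h2 : k ∈ (Subgroup.center (U ⧸ K)).comap (QuotientGroup.mk' K) := by rw [h1]; trivial
  exact Subgroup.mem_center_iff.1 h2 x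

theorem inf_transitive {G Ω : Type*} [Group G] [Finite G] [MulAction G Ω] [Finite Ω] (X U : Subgroup G)
    (hXn : ∀ g, ∀ x ∈ X, g * x * g⁻¹ ∈ X) [IsSimpleGroup X] (hnc : ∃ x y : X, x * y ≠ y * x) (a : Ω)
    (hX2 : ∀ b c, b ≠ a → c ≠ a → ∃ x ∈ X, x • a = a ∧ x • b = c)
    (hU : ∀ u ∈ U, u • a = a) (hUn : ∀ g, g • a = a → ∀ u ∈ U, g * u * g⁻¹ ∈ U)
    (hnil : Group.IsNilpotent U) (hUt : ∀ b c, b ≠ a → c ≠ a → ∃ u ∈ U, u • b = c) :
    ∀ b c, b ≠ a → c ≠ a → ∃ u ∈ U, u ∈ X ∧ u • b = c := by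
  classical
  by_contra hno
  push Not at hno
  obtain ⟨b, c₀, hb, hc₀, hbc₀⟩ := hno
  have hN : (X.subgroupOf U).Normal := by
    refine ⟨?_⟩
    rintro ⟨n, hn⟩ hn' ⟨g, hg⟩
    exact hXn g n hn'
  let M : Subgroup U := X.subgroupOf U ⊔ stabilizer U b
  have hM : M ≠ ⊤ := by
    intro htop
    obtain ⟨u, hu, hub⟩ := hUt b c₀ hb hc₀
    have h1 : (⟨u, hu⟩ : U) ∈ M := by rw [htop]; trivial
    obtain ⟨n, hn, v, hv, hnv⟩ := Subgroup.mem_sup_of_normal_left.1 h1
    have h2 : n.1 * v.1 = u := congrArg Subtype.val hnv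
    have h3 : v.1 • b = b := hv
    apply hbc₀ n.1 n.2 hn
    rw [← hub, ← h2, mul_smul, h3]
  obtain ⟨K, hK, hMK⟩ := (eq_top_or_exists_le_coatom M).resolve_left hM
  have hKn : K.Normal := by
    have := hnil
    exact Subgroup.NormalizerCondition.normal_of_coatom K Group.normalizerCondition_of_isNilpotent hK
  have hcomm := quot_comm hnil hK hKn
  let _ : CommGroup (U ⧸ K) := { QuotientGroup.Quotient.group K with mul_comm := hcomm }
  have hNK : ∀ n : U, n.1 ∈ X → (n : U ⧸ K) = 1 := fun n hn =>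
    (QuotientGroup.eq_one_iff n).2 (hMK (Subgroup.mem_sup_left hn))
  have hSK : ∀ n : U, n.1 • b = b → (n : U ⧸ K) = 1 := fun n hn =>
    (QuotientGroup.eq_one_iff n).2 (hMK (Subgroup.mem_sup_right (show n ∈ stabilizer U b from hn)))
  have heq : ∀ u v : U, u.1 • b = v.1 • b → (u : U ⧸ K) = (v : U ⧸ K) := by
    intro u v huv
    rw [QuotientGroup.eq]
    rw [← QuotientGroup.eq_one_iff (N := K)]
    apply hSK
    change (u.1⁻¹ * v.1) • b = b
    rw [mul_smul, ← huv, inv_smul_smul]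
  -- conjugation by elements of `X`
  have hconj : ∀ x : G, x ∈ X → x • a = a → ∀ u : U, ∃ u' : U, u'.1 = x * u.1 * x⁻¹ ∧
      (u' : U ⧸ K) = (u : U ⧸ K) := by
    intro x hx hxa u
    refine ⟨⟨x * u.1 * x⁻¹, hUn x hxa u.1 u.2⟩, rfl, ?_⟩
    rw [QuotientGroup.eq, ← QuotientGroup.eq_one_iff (N := K)]
    apply hNK
    change (x * u.1 * x⁻¹)⁻¹ * u.1 ∈ X
    have h1 : (x * u.1 * x⁻¹)⁻¹ * u.1 = x * (u.1⁻¹ * x⁻¹ * u.1) := by group
    rw [h1]
    refine X.mul_mem hx ?_
    have := hXn u.1⁻¹ x⁻¹ (X.inv_mem hx)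
    rwa [inv_inv] at this
  have hne : ∀ x : G, x • a = a → x • b ≠ a := by
    intro x hx e
    exact hb (MulAction.injective x (e.trans hx.symm))
  have hex : ∀ x : stabilizer X a, ∃ u : U, u.1 • b = x.1.1 • b := by
    intro x
    obtain ⟨u, hu, hub⟩ := hUt b (x.1.1 • b) hb (hne _ x.2)
    exact ⟨⟨u, hu⟩, hub⟩
  choose f hf using hex
  let φ : stabilizer X a →* U ⧸ K :=
    { toFun := fun x => ((f x : U) : U ⧸ K)
      map_one' := by
        apply hSK
        rw [hf]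
        change (1 : G) • b = b
        rw [one_smul]
      map_mul' := by
        intro x y
        obtain ⟨u', hu', hu''⟩ := hconj x.1.1 x.1.2 x.2 (f y)
        have h1 : ((f (x * y) : U) : U ⧸ K) = ((u' * f x : U) : U ⧸ K) := by
          apply heq
          rw [hf]
          change (x.1.1 * y.1.1) • b = (u'.1 * (f x).1) • b
          rw [mul_smul, ← hf y, mul_smul, hf x, hu', ← mul_smul, ← mul_smul]
          congr 1
          group
        rw [h1, QuotientGroup.mk_mul, hu'', hcomm] }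
  have hφ : ∀ x : stabilizer X a, φ x = ((f x : U) : U ⧸ K) := fun _ => rfl
  have hkill : ∀ (x : stabilizer X a) (c : Ω), c ≠ a → x • c = c → φ x = 1 := by
    intro x c hc hxc
    obtain ⟨v, hv, rfl⟩ := hUt b c hb hc
    obtain ⟨v', hv', hv''⟩ := hconj x.1.1 x.1.2 x.2 ⟨v, hv⟩
    have hxc' : x.1.1 • v • b = v • b := hxc
    have h1 : ((v' * f x : U) : U ⧸ K) = ((⟨v, hv⟩ : U) : U ⧸ K) := by
      apply heq
      change (v'.1 * (f x).1) • b = v • b
      rw [mul_smul, hf x, hv', ← mul_smul]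
      change (x.1.1 * v * x.1.1⁻¹ * x.1.1) • b = v • b
      rw [inv_mul_cancel_right, mul_smul, hxc']
    rw [QuotientGroup.mk_mul, hv''] at h1
    rw [hφ]
    exact mul_left_cancel (h1.trans (mul_one _).symm)
  -- the transfer is trivial
  have htriv : ∀ x : X, MonoidHom.transfer φ x = 1 := by
    intro x
    rcases (MonoidHom.normal_ker (MonoidHom.transfer φ)).eq_bot_or_eq_top with h1 | h1
    · exfalso
      obtain ⟨x, y, hxy⟩ := hnc
      apply hxy
      apply (MonoidHom.ker_eq_bot_iff _).1 h1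
      rw [map_mul, map_mul, mul_comm]
    · rw [← MonoidHom.mem_ker, h1]
      trivial
  have hφ1 : ∀ x : stabilizer X a, φ x = 1 := by
    intro x
    rw [← transfer_eq a φ hkill x]
    exact htriv x
  apply hK.1
  rw [eq_top_iff]
  intro u _
  obtain ⟨x, hx, hxa, hxb⟩ := hX2 b (u.1 • b) hb (hne _ (hU _ u.2))
  rw [← QuotientGroup.eq_one_iff, heq u (f ⟨⟨x, hx⟩, hxa⟩) (by rw [hf]; exact hxb.symm), ← hφ, hφ1]

end Cfsg.Agent.SplitTwo.RankTransfer
end

-- part: SplitTwo/RankOneAll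
section
/-!
# The rank one fact `RankOneR` and the odd degree case of the Kantor–Seitz theorem

* `odd_concl` : `OddConcl` from the criterion S1174 for all simple groups;
* `rankOneR` : `RankOneR` from the even degree case and the criterion.
-/

set_option autoImplicit false
set_option linter.unusedSectionVars false

namespace Cfsg.Agent.SplitTwo.RankOneAll

open MulAction Cfsg Cfsg.Agent.KantorSeitz Cfsg.Agent.SplitTwo.RankOneOdd
  Cfsg.Agent.SplitTwo.RankOneFrame Cfsg.Agent.SplitTwo.RankOneOddB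

universe v

/-- S1174 for all simple groups -/
def CritAll : Prop := ∀ (X : Type v) [Group X] [Finite X] [IsSimpleGroup X], Crit X

section

variable {G Ω : Type*} [Group G] [Finite G] [MulAction G Ω] [Finite Ω] [FaithfulSMul G Ω]
  {U : Ω → Subgroup G} {X : Subgroup G}

/-- The Kantor–Seitz theorem in odd degree if there is a nonabelian simple normal subgroup. -/
theorem odd_simple (h : KS U) (hodd : Odd (Nat.card Ω)) (hX : X.Normal) [IsSimpleGroup X]
    (hnc : ∃ x y : X, x * y ≠ y * x) (hcrit : Crit X) {a b : Ω} (hab : b ≠ a) {y : G}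
    (hy : y ∈ U a) (hyb : y • b = b) : y = 1 := by
  have htr : ∀ a b c : Ω, b ≠ a → c ≠ a → ∃ u ∈ U a, u ∈ X ∧ u • b = c := fun a =>
    RankTransfer.inf_transitive X (U a) (fun g x hx => hX.conj_mem x hx g) hnc a
      (fun b c hb hc => trans_stab h hodd hX hnc hcrit hb hc) (fun u hu => h.fix hu)
      (fun g hg u hu => by
        have := h.conj g hu
        rwa [hg] at this) (h.nil a) (fun b c hb hc => h.trans hb hc)
  have hex : ∀ c : Ω, ∃ d : Ω, d ≠ c := by
    intro c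
    by_cases hc : a = c
    · exact ⟨b, fun e => hab (e.trans hc.symm)⟩
    · exact ⟨a, hc⟩
  have hF := frame h hodd hX hnc hcrit htr hex ⟨a⟩
  refine hF.eq_one hnc (fun c => ?_) hab hy hyb
  obtain ⟨d, hd⟩ := hex c
  exact two_group h hodd hX hnc hcrit htr hd

end

/-- In odd degree `U a` is regular or there is a transitive abelian normal subgroup. -/
theorem odd_cases (hcrit : CritAll.{v}) {G Ω : Type v} [Group G] [Finite G] [MulAction G Ω] [Finite Ω]
    [FaithfulSMul G Ω] {U : Ω → Subgroup G} (h : KS U) (hodd : Odd (Nat.card Ω)) {a b : Ω}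
    (hab : a ≠ b) : (∀ x ∈ U a, x • b = b → x = 1) ∨
      ∃ W : Subgroup G, W.Normal ∧ (∀ x ∈ W, ∀ y ∈ W, x * y = y * x) ∧
        ∀ c d : Ω, ∃ w ∈ W, w • c = d := by
  have : Nontrivial Ω := ⟨a, b, hab⟩
  have : Nontrivial G := by
    obtain ⟨g, hg⟩ := h.tr a b
    refine ⟨g, 1, ?_⟩
    rintro rfl
    rw [one_smul] at hg
    exact hab hg
  obtain ⟨N, hN, hN1, hmin⟩ := Cfsg.Agent.Lib.SubnormalJoin.exists_minimal_normal G
  have habel : (∀ x ∈ N, ∀ y ∈ N, x * y = y * x) → ∃ W : Subgroup G, W.Normal ∧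
      (∀ x ∈ W, ∀ y ∈ W, x * y = y * x) ∧ ∀ c d : Ω, ∃ w ∈ W, w • c = d :=
    fun hc => ⟨N, hN, hc, fun c d => trans_X h hN hN1 c d⟩
  rcases Cfsg.Agent.PermutationGroups.TwoTransitiveNormal.burnside_minimal_normal (G := G) (X := Ω)
    (fun a b c d hab hcd => h.two hab hcd) N hN1 hmin with ⟨hc, -, -⟩ | ⟨hs, -⟩
  · right
    apply habel
    intro x hx y hy
    exact congrArg Subtype.val (hc.is_comm.comm (⟨x, hx⟩ : N) ⟨y, hy⟩)
  · by_cases hc : ∀ x ∈ N, ∀ y ∈ N, x * y = y * x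
    · exact Or.inr (habel hc)
    · left
      push Not at hc
      obtain ⟨x, hx, y, hy, hxy⟩ := hc
      intro z hz hzb
      exact odd_simple h hodd hN ⟨⟨x, hx⟩, ⟨y, hy⟩, fun e => hxy (congrArg Subtype.val e)⟩
        (hcrit N) hab.symm hz hzb

/-- In any degree `U a` is regular or there is a transitive abelian normal subgroup. -/
theorem cases (hE : ∀ n, EvenHyp.{v} n) (hcrit : CritAll.{v}) {G Ω : Type v} [Group G] [Finite G]
    [MulAction G Ω] [Finite Ω] [FaithfulSMul G Ω] {U : Ω → Subgroup G} (h : KS U) {a b : Ω}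
    (hab : a ≠ b) : (∀ x ∈ U a, x • b = b → x = 1) ∨
      ∃ W : Subgroup G, W.Normal ∧ (∀ x ∈ W, ∀ y ∈ W, x * y = y * x) ∧
        ∀ c d : Ω, ∃ w ∈ W, w • c = d := by
  rcases Nat.even_or_odd (Nat.card Ω) with hev | hodd
  · left
    intro x hx hxb
    exact KS.eq_one_of_fix (Ω := Ω) (hE _ G Ω U h hev (Nat.lt_succ_self _) a b hab x hx hxb)
  · exact odd_cases hcrit h hodd hab

/-- **The rank one fact** used in S1144. -/
theorem rankOneR (hE : ∀ n, EvenHyp.{v} n) (hcrit : CritAll.{v}) : Reducible.RankOneR.{v} := by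
  intro Ω _ R M a b hba h2 hMR hMa hMn hMnil hMt
  have hinv : ∀ g : R, g • a = a → ∀ x ∈ M.subgroupOf R, g * x * g⁻¹ ∈ M.subgroupOf R := by
    intro g hg x hx
    exact hMn g.1 g.2 hg x.1 hx
  have hKS : KS (ofBase (M.subgroupOf R) a) := by
    refine KS_of_base (fun x hx => hMa x.1 hx) hinv ?_ ?_ ?_
    · intro c d hc hd
      obtain ⟨m, hm, hmc⟩ := hMt c d hc hd
      exact ⟨⟨m, hMR hm⟩, hm, hmc⟩
    · have := hMnil
      exact (Group.isNilpotent_congr (Subgroup.subgroupOfEquivOfLe hMR)).2 hMnil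
    · intro c
      by_cases hc : c = a
      · exact ⟨1, by rw [one_smul, hc]⟩
      · obtain ⟨g, hg, hga, -⟩ := h2 a c c a (Ne.symm hc) hc
        exact ⟨⟨g, hg⟩, hga⟩
  have hUa : ofBase (M.subgroupOf R) a a = M.subgroupOf R := ofBase_self hinv
  rcases cases hE hcrit hKS hba.symm with h1 | ⟨W, hW, hWc, hWt⟩
  · rw [hUa] at h1
    have h3 : ∀ m ∈ M, m b = b → m = 1 := by
      intro m hm hmb
      exact congrArg Subtype.val (h1 ⟨m, hMR hm⟩ hm hmb)
    refine ⟨fun m hm m' hm' hmb hmb' hm1 _ => absurd (h3 m hm hmb) hm1, ?_⟩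
    rintro ⟨m, hm, hmb, hm1⟩
    exact absurd (h3 m hm hmb) hm1
  · have hC : Concl (ofBase (M.subgroupOf R) a) a b := hKS.affine_concl hW hWc hWt hba.symm
    unfold Concl at hC
    rw [hUa] at hC
    constructor
    · intro m hm m' hm' hmb hmb' hm1 hm1'
      rcases hC with h1 | ⟨⟨x₀, hx₀⟩, -⟩
      · exact absurd (congrArg Subtype.val (h1 ⟨m, hMR hm⟩ hm hmb)) hm1
      · have e1 := (hx₀ ⟨m, hMR hm⟩ hm hmb).resolve_left (fun e => hm1 (congrArg Subtype.val e))
        have e2 := (hx₀ ⟨m', hMR hm'⟩ hm' hmb').resolve_left (fun e => hm1' (congrArg Subtype.val e))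
        exact congrArg Subtype.val (e1.trans e2.symm)
    · intro _
      refine ⟨W.map R.subtype, ?_, ?_, ?_, ?_⟩
      · rintro _ ⟨x, -, rfl⟩
        exact x.2
      · rintro r hr _ ⟨x, hx, rfl⟩
        exact ⟨(⟨r, hr⟩ * x * ⟨r, hr⟩⁻¹ :), hW.conj_mem x hx ⟨r, hr⟩, rfl⟩
      · rintro _ ⟨x, hx, rfl⟩ _ ⟨y, hy, rfl⟩
        exact congrArg Subtype.val (hWc x hx y hy)
      · intro x y
        obtain ⟨w, hw, hwx⟩ := hWt x y
        exact ⟨w.1, ⟨w, hw, rfl⟩, hwx⟩

end Cfsg.Agent.SplitTwo.RankOneAll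
end

-- part: SplitTwo/RankOneCrit
section
/-!
# The rank one fact `RankOneR` from the Hering–Kantor–Seitz theorem in even degree
-/

set_option autoImplicit false

namespace Cfsg.Agent.SplitTwo.RankOneCrit

universe v

/-- S1174 for all simple groups. -/
theorem critAll : RankOneAll.CritAll.{v} := fun _ _ _ _ S T hT hcl hC =>
  Cfsg.Agent.S1174.result S T hT hcl hC

/-- The rank one fact, from the Kantor–Seitz theorem in even degree. -/
theorem rankOneR (hE : ∀ n, KantorSeitz.EvenHyp.{v} n) : Reducible.RankOneR.{v} :=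
  RankOneAll.rankOneR hE critAll

/-- The rank one fact, from the Hering–Kantor–Seitz theorem in even degree. -/
theorem rankOneR_of_HKS (H : KantorSeitz.HKSEven.{v}) : Reducible.RankOneR.{v} :=
  rankOneR (KantorSeitz.evenHyp_of_HKSEven H)

end Cfsg.Agent.SplitTwo.RankOneCrit
end

private theorem dce_4119da8a77d8 : _root_.True := by
  try have : _root_.True := by simp only [_root_.Cfsg.Agent.SplitTwo.RankOneMod.S.eq_1]
  try have : _root_.True := by simp only [_root_.Cfsg.Agent.SplitTwo.RankOneMod.T.eq_1]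
  try have : _root_.True := by simp only [_root_.Cfsg.Agent.SplitTwo.RankOneFrame.tor.congr_simp]
  try have : _root_.True := by simp only [_root_.Cfsg.Agent.SplitTwo.PGroup168.syl.congr_simp]
  try have : _root_.True := by simp only [_root_.Cfsg.Agent.SplitTwo.ExcOrder.q.eq_1]
  try have : _root_.True := by simp only [_root_.Cfsg.Agent.SplitTwo.RankOneFrame.cen.eq_1]
  exact _root_.True.intro
end
end
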