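import Mathlib.Algebra.Group.Subgroup.Basic
import Mathlib.Algebra.Group.Commute.Basic
import Mathlib.Tactic.Group
import Mathlib.Tactic.ByContra
import Mathlib
import Cfsg.Agent.TitsThree.FieldSet
import Cfsg.Agent.TitsThree.PQAbs
import Cfsg.Agent.TitsThree.RankTwoIdentB2
import Cfsg.Agent.TitsThree.B2NI
import Cfsg.Agent.TitsThree.B2Transport
import Cfsg.Agent.TitsThree.EvenSp
import Cfsg.Agent.TitsThree.CnModel
import Cfsg.Agent.TitsThree.PQClass
import Cfsg.Agent.S0247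
import Cfsg.Agent.FastGrp
import Cfsg.Agent.Prune
set_option linter.all false

section
prune_inst 0x7ffcfefbeff83ddedfff7e7faf9edffdfdfdffffffdffdcbffe0ebff9fff5b02ede56bad8ffbdafe5ff762b410f87bd3ffffeeffeb6fdc7ffffd1ff45ffbff8fedf7bd0951de8cb40fbc0ff603f07fce7f3fffffffffffffffffffffffffffbeffffffffffff

-- part: SplitTwo/QuadField
section
prune_inst 0x201000006822120000180506100000200000000200030000b0400400004fd020a905260042401a0008108c502000000001000000023800000e008a0000050000842a42021300a10426008fc07802000000000000000000000000000000041000000000000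
set_option linter.all false
open scoped Cfsg.Agent.FastGrp

-- part: SplitTwo/QuadBase
section
/-!
# Abstract Moufang quadrangles: the four positive root groups

`U1, U2, U3, U4` are subgroups of a group `G`, `m a` (`1 ≠ a ∈ U1`) and `n x` (`1 ≠ x ∈ U4`) are
elements of `G` (`m a = μ(a)⁻¹`, `n x = μ(x)`).  Everything is written with left conjugation
`g ↦ m g m⁻¹` and the commutator `κ u v = u⁻¹ v u v⁻¹`.

The structure is stable under reversal `(U4, U3, U2, U1)`.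
-/

set_option autoImplicit false

namespace Cfsg.Agent.SplitTwo.QuadBase

variable {G : Type*} [Group G]

/-- The commutator `u⁻¹ v u v⁻¹`. -/
def κ (u v : G) : G := u⁻¹ * v * u * v⁻¹

/-- Four positive root groups of a Moufang quadrangle with the elements `m a = μ(a)⁻¹`
(`a ∈ U1`) and `n x = μ(x)` (`x ∈ U4`). -/
structure Quad (U1 U2 U3 U4 : Subgroup G) (m n : G → G) : Prop where
  c12 : ∀ a ∈ U1, ∀ b ∈ U2, Commute a b
  c23 : ∀ b ∈ U2, ∀ c ∈ U3, Commute b c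
  c34 : ∀ c ∈ U3, ∀ x ∈ U4, Commute c x
  inf23 : ∀ b ∈ U2, b ∈ U3 → b = 1
  k13 : ∀ a ∈ U1, ∀ c ∈ U3, κ a c ∈ U2
  k24 : ∀ b ∈ U2, ∀ x ∈ U4, κ b x ∈ U3
  k14 : ∀ a ∈ U1, a ≠ 1 → ∀ x ∈ U4, x ≠ 1 →
    κ a x = (m a * x * (m a)⁻¹) * (n x * a * (n x)⁻¹)
  m_inv : ∀ a ∈ U1, a ≠ 1 → m a⁻¹ = (m a)⁻¹
  n_inv : ∀ x ∈ U4, x ≠ 1 → n x⁻¹ = (n x)⁻¹
  m4 : ∀ a ∈ U1, a ≠ 1 → ∀ x ∈ U4, m a * x * (m a)⁻¹ ∈ U2
  m2 : ∀ a ∈ U1, a ≠ 1 → ∀ b ∈ U2, m a * b * (m a)⁻¹ ∈ U4
  m3 : ∀ a ∈ U1, a ≠ 1 → ∀ c ∈ U3, m a * c * (m a)⁻¹ ∈ U3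
  n1 : ∀ x ∈ U4, x ≠ 1 → ∀ a ∈ U1, n x * a * (n x)⁻¹ ∈ U3
  n3 : ∀ x ∈ U4, x ≠ 1 → ∀ c ∈ U3, n x * c * (n x)⁻¹ ∈ U1
  n2 : ∀ x ∈ U4, x ≠ 1 → ∀ b ∈ U2, n x * b * (n x)⁻¹ ∈ U2
  /-- `(m b)⁻¹ * m a` normalises `U1` (hence all four groups). -/
  mm1 : ∀ a ∈ U1, a ≠ 1 → ∀ b ∈ U1, b ≠ 1 → ∀ c ∈ U1,
    ((m b)⁻¹ * m a) * c * ((m b)⁻¹ * m a)⁻¹ ∈ U1
  /-- `(n y)⁻¹ * n x` normalises `U4` (hence all four groups). -/
  nn4 : ∀ x ∈ U4, x ≠ 1 → ∀ y ∈ U4, y ≠ 1 → ∀ z ∈ U4,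
    ((n y)⁻¹ * n x) * z * ((n y)⁻¹ * n x)⁻¹ ∈ U4
  fix3 : ∀ a ∈ U1, a ≠ 1 → ∀ c ∈ U3, (∀ a' ∈ U1, Commute a' c) → m a * c * (m a)⁻¹ = c
  fix2 : ∀ x ∈ U4, x ≠ 1 → ∀ b ∈ U2, (∀ x' ∈ U4, Commute x' b) → n x * b * (n x)⁻¹ = b

theorem κ_inv_inv (u v : G) : (κ u⁻¹ v⁻¹)⁻¹ = κ v u := by unfold κ; group

theorem κ_one_left (v : G) : κ 1 v = 1 := by unfold κ; group

theorem κ_one_right (u : G) : κ u 1 = 1 := by unfold κ; group

theorem κ_eq_one_iff {u v : G} : κ u v = 1 ↔ Commute u v := by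
  unfold κ
  constructor
  · intro h
    have h1 : v * u = u * v := by
      have h2 : u⁻¹ * v * u = v := by
        have := mul_eq_one_iff_eq_inv.1 h
        rw [inv_inv] at this
        exact this
      calc v * u = u * (u⁻¹ * v * u) := by group
        _ = u * v := by rw [h2]
    exact h1.symm
  · intro h
    rw [mul_assoc u⁻¹ v u, h.eq.symm]
    group

theorem κ_conj (g u v : G) : g * κ u v * g⁻¹ = κ (g * u * g⁻¹) (g * v * g⁻¹) := by
  unfold κ; group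

namespace Quad

variable {U1 U2 U3 U4 : Subgroup G} {m n : G → G}

/-- Reversal. -/
theorem rev (h : Quad U1 U2 U3 U4 m n) :
    Quad U4 U3 U2 U1 (fun x => (n x)⁻¹) (fun a => (m a)⁻¹) where
  c12 x hx c hc := (h.c34 c hc x hx).symm
  c23 c hc b hb := (h.c23 b hb c hc).symm
  c34 b hb a ha := (h.c12 a ha b hb).symm
  inf23 c hc hb := h.inf23 c hb hc
  k13 x hx b hb := by
    rw [← κ_inv_inv]
    exact U3.inv_mem (h.k24 _ (U2.inv_mem hb) _ (U4.inv_mem hx))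
  k24 c hc a ha := by
    rw [← κ_inv_inv]
    exact U2.inv_mem (h.k13 _ (U1.inv_mem ha) _ (U3.inv_mem hc))
  k14 x hx hx1 a ha ha1 := by
    have h1 := h.k14 a⁻¹ (U1.inv_mem ha) (inv_ne_one.2 ha1) x⁻¹ (U4.inv_mem hx) (inv_ne_one.2 hx1)
    rw [← κ_inv_inv, h1, h.m_inv a ha ha1, h.n_inv x hx hx1, mul_inv_rev]
    group
  m_inv x hx hx1 := by rw [h.n_inv x hx hx1]
  n_inv a ha ha1 := by rw [h.m_inv a ha ha1]
  m4 x hx hx1 a ha := by
    rw [← h.n_inv x hx hx1]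
    exact h.n1 _ (U4.inv_mem hx) (inv_ne_one.2 hx1) a ha
  m2 x hx hx1 c hc := by
    rw [← h.n_inv x hx hx1]
    exact h.n3 _ (U4.inv_mem hx) (inv_ne_one.2 hx1) c hc
  m3 x hx hx1 b hb := by
    rw [← h.n_inv x hx hx1]
    exact h.n2 _ (U4.inv_mem hx) (inv_ne_one.2 hx1) b hb
  n1 a ha ha1 x hx := by
    rw [← h.m_inv a ha ha1]
    exact h.m4 _ (U1.inv_mem ha) (inv_ne_one.2 ha1) x hx
  n3 a ha ha1 b hb := by
    rw [← h.m_inv a ha ha1]
    exact h.m2 _ (U1.inv_mem ha) (inv_ne_one.2 ha1) b hb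
  n2 a ha ha1 c hc := by
    rw [← h.m_inv a ha ha1]
    exact h.m3 _ (U1.inv_mem ha) (inv_ne_one.2 ha1) c hc
  mm1 x hx hx1 y hy hy1 z hz := by
    rw [← h.n_inv x hx hx1, ← h.n_inv y hy hy1]
    exact h.nn4 _ (U4.inv_mem hx) (inv_ne_one.2 hx1) _ (U4.inv_mem hy) (inv_ne_one.2 hy1) z hz
  nn4 a ha ha1 b hb hb1 c hc := by
    rw [← h.m_inv a ha ha1, ← h.m_inv b hb hb1]
    exact h.mm1 _ (U1.inv_mem ha) (inv_ne_one.2 ha1) _ (U1.inv_mem hb) (inv_ne_one.2 hb1) c hc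
  fix3 x hx hx1 b hb hc := by
    rw [← h.n_inv x hx hx1]
    exact h.fix2 _ (U4.inv_mem hx) (inv_ne_one.2 hx1) b hb hc
  fix2 a ha ha1 c hc hcc := by
    rw [← h.m_inv a ha ha1]
    exact h.fix3 _ (U1.inv_mem ha) (inv_ne_one.2 ha1) c hc hcc

end Quad

/-! ### The maps `Φ` -/

open Classical in
/-- `Φ m a x = m a * x * (m a)⁻¹`, and `1` if `a = 1`. -/
noncomputable def Φ (m : G → G) (a x : G) : G := if a = 1 then 1 else m a * x * (m a)⁻¹

theorem Φ_ne (m : G → G) {a : G} (ha : a ≠ 1) (x : G) : Φ m a x = m a * x * (m a)⁻¹ :=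
  if_neg ha

@[simp] theorem Φ_one_left (m : G → G) (x : G) : Φ m 1 x = 1 := if_pos rfl

@[simp] theorem Φ_one_right (m : G → G) (a : G) : Φ m a 1 = 1 := by
  by_cases h : a = 1
  · rw [h, Φ_one_left]
  · rw [Φ_ne m h]; group

theorem Φ_mul (m : G → G) (a x y : G) : Φ m a (x * y) = Φ m a x * Φ m a y := by
  by_cases h : a = 1
  · simp [h]
  · simp only [Φ_ne m h]; group

theorem Φ_inv (m : G → G) (a x : G) : Φ m a x⁻¹ = (Φ m a x)⁻¹ := by
  by_cases h : a = 1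
  · simp [h]
  · simp only [Φ_ne m h]; group

theorem Φ_inj (m : G → G) {a : G} (ha : a ≠ 1) {x y : G} (h : Φ m a x = Φ m a y) : x = y := by
  rw [Φ_ne m ha, Φ_ne m ha] at h
  exact mul_left_cancel (mul_right_cancel h)

/-- Conjugation by `g` maps each of the four groups into itself. -/
structure Nrm (U1 U2 U3 U4 : Subgroup G) (g : G) : Prop where
  u1 : ∀ a ∈ U1, g * a * g⁻¹ ∈ U1
  u2 : ∀ b ∈ U2, g * b * g⁻¹ ∈ U2
  u3 : ∀ c ∈ U3, g * c * g⁻¹ ∈ U3
  u4 : ∀ x ∈ U4, g * x * g⁻¹ ∈ U4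

theorem Nrm.rev {U1 U2 U3 U4 : Subgroup G} {g : G} (h : Nrm U1 U2 U3 U4 g) :
    Nrm U4 U3 U2 U1 g := ⟨h.u4, h.u3, h.u2, h.u1⟩

namespace Quad

variable {U1 U2 U3 U4 : Subgroup G} {m n : G → G} (h : Quad U1 U2 U3 U4 m n)
include h

theorem Φ_mem {a : G} (ha : a ∈ U1) {x : G} (hx : x ∈ U4) : Φ m a x ∈ U2 := by
  by_cases h1 : a = 1
  · rw [h1, Φ_one_left]; exact U2.one_mem
  · rw [Φ_ne m h1]; exact h.m4 a ha h1 x hx

theorem Ψ_mem {x : G} (hx : x ∈ U4) {a : G} (ha : a ∈ U1) : Φ n x a ∈ U3 := by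
  by_cases h1 : x = 1
  · rw [h1, Φ_one_left]; exact U3.one_mem
  · rw [Φ_ne n h1]; exact h.n1 x hx h1 a ha

theorem Φ_surj {a : G} (ha : a ∈ U1) (h1 : a ≠ 1) {b : G} (hb : b ∈ U2) :
    ∃ x ∈ U4, Φ m a x = b := by
  refine ⟨(m a)⁻¹ * b * m a, ?_, ?_⟩
  · have := h.m2 a⁻¹ (U1.inv_mem ha) (inv_ne_one.2 h1) b hb
    rwa [h.m_inv a ha h1, inv_inv] at this
  · rw [Φ_ne m h1]; group

theorem Ψ_surj {x : G} (hx : x ∈ U4) (h1 : x ≠ 1) {c : G} (hc : c ∈ U3) :
    ∃ a ∈ U1, Φ n x a = c := by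
  refine ⟨(n x)⁻¹ * c * n x, ?_, ?_⟩
  · have := h.n3 x⁻¹ (U4.inv_mem hx) (inv_ne_one.2 h1) c hc
    rwa [h.n_inv x hx h1, inv_inv] at this
  · rw [Φ_ne n h1]; group

/-- The commutator of `U1` and `U4`, without exceptions. -/
theorem k {a : G} (ha : a ∈ U1) {x : G} (hx : x ∈ U4) : κ a x = Φ m a x * Φ n x a := by
  by_cases ha1 : a = 1
  · rw [ha1, κ_one_left, Φ_one_left, Φ_one_right, one_mul]
  by_cases hx1 : x = 1
  · rw [hx1, κ_one_right, Φ_one_left, Φ_one_right, one_mul]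
  rw [Φ_ne m ha1, Φ_ne n hx1]
  exact h.k14 a ha ha1 x hx hx1

/-- Uniqueness of the decomposition in `U2 U3`. -/
theorem uniq {b b' c c' : G} (hb : b ∈ U2) (hb' : b' ∈ U2) (hc : c ∈ U3) (hc' : c' ∈ U3)
    (e : b * c = b' * c') : b = b' ∧ c = c' := by
  have h1 : b'⁻¹ * b = c' * c⁻¹ := by
    calc b'⁻¹ * b = b'⁻¹ * (b * c) * c⁻¹ := by group
      _ = c' * c⁻¹ := by rw [e]; group
  have h2 : b'⁻¹ * b = 1 :=
    h.inf23 _ (U2.mul_mem (U2.inv_mem hb') hb) (h1 ▸ U3.mul_mem hc' (U3.inv_mem hc))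
  have h3 : b = b' := (inv_mul_eq_one.1 h2).symm
  subst h3
  exact ⟨rfl, mul_left_cancel e⟩

/-! ### `κ` on `U1 × U3` and `U2 × U4` -/

theorem κ13_comm2 {a c b : G} (ha : a ∈ U1) (hc : c ∈ U3) (hb : b ∈ U2) : Commute (κ a c) b := by
  have h1 := h.c12 a ha b hb
  have h2 := (h.c23 b hb c hc).symm
  unfold κ
  exact ((h1.inv_left.mul_left h2).mul_left h1).mul_left h2.inv_left

theorem κ13_comm1 {a c a' : G} (ha : a ∈ U1) (hc : c ∈ U3) (ha' : a' ∈ U1) :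
    Commute (κ a c) a' := (h.c12 a' ha' _ (h.k13 a ha c hc)).symm

theorem κ13_comm3 {a c c' : G} (ha : a ∈ U1) (hc : c ∈ U3) (hc' : c' ∈ U3) :
    Commute (κ a c) c' := h.c23 _ (h.k13 a ha c hc) c' hc'

theorem κ13_mul_left {a a' c : G} (ha : a ∈ U1) (ha' : a' ∈ U1) (hc : c ∈ U3) :
    κ (a * a') c = κ a c * κ a' c := by
  have h1 : κ (a * a') c = a'⁻¹ * κ a c * a' * κ a' c := by unfold κ; group
  have h2 : a'⁻¹ * κ a c * a' = κ a c := by
    rw [mul_assoc, (h.κ13_comm1 ha hc ha').eq]; group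
  rw [h1, h2]

theorem κ24_mul_left {b b' x : G} (hb : b ∈ U2) (hb' : b' ∈ U2) (hx : x ∈ U4) :
    κ (b * b') x = κ b x * κ b' x := by
  have h1 : κ (b * b') x = b'⁻¹ * κ b x * b' * κ b' x := by unfold κ; group
  have h2 : b'⁻¹ * κ b x * b' = κ b x := by
    rw [mul_assoc, ((h.c23 b' hb' _ (h.k24 b hb x hx)).symm).eq]; group
  rw [h1, h2]

theorem κ24_mul_right {b x x' : G} (hb : b ∈ U2) (hx : x ∈ U4) (hx' : x' ∈ U4) :
    κ b (x * x') = κ b x * κ b x' := by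
  have h1 : κ b (x * x') = κ b x * (x * κ b x' * x⁻¹) := by unfold κ; group
  have h2 : x * κ b x' * x⁻¹ = κ b x' := by
    rw [((h.c34 _ (h.k24 b hb x' hx') x hx)).eq.symm]; group
  rw [h1, h2]

/-! ### The two expansion formulas -/

/-- `(*)` -/
theorem star {a b x : G} (ha : a ∈ U1) (hb : b ∈ U1) (hx : x ∈ U4) :
    Φ m (a * b) x = Φ m a x * κ b (Φ n x a) * Φ m b x := by
  have hab := U1.mul_mem ha hb
  have e1 : κ (a * b) x = b⁻¹ * κ a x * b * κ b x := by unfold κ; group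
  rw [h.k hab hx, h.k ha hx, h.k hb hx] at e1
  have c1 : Commute b (Φ m a x) := h.c12 b hb _ (h.Φ_mem ha hx)
  have c2 : Commute (Φ n x a) (Φ m b x) := (h.c23 _ (h.Φ_mem hb hx) _ (h.Ψ_mem hx ha)).symm
  have e2 : b⁻¹ * (Φ m a x * Φ n x a) * b * (Φ m b x * Φ n x b) =
      (Φ m a x * κ b (Φ n x a) * Φ m b x) * (Φ n x (a * b)) := by
    rw [Φ_mul]
    calc b⁻¹ * (Φ m a x * Φ n x a) * b * (Φ m b x * Φ n x b)
        = (b⁻¹ * Φ m a x * b) * (κ b (Φ n x a)) * (Φ n x a * Φ m b x) * Φ n x b := by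
          unfold κ; group
      _ = Φ m a x * κ b (Φ n x a) * Φ m b x * (Φ n x a * Φ n x b) := by
          rw [c2.eq, show b⁻¹ * Φ m a x * b = Φ m a x by rw [mul_assoc, c1.eq.symm]; group]
          group
  rw [e2] at e1
  exact (h.uniq (h.Φ_mem hab hx)
    (U2.mul_mem (U2.mul_mem (h.Φ_mem ha hx) (h.k13 b hb _ (h.Ψ_mem hx ha))) (h.Φ_mem hb hx))
    (h.Ψ_mem hx hab) (h.Ψ_mem hx hab) e1).1

/-- `(**)` -/
theorem star' {a x y : G} (ha : a ∈ U1) (hx : x ∈ U4) (hy : y ∈ U4) :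
    Φ n (x * y) a = Φ n x a * κ (Φ m a y) x * Φ n y a := by
  have hxy := U4.mul_mem hx hy
  have e1 : κ a (x * y) = κ a x * (x * κ a y * x⁻¹) := by unfold κ; group
  rw [h.k ha hxy, h.k ha hx, h.k ha hy] at e1
  have c1 : Commute (Φ n y a) x := h.c34 _ (h.Ψ_mem hy ha) x hx
  have c2 : Commute (Φ m a y) (Φ n x a) := h.c23 _ (h.Φ_mem ha hy) _ (h.Ψ_mem hx ha)
  have e2 : (Φ m a x * Φ n x a) * (x * (Φ m a y * Φ n y a) * x⁻¹) =
      Φ m a (x * y) * (Φ n x a * κ (Φ m a y) x * Φ n y a) := by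
    rw [Φ_mul]
    calc (Φ m a x * Φ n x a) * (x * (Φ m a y * Φ n y a) * x⁻¹)
        = Φ m a x * (Φ n x a * Φ m a y) * κ (Φ m a y) x * (x * Φ n y a * x⁻¹) := by
          unfold κ; group
      _ = Φ m a x * Φ m a y * (Φ n x a * κ (Φ m a y) x * Φ n y a) := by
          rw [c2.eq.symm, c1.eq.symm]; group
  rw [e2] at e1
  exact (h.uniq (h.Φ_mem ha hxy) (h.Φ_mem ha hxy) (h.Ψ_mem hxy ha)
    (U3.mul_mem (U3.mul_mem (h.Ψ_mem hx ha) (h.k24 _ (h.Φ_mem ha hy) x hx)) (h.Ψ_mem hy ha))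
    e1).2

/-! ### Equivariance -/

theorem equiv {g : G} (hg : Nrm U1 U2 U3 U4 g) {a x : G} (ha : a ∈ U1) (hx : x ∈ U4) :
    Φ m (g * a * g⁻¹) (g * x * g⁻¹) = g * Φ m a x * g⁻¹ ∧
      Φ n (g * x * g⁻¹) (g * a * g⁻¹) = g * Φ n x a * g⁻¹ := by
  have e := κ_conj g a x
  rw [h.k ha hx, h.k (hg.u1 a ha) (hg.u4 x hx)] at e
  have e' : g * (Φ m a x * Φ n x a) * g⁻¹ = (g * Φ m a x * g⁻¹) * (g * Φ n x a * g⁻¹) := by group
  rw [e'] at e
  have := h.uniq (hg.u2 _ (h.Φ_mem ha hx)) (h.Φ_mem (hg.u1 a ha) (hg.u4 x hx))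
    (hg.u3 _ (h.Ψ_mem hx ha)) (h.Ψ_mem (hg.u4 x hx) (hg.u1 a ha)) e
  exact ⟨this.1.symm, this.2.symm⟩

theorem nrm_m {a b : G} (ha : a ∈ U1) (ha1 : a ≠ 1) (hb : b ∈ U1) (hb1 : b ≠ 1) :
    Nrm U1 U2 U3 U4 ((m b)⁻¹ * m a) where
  u1 c hc := h.mm1 a ha ha1 b hb hb1 c hc
  u2 y hy := by
    have h1 := h.m4 b⁻¹ (U1.inv_mem hb) (inv_ne_one.2 hb1) _ (h.m2 a ha ha1 y hy)
    rw [h.m_inv b hb hb1] at h1
    convert h1 using 1; group
  u3 y hy := by
    have h1 := h.m3 b⁻¹ (U1.inv_mem hb) (inv_ne_one.2 hb1) _ (h.m3 a ha ha1 y hy)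
    rw [h.m_inv b hb hb1] at h1
    convert h1 using 1; group
  u4 y hy := by
    have h1 := h.m2 b⁻¹ (U1.inv_mem hb) (inv_ne_one.2 hb1) _ (h.m4 a ha ha1 y hy)
    rw [h.m_inv b hb hb1] at h1
    convert h1 using 1; group

theorem nrm_n {x y : G} (hx : x ∈ U4) (hx1 : x ≠ 1) (hy : y ∈ U4) (hy1 : y ≠ 1) :
    Nrm U1 U2 U3 U4 ((n y)⁻¹ * n x) where
  u4 c hc := h.nn4 x hx hx1 y hy hy1 c hc
  u2 b hb := by
    have h1 := h.n2 y⁻¹ (U4.inv_mem hy) (inv_ne_one.2 hy1) _ (h.n2 x hx hx1 b hb)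
    rw [h.n_inv y hy hy1] at h1
    convert h1 using 1; group
  u3 b hb := by
    have h1 := h.n1 y⁻¹ (U4.inv_mem hy) (inv_ne_one.2 hy1) _ (h.n3 x hx hx1 b hb)
    rw [h.n_inv y hy hy1] at h1
    convert h1 using 1; group
  u1 b hb := by
    have h1 := h.n3 y⁻¹ (U4.inv_mem hy) (inv_ne_one.2 hy1) _ (h.n1 x hx hx1 b hb)
    rw [h.n_inv y hy hy1] at h1
    convert h1 using 1; group

omit h in
/-- the action of `(m b)⁻¹ * m a` on `U4` -/
theorem Φ_nrm_m (m : G → G) {a b : G} (ha1 : a ≠ 1) (hb1 : b ≠ 1) (x : G) :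
    Φ m b (((m b)⁻¹ * m a) * x * ((m b)⁻¹ * m a)⁻¹) = Φ m a x := by
  rw [Φ_ne m hb1, Φ_ne m ha1]; group

/-- the action of `(m b)⁻¹ * m a` on `U2` -/
theorem nrm_m_Φ {a b : G} (ha : a ∈ U1) (ha1 : a ≠ 1) (hb : b ∈ U1) (hb1 : b ≠ 1) (x : G) :
    ((m b)⁻¹ * m a) * Φ m a⁻¹ x * ((m b)⁻¹ * m a)⁻¹ = Φ m b⁻¹ x := by
  rw [Φ_ne m (inv_ne_one.2 hb1), Φ_ne m (inv_ne_one.2 ha1), h.m_inv a ha ha1, h.m_inv b hb hb1]
  group

/-- the action of `(n y)⁻¹ * n x` on `U3` -/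
theorem nrm_n_Ψ {x y : G} (hx : x ∈ U4) (hx1 : x ≠ 1) (hy : y ∈ U4) (hy1 : y ≠ 1) (a : G) :
    ((n y)⁻¹ * n x) * Φ n x⁻¹ a * ((n y)⁻¹ * n x)⁻¹ = Φ n y⁻¹ a := by
  rw [Φ_ne n (inv_ne_one.2 hx1), Φ_ne n (inv_ne_one.2 hy1), h.n_inv x hx hx1, h.n_inv y hy hy1]
  group

/-! ### Abelian root groups -/

/-- If a nontrivial element of `U1` centralises `U3` then `U2` is abelian. -/
theorem comm2_of_Y1 {a : G} (ha : a ∈ U1) (ha1 : a ≠ 1) (hc : ∀ c ∈ U3, Commute a c) :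
    ∀ b ∈ U2, ∀ b' ∈ U2, Commute b b' := by
  have hsq : ∀ x ∈ U4, Φ m (a * a) x = Φ m a x * Φ m a x := by
    intro x hx
    rw [h.star ha ha hx, κ_eq_one_iff.2 (hc _ (h.Ψ_mem hx ha)), mul_one]
  intro b hb b' hb'
  obtain ⟨x, hx, rfl⟩ := h.Φ_surj ha ha1 hb
  obtain ⟨y, hy, rfl⟩ := h.Φ_surj ha ha1 hb'
  have e := Φ_mul m (a * a) x y
  rw [hsq _ (U4.mul_mem hx hy), hsq x hx, hsq y hy, Φ_mul] at e
  have e2 : Φ m a y * Φ m a x = Φ m a x * Φ m a y := by
    have : Φ m a x * (Φ m a y * Φ m a x) * Φ m a y = Φ m a x * (Φ m a x * Φ m a y) * Φ m a y := by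
      calc Φ m a x * (Φ m a y * Φ m a x) * Φ m a y
          = Φ m a x * Φ m a y * (Φ m a x * Φ m a y) := by group
        _ = Φ m a x * Φ m a x * (Φ m a y * Φ m a y) := e
        _ = Φ m a x * (Φ m a x * Φ m a y) * Φ m a y := by group
    exact mul_left_cancel (mul_right_cancel this)
  exact e2.symm

/-- If `U2` is abelian then `U4` is abelian. -/
theorem comm4_of_comm2 {a : G} (ha : a ∈ U1) (ha1 : a ≠ 1)
    (hc : ∀ b ∈ U2, ∀ b' ∈ U2, Commute b b') : ∀ x ∈ U4, ∀ y ∈ U4, Commute x y := by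
  intro x hx y hy
  have := (hc _ (h.Φ_mem ha hx) _ (h.Φ_mem ha hy)).eq
  rw [← Φ_mul, ← Φ_mul] at this
  exact Φ_inj m ha1 this

/-- Commutators of `U1` centralise `U3`. -/
theorem comm1_mem_Y1 {a b c : G} (ha : a ∈ U1) (hb : b ∈ U1) (hc : c ∈ U3) :
    Commute (a⁻¹ * b⁻¹ * a * b) c := by
  rw [← κ_eq_one_iff]
  have ha' := U1.inv_mem ha
  have hb' := U1.inv_mem hb
  rw [h.κ13_mul_left (U1.mul_mem (U1.mul_mem ha' hb') ha) hb hc,
    h.κ13_mul_left (U1.mul_mem ha' hb') ha hc, h.κ13_mul_left ha' hb' hc]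
  have hcomm : Commute (κ b⁻¹ c) (κ a c) := h.κ13_comm2 hb' hc (h.k13 a ha c hc)
  calc κ a⁻¹ c * κ b⁻¹ c * κ a c * κ b c
      = κ a⁻¹ c * (κ b⁻¹ c * κ a c) * κ b c := by group
    _ = (κ a⁻¹ c * κ a c) * (κ b⁻¹ c * κ b c) := by rw [hcomm.eq]; group
    _ = 1 := by
      rw [← h.κ13_mul_left ha' ha hc, ← h.κ13_mul_left hb' hb hc, inv_mul_cancel, inv_mul_cancel,
        κ_one_left, one_mul]

/-- Hall-Witt: if `U3` is abelian, then `[U1, U3]` centralises `U4`. -/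
theorem hall_witt (hc3 : ∀ c ∈ U3, ∀ c' ∈ U3, Commute c c') {a c x : G} (ha : a ∈ U1)
    (hc : c ∈ U3) (hx : x ∈ U4) : Commute (κ a c) x := by
  have e := κ_conj x a c
  have e1 : x * c * x⁻¹ = c := by rw [(h.c34 c hc x hx).eq.symm]; group
  obtain ⟨b, hb, d, hd, hbd⟩ : ∃ b ∈ U2, ∃ d ∈ U3, x * a * x⁻¹ = a * (b * d) :=
    ⟨_, h.Φ_mem ha hx, _, h.Ψ_mem hx ha, by rw [← h.k ha hx]; unfold κ; group⟩
  have e2 : κ (a * (b * d)) c = κ a c := by
    have h1 : κ (a * (b * d)) c = d⁻¹ * (b⁻¹ * (κ a c * c) * b) * d * c⁻¹ := by unfold κ; group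
    have c1 : Commute (κ a c * c) b := (h.κ13_comm2 ha hc hb).mul_left (h.c23 b hb c hc).symm
    have c2 : Commute (κ a c * c) d := (h.κ13_comm3 ha hc hd).mul_left (hc3 c hc d hd)
    rw [h1, mul_assoc b⁻¹, c1.eq, inv_mul_cancel_left, mul_assoc d⁻¹, c2.eq, inv_mul_cancel_left]
    group
  rw [e1, hbd, e2] at e
  have : x * κ a c = κ a c * x := by
    calc x * κ a c = (x * κ a c * x⁻¹) * x := by group
      _ = κ a c * x := by rw [e]
  exact this.symm

end Quad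

end Cfsg.Agent.SplitTwo.QuadBase
end

-- part: SplitTwo/QuadField
section
/-!
# The field of a Moufang quadrangle

`exists_field_of_maps`: additive families of bijections closed under `b a⁻¹ b` come from a field.
-/

set_option autoImplicit false

universe u

namespace Cfsg.Agent.SplitTwo.QuadField

open Cfsg.Agent.TitsThree.FieldSet

/-- Additive families of bijections `X → W` closed under `(a, b) ↦ b a⁻¹ b` come from a field. -/
theorem exists_field_of_maps {A : Type*} [Group A] {X : Type u} {W : Type*} [AddCommGroup X]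
    [AddCommGroup W] [Finite X] [Nontrivial X] (Θ : A → (X →+ W))
    (hmul : ∀ a b, Θ (a * b) = Θ a + Θ b) (hbij : ∀ a, a ≠ 1 → Function.Bijective (Θ a))
    (e : A) (he : e ≠ 1)
    (hinv : ∀ a, a ≠ 1 → ∃ d, ∀ v w, Θ a v = Θ e w → Θ d w = Θ e v) :
    ∃ (F : Type u) (_ : Field F) (_ : Module F X) (ι : A → F), Finite F ∧
      Function.Bijective ι ∧ (∀ a b, ι (a * b) = ι a + ι b) ∧ ι e = 1 ∧
      ∀ a v, Θ a v = Θ e (ι a • v) := by
  classical
  have h1 : Θ 1 = 0 := by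
    have := hmul 1 1
    rw [mul_one] at this
    simpa using this
  have hneg : ∀ a, Θ a⁻¹ = -Θ a := by
    intro a
    have := hmul a⁻¹ a
    rw [inv_mul_cancel, h1] at this
    exact (neg_eq_of_add_eq_zero_left this.symm).symm
  let E : X ≃+ W := AddEquiv.ofBijective (Θ e) (hbij e he)
  have hE : ∀ v, E v = Θ e v := fun v => rfl
  let L : A → AddMonoid.End X := fun a => (E.symm : W →+ X).comp (Θ a)
  have hL : ∀ a v, Θ e (L a v) = Θ a v := by
    intro a v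
    rw [← hE]
    exact E.apply_symm_apply _
  have hLmul : ∀ a b, L (a * b) = L a + L b := by
    intro a b
    ext v
    apply (hbij e he).1
    change _ = Θ e (L a v + L b v)
    rw [hL, map_add, hL, hL, hmul]
    rfl
  have hLe : L e = 1 := by
    ext v
    apply (hbij e he).1
    rw [hL]; rfl
  have hL1 : L 1 = 0 := by
    ext v
    apply (hbij e he).1
    rw [hL, h1]; simp
  have hLinj : Function.Injective L := by
    intro a b hab
    by_contra hne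
    have hne' : a * b⁻¹ ≠ 1 := fun h => hne (mul_inv_eq_one.1 h)
    obtain ⟨v, hv⟩ := exists_ne (0 : X)
    apply hv
    apply (hbij _ hne').1
    rw [hmul, hneg, map_zero]
    have e1 : Θ a v = Θ b v := by rw [← hL a, ← hL b, hab]
    simp [e1]
  let S : AddSubgroup (AddMonoid.End X) :=
    { carrier := Set.range L
      zero_mem' := ⟨1, hL1⟩
      add_mem' := by
        rintro _ _ ⟨a, rfl⟩ ⟨b, rfl⟩
        exact ⟨a * b, hLmul a b⟩
      neg_mem' := by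
        rintro _ ⟨a, rfl⟩
        refine ⟨a⁻¹, ?_⟩
        ext v
        apply (hbij e he).1
        change _ = Θ e (-L a v)
        rw [hL, hneg, AddMonoidHom.neg_apply, map_neg, hL] }
  have hS : DivSet S :=
    { one_mem := ⟨e, hLe⟩
      inv := by
        rintro _ ⟨a, rfl⟩ ha0
        have ha1 : a ≠ 1 := by
          rintro rfl; exact ha0 hL1
        obtain ⟨d, hd⟩ := hinv a ha1
        refine ⟨L d, ⟨d, rfl⟩, ?_, ?_⟩
        · ext w
          obtain ⟨v, hv⟩ := (hbij a ha1).2 (Θ e w)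
          have h2 := hd v w hv
          have h3 : L d w = v := by
            apply (hbij e he).1
            rw [hL, h2]
          apply (hbij e he).1
          change Θ e (L a (L d w)) = Θ e w
          rw [h3, hL, hv]
        · ext v
          have h2 := hd v (L a v) (hL a v).symm
          apply (hbij e he).1
          change Θ e (L d (L a v)) = Θ e v
          rw [hL, h2] }
  haveI : Finite (AddMonoid.End X) :=
    Finite.of_injective (fun f : AddMonoid.End X => (f : X → X)) (fun f g hfg =>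
      AddMonoidHom.ext (fun x => congrFun hfg x))
  haveI : Nontrivial (AddMonoid.End X) := by
    obtain ⟨v, hv⟩ := exists_ne (0 : X)
    exact ⟨⟨0, 1, fun h01 => hv (by
      have := congrArg (fun f : AddMonoid.End X => f v) h01
      exact this.symm)⟩⟩
  refine ⟨hS.subring, hS.field, inferInstance, fun a => ⟨L a, ⟨a, rfl⟩⟩, inferInstance,
    ⟨fun a b hab => hLinj (congrArg Subtype.val hab), ?_⟩, ?_, ?_, ?_⟩
  · rintro ⟨_, ⟨a, rfl⟩⟩
    exact ⟨a, rfl⟩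
  · intro a b
    exact Subtype.ext (hLmul a b)
  · exact Subtype.ext hLe
  · intro a v
    exact (hL a v).symm

/-! ### Abelian quotients, with maps defined on the whole group -/

/-- An abelian quotient `U / Z` as an additive group, with a class map on the whole group. -/
theorem exists_quot {G : Type u} [Group G] [Finite G] (U Z : Subgroup G) (hle : Z ≤ U)
    (hc : ∀ x ∈ U, ∀ y ∈ U, x⁻¹ * y⁻¹ * x * y ∈ Z) :
    ∃ (X : Type u) (_ : AddCommGroup X) (cl : G → X), Finite X ∧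
      (∀ x ∈ U, ∀ y ∈ U, cl (x * y) = cl x + cl y) ∧ (∀ x ∈ U, cl x = 0 ↔ x ∈ Z) ∧
      ∀ v, ∃ x ∈ U, cl x = v := by
  classical
  let N : Subgroup U := Z.subgroupOf U
  have hN : N.Normal := by
    refine ⟨fun z hz g => ?_⟩
    rw [Subgroup.mem_subgroupOf] at hz ⊢
    have h1 := hc _ (U.inv_mem g.2) _ z.2
    have h2 := Z.mul_mem hz h1
    have e : (z : G) * (((g : G)⁻¹)⁻¹ * (z : G)⁻¹ * (g : G)⁻¹ * z) = z * (g * (z : G)⁻¹ * (g : G)⁻¹ * z) := by
      group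
    have h3 := Z.inv_mem (Z.mul_mem h1 (Z.inv_mem hz))
    have e3 : (((g : G)⁻¹)⁻¹ * (z : G)⁻¹ * (g : G)⁻¹ * z * (z : G)⁻¹)⁻¹ = g * z * (g : G)⁻¹ := by
      group
    rw [e3] at h3
    simpa using h3
  let Qc : CommGroup (U ⧸ N) :=
    { QuotientGroup.Quotient.group N with
      mul_comm := by
        intro x y
        induction x using QuotientGroup.induction_on with | H x => ?_
        induction y using QuotientGroup.induction_on with | H y => ?_
        change ((x * y : U) : U ⧸ N) = ((y * x : U) : U ⧸ N)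
        rw [QuotientGroup.eq, Subgroup.mem_subgroupOf]
        have h1 := hc _ y.2 _ x.2
        have e : (((x * y)⁻¹ * (y * x) : U) : G) = (y : G)⁻¹ * (x : G)⁻¹ * y * x := by
          push_cast; group
        rw [e]; exact h1 }
  refine ⟨Additive (U ⧸ N), @Additive.addCommGroup _ Qc,
    fun g => if hg : g ∈ U then Additive.ofMul ((⟨g, hg⟩ : U) : U ⧸ N) else 0, ?_, ?_, ?_, ?_⟩
  · exact inferInstanceAs (Finite (U ⧸ N))
  · intro x hx y hy
    simp only [dif_pos hx, dif_pos hy, dif_pos (U.mul_mem hx hy)]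
    rfl
  · intro x hx
    simp only [dif_pos hx]
    have : (Additive.ofMul (((⟨x, hx⟩ : U) : U ⧸ N)) = (0 : Additive (U ⧸ N))) ↔
        (((⟨x, hx⟩ : U) : U ⧸ N) = 1) := Iff.rfl
    rw [this, QuotientGroup.eq_one_iff, Subgroup.mem_subgroupOf]
  · intro v
    obtain ⟨w, rfl⟩ := Additive.ofMul.surjective v
    induction w using QuotientGroup.induction_on with | H w => ?_
    exact ⟨w, w.2, by simp⟩

end Cfsg.Agent.SplitTwo.QuadField
end
end

-- part: SplitTwo/QuadCoord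
section
prune_inst 0x20100000682212000018000600000020000000020000000020000400004b9020a90520000200080008100c502000000001100000022800000e00080000050100002800020000010002009e000000000000000000000000000000000000041000000000000
set_option linter.all false
open scoped Cfsg.Agent.FastGrp

/-!
# Coordinates for a Moufang quadrangle: the field `K = U1`

A layer `(Z2, Z4)` (either `(1, 1)` or the centralisers `(Y2, Y4)`) makes `U4 / Z4` a vector space
over a field `K` with `ι : U1 ≃ K`, and elements normalising `U1, …, U4` act semilinearly.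
-/

set_option autoImplicit false

universe u

namespace Cfsg.Agent.SplitTwo.QuadCoord

open Cfsg.Agent.SplitTwo.QuadBase Cfsg.Agent.SplitTwo.QuadField

variable {G : Type u} [Group G]

/-- A layer. -/
structure Lay (U1 U2 U3 U4 Z2 Z4 : Subgroup G) (m : G → G) : Prop where
  le2 : Z2 ≤ U2
  le4 : Z4 ≤ U4
  Φ_iff : ∀ a ∈ U1, a ≠ 1 → ∀ x ∈ U4, (Φ m a x ∈ Z2 ↔ x ∈ Z4)
  v2 : ∀ a ∈ U1, ∀ c ∈ U3, κ a c ∈ Z2
  c4 : ∀ x ∈ U4, ∀ y ∈ U4, x⁻¹ * y⁻¹ * x * y ∈ Z4
  ne : ∃ x ∈ U4, x ∉ Z4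
  nrm4 : ∀ g, Nrm U1 U2 U3 U4 g → ∀ z ∈ Z4, g * z * g⁻¹ ∈ Z4
  nrm2 : ∀ g, Nrm U1 U2 U3 U4 g → ∀ z ∈ Z2, g * z * g⁻¹ ∈ Z2

/-- `a * x = Φ_{e}⁻¹ (Φ_a x)` -/
noncomputable def st (m : G → G) (e a x : G) : G := (m e)⁻¹ * Φ m a x * m e

theorem Φ_st (m : G → G) {e : G} (he : e ≠ 1) (a x : G) : Φ m e (st m e a x) = Φ m a x := by
  rw [Φ_ne m he]; unfold st; group

@[simp] theorem st_one_left (m : G → G) (e x : G) : st m e 1 x = 1 := by
  unfold st; rw [Φ_one_left]; group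

@[simp] theorem st_one_right (m : G → G) (e a : G) : st m e a 1 = 1 := by
  unfold st; rw [Φ_one_right]; group

theorem st_mul (m : G → G) (e a x y : G) : st m e a (x * y) = st m e a x * st m e a y := by
  unfold st; rw [Φ_mul]; group

theorem st_self (m : G → G) {e : G} (he : e ≠ 1) (x : G) : st m e e x = x := by
  unfold st; rw [Φ_ne m he]; group

theorem st_eq_nrm (m : G → G) {e a : G} (ha : a ≠ 1) (x : G) :
    st m e a x = ((m e)⁻¹ * m a) * x * ((m e)⁻¹ * m a)⁻¹ := by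
  unfold st; rw [Φ_ne m ha]; group

variable {U1 U2 U3 U4 Z2 Z4 : Subgroup G} {m n : G → G}

theorem _root_.Cfsg.Agent.SplitTwo.QuadBase.Quad.st_mem (h : Quad U1 U2 U3 U4 m n) {e a x : G}
    (he : e ∈ U1) (he1 : e ≠ 1) (ha : a ∈ U1) (hx : x ∈ U4) : st m e a x ∈ U4 := by
  have := h.m2 e⁻¹ (U1.inv_mem he) (inv_ne_one.2 he1) _ (h.Φ_mem ha hx)
  rwa [h.m_inv e he he1, inv_inv] at this

theorem coord [Finite G] (h : Quad U1 U2 U3 U4 m n) (L : Lay U1 U2 U3 U4 Z2 Z4 m) {e : G}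
    (he : e ∈ U1) (he1 : e ≠ 1) :
    ∃ (K : Type u) (_ : Field K) (ι : G → K), Finite K ∧
      (∀ a ∈ U1, ∀ b ∈ U1, ι (a * b) = ι a + ι b) ∧
      (∀ a ∈ U1, ∀ b ∈ U1, ι a = ι b → a = b) ∧ (∀ k, ∃ a ∈ U1, ι a = k) ∧ ι e = 1 ∧
      (∀ a ∈ U1, ∀ b ∈ U1, ∀ c ∈ U1, ι c = ι a * ι b → ∀ x ∈ U4,
        (st m e c x)⁻¹ * (st m e a (st m e b x)) ∈ Z4) ∧
      (∀ g, Nrm U1 U2 U3 U4 g → ∃ s : K →+* K, ∀ a ∈ U1,
        ι (g * a * g⁻¹) = ι (g * e * g⁻¹) * s (ι a)) ∧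
      (∀ a ∈ U1, a ≠ 1 → ∀ b ∈ U1, b ≠ 1 → ∀ c ∈ U1,
        ι (((m b)⁻¹ * m a) * c * ((m b)⁻¹ * m a)⁻¹) * ι a ^ 2 = ι b ^ 2 * ι c) := by
  classical
  have c2 : ∀ b ∈ U2, ∀ b' ∈ U2, b⁻¹ * b'⁻¹ * b * b' ∈ Z2 := by
    intro b hb b' hb'
    obtain ⟨x, hx, rfl⟩ := h.Φ_surj he he1 hb
    obtain ⟨y, hy, rfl⟩ := h.Φ_surj he he1 hb'
    rw [← Φ_inv, ← Φ_inv, ← Φ_mul, ← Φ_mul, ← Φ_mul]
    refine (L.Φ_iff e he he1 _ ?_).2 (L.c4 x hx y hy)
    exact U4.mul_mem (U4.mul_mem (U4.mul_mem (U4.inv_mem hx) (U4.inv_mem hy)) hx) hy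
  obtain ⟨X, _, cl4, hXf, cl4_mul, cl4_zero, cl4_surj⟩ := exists_quot U4 Z4 L.le4 L.c4
  obtain ⟨W, _, cl2, hWf, cl2_mul, cl2_zero, cl2_surj⟩ := exists_quot U2 Z2 L.le2 c2
  have cl4_one : cl4 1 = 0 := (cl4_zero 1 U4.one_mem).2 Z4.one_mem
  have cl2_one : cl2 1 = 0 := (cl2_zero 1 U2.one_mem).2 Z2.one_mem
  have cl4_inv : ∀ x ∈ U4, cl4 x⁻¹ = -cl4 x := by
    intro x hx
    have := cl4_mul x⁻¹ (U4.inv_mem hx) x hx
    rw [inv_mul_cancel, cl4_one] at this
    exact (neg_eq_of_add_eq_zero_left this.symm).symm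
  have cl2_inv : ∀ x ∈ U2, cl2 x⁻¹ = -cl2 x := by
    intro x hx
    have := cl2_mul x⁻¹ (U2.inv_mem hx) x hx
    rw [inv_mul_cancel, cl2_one] at this
    exact (neg_eq_of_add_eq_zero_left this.symm).symm
  have cl4_eq : ∀ x ∈ U4, ∀ y ∈ U4, cl4 x = cl4 y ↔ x⁻¹ * y ∈ Z4 := by
    intro x hx y hy
    rw [← cl4_zero _ (U4.mul_mem (U4.inv_mem hx) hy), cl4_mul _ (U4.inv_mem hx) _ hy,
      cl4_inv x hx, neg_add_eq_zero]
  have cl2_eq : ∀ x ∈ U2, ∀ y ∈ U2, cl2 x = cl2 y ↔ x⁻¹ * y ∈ Z2 := by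
    intro x hx y hy
    rw [← cl2_zero _ (U2.mul_mem (U2.inv_mem hx) hy), cl2_mul _ (U2.inv_mem hx) _ hy,
      cl2_inv x hx, neg_add_eq_zero]
  have Φ_Z : ∀ a ∈ U1, ∀ x ∈ Z4, Φ m a x ∈ Z2 := by
    intro a ha x hx
    by_cases ha1 : a = 1
    · rw [ha1, Φ_one_left]; exact Z2.one_mem
    · exact (L.Φ_iff a ha ha1 x (L.le4 hx)).2 hx
  choose pk pk_mem pk_cl using cl4_surj
  have key : ∀ a ∈ U1, ∀ x ∈ U4, ∀ y ∈ U4, cl4 x = cl4 y → cl2 (Φ m a x) = cl2 (Φ m a y) := by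
    intro a ha x hx y hy hxy
    rw [cl2_eq _ (h.Φ_mem ha hx) _ (h.Φ_mem ha hy), ← Φ_inv, ← Φ_mul]
    exact Φ_Z a ha _ ((cl4_eq x hx y hy).1 hxy)
  -- the maps `Θ`
  let Θ : U1 → (X →+ W) := fun a => AddMonoidHom.mk' (fun v => cl2 (Φ m a (pk v))) (by
    intro v w
    rw [← cl2_mul _ (h.Φ_mem a.2 (pk_mem v)) _ (h.Φ_mem a.2 (pk_mem w)), ← Φ_mul]
    refine key a a.2 _ (pk_mem _) _ (U4.mul_mem (pk_mem v) (pk_mem w)) ?_
    rw [cl4_mul _ (pk_mem v) _ (pk_mem w), pk_cl, pk_cl, pk_cl])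
  have hΘ : ∀ (a : U1) (x : G), x ∈ U4 → Θ a (cl4 x) = cl2 (Φ m a x) := by
    intro a x hx
    exact key a a.2 _ (pk_mem _) _ hx (pk_cl _)
  have hmul : ∀ a b : U1, Θ (a * b) = Θ a + Θ b := by
    intro a b
    ext v
    rw [AddMonoidHom.add_apply, ← pk_cl v, hΘ _ _ (pk_mem v), hΘ _ _ (pk_mem v),
      hΘ _ _ (pk_mem v), Subgroup.coe_mul, h.star a.2 b.2 (pk_mem v),
      cl2_mul _ (U2.mul_mem (h.Φ_mem a.2 (pk_mem v))
        (h.k13 b b.2 _ (h.Ψ_mem (pk_mem v) a.2))) _ (h.Φ_mem b.2 (pk_mem v)),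
      cl2_mul _ (h.Φ_mem a.2 (pk_mem v)) _ (h.k13 b b.2 _ (h.Ψ_mem (pk_mem v) a.2)),
      (cl2_zero _ (h.k13 b b.2 _ (h.Ψ_mem (pk_mem v) a.2))).2
        (L.v2 b b.2 _ (h.Ψ_mem (pk_mem v) a.2)), add_zero]
  have hbij : ∀ a : U1, a ≠ 1 → Function.Bijective (Θ a) := by
    intro a ha
    have ha' : (a : G) ≠ 1 := fun h1 => ha (Subtype.ext h1)
    constructor
    · rw [injective_iff_map_eq_zero]
      intro v hv
      rw [← pk_cl v, hΘ _ _ (pk_mem v), cl2_zero _ (h.Φ_mem a.2 (pk_mem v)),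
        L.Φ_iff a a.2 ha' _ (pk_mem v)] at hv
      rw [← pk_cl v, cl4_zero _ (pk_mem v)]
      exact hv
    · intro w
      obtain ⟨b, hb, rfl⟩ := cl2_surj w
      obtain ⟨x, hx, rfl⟩ := h.Φ_surj a.2 ha' hb
      exact ⟨cl4 x, hΘ a x hx⟩
  have hneg : ∀ a : U1, Θ a⁻¹ = -Θ a := by
    intro a
    have h1 : Θ 1 = 0 := by
      have := hmul 1 1
      rw [mul_one] at this
      simpa using this
    have := hmul a⁻¹ a
    rw [inv_mul_cancel, h1] at this
    exact (neg_eq_of_add_eq_zero_left this.symm).symm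
  -- transport by elements normalising everything
  let T4 : ∀ g, Nrm U1 U2 U3 U4 g → (X →+ X) := fun g hg =>
    AddMonoidHom.mk' (fun v => cl4 (g * pk v * g⁻¹)) (by
      intro v w
      rw [← cl4_mul _ (hg.u4 _ (pk_mem v)) _ (hg.u4 _ (pk_mem w)), cl4_eq _ (hg.u4 _ (pk_mem _))
        _ (U4.mul_mem (hg.u4 _ (pk_mem v)) (hg.u4 _ (pk_mem w)))]
      have h1 : (pk (v + w))⁻¹ * (pk v * pk w) ∈ Z4 := by
        rw [← cl4_eq _ (pk_mem _) _ (U4.mul_mem (pk_mem v) (pk_mem w)),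
          cl4_mul _ (pk_mem v) _ (pk_mem w), pk_cl, pk_cl, pk_cl]
      have h2 := L.nrm4 g hg _ h1
      convert h2 using 1
      group)
  have hT4 : ∀ g (hg : Nrm U1 U2 U3 U4 g) (x : G), x ∈ U4 → T4 g hg (cl4 x) =
      cl4 (g * x * g⁻¹) := by
    intro g hg x hx
    change cl4 (g * pk (cl4 x) * g⁻¹) = cl4 (g * x * g⁻¹)
    rw [cl4_eq _ (hg.u4 _ (pk_mem _)) _ (hg.u4 _ hx)]
    have h1 := L.nrm4 g hg _ ((cl4_eq _ (pk_mem _) x hx).1 (pk_cl (cl4 x)))
    convert h1 using 1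
    group
  choose pk2 pk2_mem pk2_cl using cl2_surj
  let T2 : ∀ g, Nrm U1 U2 U3 U4 g → (W →+ W) := fun g hg =>
    AddMonoidHom.mk' (fun v => cl2 (g * pk2 v * g⁻¹)) (by
      intro v w
      rw [← cl2_mul _ (hg.u2 _ (pk2_mem v)) _ (hg.u2 _ (pk2_mem w)),
        cl2_eq _ (hg.u2 _ (pk2_mem _)) _ (U2.mul_mem (hg.u2 _ (pk2_mem v)) (hg.u2 _ (pk2_mem w)))]
      have h1 : (pk2 (v + w))⁻¹ * (pk2 v * pk2 w) ∈ Z2 := by
        rw [← cl2_eq _ (pk2_mem _) _ (U2.mul_mem (pk2_mem v) (pk2_mem w)),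
          cl2_mul _ (pk2_mem v) _ (pk2_mem w), pk2_cl, pk2_cl, pk2_cl]
      have h2 := L.nrm2 g hg _ h1
      convert h2 using 1
      group)
  have hT2 : ∀ g (hg : Nrm U1 U2 U3 U4 g) (x : G), x ∈ U2 → T2 g hg (cl2 x) =
      cl2 (g * x * g⁻¹) := by
    intro g hg x hx
    change cl2 (g * pk2 (cl2 x) * g⁻¹) = cl2 (g * x * g⁻¹)
    rw [cl2_eq _ (hg.u2 _ (pk2_mem _)) _ (hg.u2 _ hx)]
    have h1 := L.nrm2 g hg _ ((cl2_eq _ (pk2_mem _) x hx).1 (pk2_cl (cl2 x)))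
    convert h1 using 1
    group
  have hTΘ : ∀ g (hg : Nrm U1 U2 U3 U4 g) (a : U1) (v : X),
      Θ ⟨g * a * g⁻¹, hg.u1 a a.2⟩ (T4 g hg v) = T2 g hg (Θ a v) := by
    intro g hg a v
    rw [← pk_cl v, hT4 g hg _ (pk_mem v), hΘ _ _ (hg.u4 _ (pk_mem v)), hΘ _ _ (pk_mem v),
      hT2 g hg _ (h.Φ_mem a.2 (pk_mem v)), (h.equiv hg a.2 (pk_mem v)).1]
  have hT4inj : ∀ g (hg : Nrm U1 U2 U3 U4 g) v, T4 g hg v = 0 → v = 0 := by
    intro g hg v hv
    rw [← pk_cl v, hT4 g hg _ (pk_mem v), cl4_zero _ (hg.u4 _ (pk_mem v))] at hv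
    rw [← pk_cl v, cl4_zero _ (pk_mem v)]
    let f : Z4 → Z4 := fun z => ⟨g * z * g⁻¹, L.nrm4 g hg z z.2⟩
    have hf : Function.Injective f := by
      intro z z' hz
      have := congrArg Subtype.val hz
      exact Subtype.ext (mul_left_cancel (mul_right_cancel this))
    obtain ⟨z, hz⟩ := (Finite.surjective_of_injective hf) ⟨_, hv⟩
    have hz' : g * (z : G) * g⁻¹ = g * pk v * g⁻¹ := congrArg Subtype.val hz
    have : (z : G) = pk v := mul_left_cancel (mul_right_cancel hz')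
    rw [← this]; exact z.2
  have hma : ∀ (a b : U1) (ha : (a : G) ≠ 1) (hb : (b : G) ≠ 1) (v : X),
      Θ b (T4 _ (h.nrm_m a.2 ha b.2 hb) v) = Θ a v ∧
      T2 _ (h.nrm_m a.2 ha b.2 hb) (Θ a v) = Θ b v := by
    intro a b ha hb v
    constructor
    · rw [← pk_cl v, hT4 _ (h.nrm_m a.2 ha b.2 hb) _ (pk_mem v),
        hΘ _ _ ((h.nrm_m a.2 ha b.2 hb).u4 _ (pk_mem v)),
        Quad.Φ_nrm_m m ha hb, hΘ _ _ (pk_mem v)]
    · have e1 : T2 _ (h.nrm_m a.2 ha b.2 hb) (Θ a⁻¹ v) = Θ b⁻¹ v := by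
        rw [← pk_cl v, hΘ _ _ (pk_mem v), hΘ _ _ (pk_mem v),
          hT2 _ (h.nrm_m a.2 ha b.2 hb) _ (h.Φ_mem (a⁻¹).2 (pk_mem v))]
        congr 1
        exact h.nrm_m_Φ a.2 ha b.2 hb _
      rw [hneg, hneg, AddMonoidHom.neg_apply, AddMonoidHom.neg_apply, map_neg, neg_inj] at e1
      exact e1
  have hX : Nontrivial X := by
    obtain ⟨x, hx, hx0⟩ := L.ne
    exact ⟨⟨cl4 x, 0, fun h0 => hx0 ((cl4_zero x hx).1 h0)⟩⟩
  have he' : (⟨e, he⟩ : U1) ≠ 1 := fun h1 => he1 (congrArg Subtype.val h1)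
  obtain ⟨K, _, _, ι, hKf, ι_bij, ι_mul, ι_e, hι⟩ := exists_field_of_maps Θ hmul hbij ⟨e, he⟩ he'
    (by
      intro a ha
      have ha' : (a : G) ≠ 1 := fun h1 => ha (Subtype.ext h1)
      refine ⟨⟨_, (h.nrm_m a.2 ha' he he1).u1 a a.2⟩, ?_⟩
      intro v w hvw
      have h1 := (hma a ⟨e, he⟩ ha' he1 v)
      have h2 : T4 _ (h.nrm_m a.2 ha' he he1) v = w := (hbij _ he').1 (h1.1.trans hvw)
      rw [← h2]
      exact (hTΘ _ (h.nrm_m a.2 ha' he he1) a v).trans h1.2)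
  have hcan : ∀ (k l : K) (v : X), v ≠ 0 → k • v = l • v → k = l := fun k l v hv hkl =>
    smul_left_injective K hv hkl
  let ι' : G → K := fun g => if hg : g ∈ U1 then ι ⟨g, hg⟩ else 0
  have hι' : ∀ (a : G) (ha : a ∈ U1), ι' a = ι ⟨a, ha⟩ := fun a ha => dif_pos ha
  have hι0 : ∀ a : U1, a ≠ 1 → ι a ≠ 0 := by
    intro a ha h0
    have h1 : ι 1 = 0 := by
      have := ι_mul 1 1
      rw [mul_one] at this
      simpa using this
    exact ha (ι_bij.1 (h0.trans h1.symm))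
  have hcl_st : ∀ (a : U1) (x : G), x ∈ U4 → cl4 (st m e a x) = ι a • cl4 x := by
    intro a x hx
    apply (hbij _ he').1
    rw [hΘ _ _ (h.st_mem he he1 a.2 hx), Φ_st m he1, ← hι, hΘ _ _ hx]
  obtain ⟨v0, hv0⟩ := exists_ne (0 : X)
  refine ⟨K, inferInstance, ι', hKf, ?_, ?_, ?_, ?_, ?_, ?_, ?_⟩
  · intro a ha b hb
    rw [hι' _ (U1.mul_mem ha hb), hι' a ha, hι' b hb]
    exact ι_mul ⟨a, ha⟩ ⟨b, hb⟩
  · intro a ha b hb hab
    rw [hι' a ha, hι' b hb] at hab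
    exact congrArg Subtype.val (ι_bij.1 hab)
  · intro k
    obtain ⟨a, ha⟩ := ι_bij.2 k
    exact ⟨a, a.2, by rw [hι' _ a.2]; exact ha⟩
  · rw [hι' e he]; exact ι_e
  · intro a ha b hb c hc habc x hx
    rw [hι' a ha, hι' b hb, hι' c hc] at habc
    rw [← cl4_eq _ (h.st_mem he he1 hc hx) _ (h.st_mem he he1 ha (h.st_mem he he1 hb hx)),
      hcl_st ⟨c, hc⟩ x hx, hcl_st ⟨a, ha⟩ _ (h.st_mem he he1 hb hx), hcl_st ⟨b, hb⟩ x hx, habc,
      mul_smul]
  · intro g hg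
    have hge : (⟨g * e * g⁻¹, hg.u1 e he⟩ : U1) ≠ 1 := by
      intro h1
      have h2 : g * e * g⁻¹ = 1 := congrArg Subtype.val h1
      exact he1 (by simpa using h2)
    obtain ⟨r, hr⟩ : ∃ r, r = ι ⟨g * e * g⁻¹, hg.u1 e he⟩ := ⟨_, rfl⟩
    have hr0 : r ≠ 0 := hr ▸ hι0 _ hge
    have hsem : ∀ (a : U1) (v : X), ι ⟨g * a * g⁻¹, hg.u1 a a.2⟩ • T4 g hg v =
        r • T4 g hg (ι a • v) := by
      intro a v
      apply (hbij _ he').1
      rw [← hι, hTΘ g hg a v, hι a v]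
      have e2 := hTΘ g hg ⟨e, he⟩ (ι a • v)
      rw [← e2, hι, hr]
    choose jot jot_eq using ι_bij.2
    let s : K → K := fun k => r⁻¹ * ι ⟨g * jot k * g⁻¹, hg.u1 _ (jot k).2⟩
    have hs : ∀ (k : K) (v : X), s k • T4 g hg v = T4 g hg (k • v) := by
      intro k v
      have e1 := hsem (jot k) v
      rw [jot_eq] at e1
      change (r⁻¹ * _) • _ = _
      rw [mul_smul, e1, ← mul_smul, inv_mul_cancel₀ hr0, one_smul]
    have hTv0 : T4 g hg v0 ≠ 0 := fun h0 => hv0 (hT4inj g hg _ h0)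
    refine ⟨{ toFun := s, map_one' := ?_, map_mul' := ?_, map_zero' := ?_, map_add' := ?_ }, ?_⟩
    · apply hcan _ _ _ hTv0
      rw [hs, one_smul, one_smul]
    · intro k l
      apply hcan _ _ _ hTv0
      rw [hs, mul_smul, ← hs, ← hs, ← mul_smul]
    · apply hcan _ _ _ hTv0
      rw [hs, zero_smul, zero_smul, map_zero]
    · intro k l
      apply hcan _ _ _ hTv0
      rw [hs, add_smul, add_smul, map_add, hs, hs]
    · intro a ha
      rw [hι' _ (hg.u1 a ha), hι' _ (hg.u1 e he), hι' a ha, ← hr]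
      change _ = r * s (ι ⟨a, ha⟩)
      apply hcan _ _ _ hTv0
      rw [mul_smul, hs]
      exact hsem ⟨a, ha⟩ v0
  · intro a ha ha1 b hb hb1 c hc
    have hg := h.nrm_m ha ha1 hb hb1
    rw [hι' _ (hg.u1 c hc), hι' a ha, hι' b hb, hι' c hc]
    have h1 : ∀ v : X, ι ⟨b, hb⟩ • T4 _ hg v = ι ⟨a, ha⟩ • v := by
      intro v
      apply (hbij _ he').1
      rw [← hι, ← hι]
      exact (hma ⟨a, ha⟩ ⟨b, hb⟩ ha1 hb1 v).1
    have h2 : ∀ v : X, T2 _ hg (Θ ⟨e, he⟩ (ι ⟨a, ha⟩ • v)) = Θ ⟨e, he⟩ (ι ⟨b, hb⟩ • v) := by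
      intro v
      rw [← hι, ← hι]
      exact (hma ⟨a, ha⟩ ⟨b, hb⟩ ha1 hb1 v).2
    have h3 : ∀ v : X, ι ⟨_, hg.u1 c hc⟩ • T4 _ hg (ι ⟨a, ha⟩ • v) =
        ι ⟨b, hb⟩ • (ι ⟨c, hc⟩ • v) := by
      intro v
      apply (hbij _ he').1
      rw [← hι]
      have e1 := hTΘ _ hg ⟨c, hc⟩ (ι ⟨a, ha⟩ • v)
      rw [e1, hι, smul_smul, mul_comm, ← smul_smul, h2]
    have h4 : ι ⟨b, hb⟩ • (ι ⟨_, hg.u1 c hc⟩ • T4 _ hg (ι ⟨a, ha⟩ • v0)) =
        ι ⟨b, hb⟩ • (ι ⟨b, hb⟩ • (ι ⟨c, hc⟩ • v0)) := by rw [h3 v0]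
    have h5 : ι ⟨b, hb⟩ • (ι ⟨_, hg.u1 c hc⟩ • T4 _ hg (ι ⟨a, ha⟩ • v0)) =
        ι ⟨_, hg.u1 c hc⟩ • (ι ⟨a, ha⟩ • (ι ⟨a, ha⟩ • v0)) := by
      rw [smul_comm, h1]
    rw [h5] at h4
    simp only [smul_smul] at h4
    have h6 := hcan _ _ _ hv0 h4
    rw [sq, sq]
    linear_combination h6
end Cfsg.Agent.SplitTwo.QuadCoord
end

-- part: SplitTwo/QuadPos
section
set_option linter.all false
open scoped Cfsg.Agent.FastGrp

/-!
# Positive relations of type `B₂` over an abstract pseudo-quadratic system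
-/

set_option autoImplicit false

universe u

namespace Cfsg.Agent.SplitTwo.QuadPos

open Cfsg.Agent.TitsThree.PQAbs Cfsg.Agent.SplitTwo.QuadBase
open scoped commutatorElement

/-- Positive part of `B2Rel` over an abstract pseudo-quadratic system `S`, with the ranges of the
four families. -/
structure Pos {G : Type*} [Group G] {F : Type*} [Field F] {T : Type*} [Group T] (S : Sys F T)
    (U1 U2 U3 U4 : Subgroup G) (x y : F → G) (z₁ z₂ : T → G) : Prop where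
  x_add : ∀ a b, x (a + b) = x a * x b
  y_add : ∀ a b, y (a + b) = y a * y b
  z₁_mul : ∀ p q, z₁ (p * q) = z₁ p * z₁ q
  z₂_mul : ∀ p q, z₂ (p * q) = z₂ p * z₂ q
  x_inj : Function.Injective x
  y_inj : Function.Injective y
  z₁_inj : Function.Injective z₁
  z₂_inj : Function.Injective z₂
  x_mem : ∀ g, g ∈ U1 ↔ ∃ a, x a = g
  z₁_mem : ∀ g, g ∈ U2 ↔ ∃ p, z₁ p = g
  y_mem : ∀ g, g ∈ U3 ↔ ∃ a, y a = g
  z₂_mem : ∀ g, g ∈ U4 ↔ ∃ p, z₂ p = g
  x_z₂ : ∀ a p, ⁅x a, z₂ p⁆ = z₁ (S.smul (S.σ a) p) * y (-(S.ε * a * S.σ (S.c p)))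
  z₁_z₂ : ∀ p q, ⁅z₁ p, z₂ q⁆ = y (-S.h q p)
  x_y : ∀ a b, ⁅x a, y b⁆ = z₁ (S.tr (S.σ a * b))
  x_z₁ : ∀ a p, Commute (x a) (z₁ p)
  y_z₁ : ∀ b p, Commute (y b) (z₁ p)
  y_z₂ : ∀ b p, Commute (y b) (z₂ p)

theorem brk_inv_eq {G : Type*} [Group G] (u v : G) : ⁅u⁻¹, v⁆ = κ u v := by
  unfold κ; rw [commutatorElement_def]; group

theorem brk_eq {G : Type*} [Group G] (u v : G) : ⁅u, v⁆ = κ u⁻¹ v := by
  unfold κ; rw [commutatorElement_def]; group

end Cfsg.Agent.SplitTwo.QuadPos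
end

-- part: SplitTwo/QuadNonred
section
prune_inst 0x201000007822100000180504120000200000000200200001a040040000494100a1010100020010008000224020000000011001400020000004000000000401000008000010000000000010000000000000000000000000000000000000000000000000000
set_option linter.all false
open scoped Cfsg.Agent.FastGrp

/-!
# Nonreduced Moufang quadrangles (unitary groups in dimension five)

`1 ≠ Y4 ≠ U4`, where `Y4` is the centraliser of `U2` in `U4`.
-/

set_option autoImplicit false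

universe u

namespace Cfsg.Agent.SplitTwo.QuadNonred

open Cfsg.Agent.SplitTwo.QuadBase Cfsg.Agent.SplitTwo.QuadField Cfsg.Agent.SplitTwo.QuadCoord
open Cfsg.Agent.SplitTwo.QuadPos Cfsg.Agent.TitsThree.PQAbs
open scoped commutatorElement

variable {G : Type u} [Group G]

theorem Nrm.surj [Finite G] {U : Subgroup G} {g : G} (hg : ∀ b ∈ U, g * b * g⁻¹ ∈ U) :
    ∀ b ∈ U, ∃ b' ∈ U, g * b' * g⁻¹ = b := by
  intro b hb
  let f : U → U := fun z => ⟨g * z * g⁻¹, hg z z.2⟩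
  have hf : Function.Injective f := by
    intro z z' hz
    have := congrArg Subtype.val hz
    exact Subtype.ext (mul_left_cancel (mul_right_cancel this))
  obtain ⟨z, hz⟩ := (Finite.surjective_of_injective hf) ⟨b, hb⟩
  exact ⟨z, z.2, congrArg Subtype.val hz⟩

/-- The part of `U` centralising `V`. -/
def Y (U V : Subgroup G) : Subgroup G := U ⊓ Subgroup.centralizer (V : Set G)

theorem mem_Y {U V : Subgroup G} {x : G} : x ∈ Y U V ↔ x ∈ U ∧ ∀ b ∈ V, Commute x b := by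
  unfold Y
  rw [Subgroup.mem_inf, Subgroup.mem_centralizer_iff]
  exact ⟨fun h => ⟨h.1, fun b hb => (h.2 b hb).symm⟩, fun h => ⟨h.1, fun b hb => (h.2 b hb).symm⟩⟩

variable {U1 U2 U3 U4 : Subgroup G} {m n : G → G}

/-- The centraliser layer, if `U3` is abelian. -/
theorem lay [Finite G] (h : Quad U1 U2 U3 U4 m n) (hc3 : ∀ c ∈ U3, ∀ c' ∈ U3, Commute c c')
    (hne : ∃ x ∈ U4, x ∉ Y U4 U2) : Lay U1 U2 U3 U4 (Y U2 U4) (Y U4 U2) m where
  le2 := inf_le_left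
  le4 := inf_le_left
  Φ_iff a ha ha1 x hx := by
    rw [mem_Y, mem_Y, Φ_ne m ha1]
    constructor
    · rintro ⟨_, h2⟩
      refine ⟨hx, fun b hb => ?_⟩
      have h3 := h2 _ (h.m2 a ha ha1 b hb)
      have h4 : m a * (x * b) * (m a)⁻¹ = m a * (b * x) * (m a)⁻¹ := by
        calc m a * (x * b) * (m a)⁻¹ = (m a * x * (m a)⁻¹) * (m a * b * (m a)⁻¹) := by group
          _ = (m a * b * (m a)⁻¹) * (m a * x * (m a)⁻¹) := h3
          _ = m a * (b * x) * (m a)⁻¹ := by group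
      exact mul_left_cancel (mul_right_cancel h4)
    · rintro ⟨_, h2⟩
      refine ⟨h.m4 a ha ha1 x hx, fun z hz => ?_⟩
      have h3 := h.m4 a⁻¹ (U1.inv_mem ha) (inv_ne_one.2 ha1) z hz
      rw [h.m_inv a ha ha1, inv_inv] at h3
      have h4 := h2 _ h3
      have h5 : (m a * x * (m a)⁻¹) * z = z * (m a * x * (m a)⁻¹) := by
        calc (m a * x * (m a)⁻¹) * z = m a * (x * ((m a)⁻¹ * z * m a)) * (m a)⁻¹ := by group
          _ = m a * (((m a)⁻¹ * z * m a) * x) * (m a)⁻¹ := by rw [h4.eq]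
          _ = z * (m a * x * (m a)⁻¹) := by group
      exact h5
  v2 a ha c hc := by
    rw [mem_Y]
    exact ⟨h.k13 a ha c hc, fun x hx => h.hall_witt hc3 ha hc hx⟩
  c4 x hx y hy := by
    rw [mem_Y]
    refine ⟨U4.mul_mem (U4.mul_mem (U4.mul_mem (U4.inv_mem hx) (U4.inv_mem hy)) hx) hy,
      fun b hb => ?_⟩
    exact h.rev.comm1_mem_Y1 hx hy hb
  ne := hne
  nrm4 g hg z hz := by
    rw [mem_Y] at hz ⊢
    refine ⟨hg.u4 z hz.1, fun b hb => ?_⟩
    obtain ⟨b', hb', rfl⟩ := Nrm.surj hg.u2 b hb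
    have := (hz.2 b' hb').eq
    change _ = _
    calc g * z * g⁻¹ * (g * b' * g⁻¹) = g * (z * b') * g⁻¹ := by group
      _ = g * (b' * z) * g⁻¹ := by rw [this]
      _ = g * b' * g⁻¹ * (g * z * g⁻¹) := by group
  nrm2 g hg z hz := by
    rw [mem_Y] at hz ⊢
    refine ⟨hg.u2 z hz.1, fun b hb => ?_⟩
    obtain ⟨b', hb', rfl⟩ := Nrm.surj hg.u4 b hb
    have := (hz.2 b' hb').eq
    change _ = _
    calc g * z * g⁻¹ * (g * b' * g⁻¹) = g * (z * b') * g⁻¹ := by group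
      _ = g * (b' * z) * g⁻¹ := by rw [this]
      _ = g * b' * g⁻¹ * (g * z * g⁻¹) := by group

/-- `q' s'(k) = q s(k) + k` for two field endomorphisms forces `s = id`. -/
theorem end_eq_id {K : Type*} [Field K] (s s' : K →+* K) (q q' : K) (hq : q ≠ 0)
    (hs : ∀ k, q' * s' k = q * s k + k) (k : K) : s k = k := by
  have h1 := hs 1
  rw [map_one, map_one, mul_one, mul_one] at h1
  have h2 := hs k
  have h3 := hs (k ^ 2)
  rw [map_pow, map_pow] at h3
  have h4 : q * (s k - k) ^ 2 = 0 := by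
    have h5 : (q' * s' k) ^ 2 = q' * (q' * s' k ^ 2) := by ring
    rw [h2, h3, h1] at h5
    linear_combination -h5
  have h5 : (s k - k) ^ 2 = 0 := by
    rcases mul_eq_zero.1 h4 with h | h
    · exact absurd h hq
    · exact h
  exact sub_eq_zero.1 (pow_eq_zero_iff (two_ne_zero) |>.1 h5)

/-- In a finite field, an additive subgroup `F0` of the fixed field `{σ k = k}` containing all
squares of the fixed field is everything. -/
theorem fix_sub {K : Type*} [Field K] [Finite K] (σ : K →+* K) (F0 : AddSubgroup K)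
    (h0 : ∀ k ∈ F0, σ k = k) (h1 : (1 : K) ∈ F0) (hsq : ∀ k, σ k = k → k ^ 2 ∈ F0) :
    ∀ k, σ k = k → k ∈ F0 := by
  classical
  intro k hk
  by_cases h2 : (2 : K) = 0
  · have hF : Function.Injective (fun f : F0 => (⟨(f : K) ^ 2, hsq f (h0 f f.2)⟩ : F0)) := by
      intro f g hfg
      have h3 : (f : K) ^ 2 = (g : K) ^ 2 := congrArg Subtype.val hfg
      have h4 : ((f : K) - g) ^ 2 = 0 := by
        linear_combination h3 + ((g : K) ^ 2 - f * g) * h2
      exact Subtype.ext (sub_eq_zero.1 (pow_eq_zero_iff (two_ne_zero) |>.1 h4))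
    obtain ⟨f, hf⟩ := (Finite.surjective_of_injective hF) ⟨k ^ 2, hsq k hk⟩
    have h3 : (f : K) ^ 2 = k ^ 2 := congrArg Subtype.val hf
    have h4 : ((f : K) - k) ^ 2 = 0 := by
      linear_combination h3 + (k ^ 2 - f * k) * h2
    have h5 := sub_eq_zero.1 (pow_eq_zero_iff (two_ne_zero) |>.1 h4)
    rw [← h5]; exact f.2
  · have h3 : (2 : K) * k ∈ F0 := by
      have e : (2 : K) * k = (k + 1) ^ 2 - k ^ 2 - 1 := by ring
      rw [e]
      exact F0.sub_mem (F0.sub_mem (hsq _ (by rw [map_add, map_one, hk])) (hsq k hk)) h1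
    obtain ⟨N, hN⟩ : ∃ N : ℕ, (N : K) * 2 = 1 := by
      haveI := Fintype.ofFinite K
      refine ⟨2 ^ (Fintype.card K - 2), ?_⟩
      have h4 := FiniteField.pow_card_sub_one_eq_one (2 : K) h2
      have h5 : 1 < Fintype.card K := Fintype.one_lt_card
      push_cast
      rw [← pow_succ, show Fintype.card K - 2 + 1 = Fintype.card K - 1 by omega]
      exact h4
    have e : k = N • ((2 : K) * k) := by
      rw [nsmul_eq_mul, ← mul_assoc, hN, one_mul]
    rw [e]; exact F0.nsmul_mem h3 N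

/-- The nonreduced case. -/
theorem exists_pos [Finite G] (h : Quad U1 U2 U3 U4 m n) {e : G} (he : e ∈ U1) (he1 : e ≠ 1)
    (hY : ∃ s ∈ Y U4 U2, s ≠ 1) (hne : ∃ x ∈ U4, x ∉ Y U4 U2) :
    ∃ (K : Type u) (_ : Field K) (S : Sys K U4) (x y : K → G) (z₁ z₂ : U4 → G), Finite K ∧
      Pos S U1 U2 U3 U4 x y z₁ z₂ := by
  classical
  obtain ⟨f, hfY, hf1⟩ := hY
  have hf : f ∈ U4 := (mem_Y.1 hfY).1
  have hc3 : ∀ c ∈ U3, ∀ c' ∈ U3, Commute c c' :=
    h.rev.comm2_of_Y1 hf hf1 (fun b hb => (mem_Y.1 hfY).2 b hb)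
  have L := lay h hc3 hne
  obtain ⟨K, _, ι, hKf, ι_mul, ι_inj, ι_surj, ι_e, ι_K1, ι_E, ι_T⟩ := coord h L he he1
  choose jot jot_mem jot_ι using ι_surj
  have ι_jot : ∀ a ∈ U1, jot (ι a) = a := fun a ha => ι_inj _ (jot_mem _) _ ha (jot_ι _)
  have ι_one : ι 1 = 0 := by
    have := ι_mul 1 U1.one_mem 1 U1.one_mem
    rw [mul_one] at this
    simpa using this
  have ι_inv : ∀ a ∈ U1, ι a⁻¹ = -ι a := by
    intro a ha
    have := ι_mul a⁻¹ (U1.inv_mem ha) a ha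
    rw [inv_mul_cancel, ι_one] at this
    exact (neg_eq_of_add_eq_zero_left this.symm).symm
  have ι_ne : ∀ a ∈ U1, a ≠ 1 → ι a ≠ 0 := fun a ha ha1 h0 =>
    ha1 (ι_inj a ha 1 U1.one_mem (h0.trans ι_one.symm))
  have jot_mul : ∀ k l, jot (k + l) = jot k * jot l := by
    intro k l
    apply ι_inj _ (jot_mem _) _ (U1.mul_mem (jot_mem _) (jot_mem _))
    rw [jot_ι, ι_mul _ (jot_mem _) _ (jot_mem _), jot_ι, jot_ι]
  -- coordinates on `U3`
  obtain ⟨P, hP⟩ : ∃ P : G → K, P = fun c => ι ((n f)⁻¹ * c * n f) := ⟨_, rfl⟩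
  have hPc : ∀ c, P c = ι ((n f)⁻¹ * c * n f) := fun c => by rw [hP]
  have hP1 : ∀ c ∈ U3, (n f)⁻¹ * c * n f ∈ U1 := by
    intro c hc
    have := h.n3 f⁻¹ (U4.inv_mem hf) (inv_ne_one.2 hf1) c hc
    rwa [h.n_inv f hf hf1, inv_inv] at this
  have P_f : ∀ a ∈ U1, P (Φ n f a) = ι a := by
    intro a ha
    rw [hPc, Φ_ne n hf1]
    congr 1; group
  have P_mul : ∀ c ∈ U3, ∀ d ∈ U3, P (c * d) = P c + P d := by
    intro c hc d hd
    rw [hPc, hPc, hPc, ← ι_mul _ (hP1 c hc) _ (hP1 d hd)]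
    congr 1; group
  have P_one : P 1 = 0 := by
    rw [hPc, mul_one, inv_mul_cancel, ι_one]
  have P_inv : ∀ c ∈ U3, P c⁻¹ = -P c := by
    intro c hc
    have := P_mul c⁻¹ (U3.inv_mem hc) c hc
    rw [inv_mul_cancel, P_one] at this
    exact (neg_eq_of_add_eq_zero_left this.symm).symm
  have P_inj : ∀ c ∈ U3, ∀ d ∈ U3, P c = P d → c = d := by
    intro c hc d hd hcd
    rw [hPc, hPc] at hcd
    have := ι_inj _ (hP1 c hc) _ (hP1 d hd) hcd
    exact mul_left_cancel (mul_right_cancel this)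
  have P_gen : ∀ x, x ≠ 1 → ∀ a, P (Φ n x a) = ι (((n f)⁻¹ * n x) * a * ((n f)⁻¹ * n x)⁻¹) := by
    intro x hx1 a
    rw [hPc, Φ_ne n hx1]
    congr 1; group
  -- the function `q`
  obtain ⟨q, hq⟩ : ∃ q : G → K, q = fun x => P (Φ n x e) := ⟨_, rfl⟩
  have hqx : ∀ x, q x = P (Φ n x e) := fun x => by rw [hq]
  have q_f : q f = 1 := by rw [hqx, P_f e he, ι_e]
  have q_one : q 1 = 0 := by rw [hqx, Φ_one_left, P_one]
  have q_ne : ∀ x ∈ U4, x ≠ 1 → q x ≠ 0 := by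
    intro x hx hx1
    rw [hqx, P_gen x hx1]
    have hg := h.nrm_n hx hx1 hf hf1
    apply ι_ne _ (hg.u1 e he)
    intro h1
    exact he1 (conj_eq_one_iff.1 h1)
  -- `(C1)`
  have ΦY : ∀ a ∈ U1, ∀ s ∈ Y U4 U2, Φ m a s ∈ Y U2 U4 := by
    intro a ha s hs
    by_cases ha1 : a = 1
    · rw [ha1, Φ_one_left]; exact (Y U2 U4).one_mem
    · exact (L.Φ_iff a ha ha1 s (L.le4 hs)).2 hs
  have C1 : ∀ x ∈ U4, ∀ s ∈ Y U4 U2, ∀ a ∈ U1, Φ n (x * s) a = Φ n x a * Φ n s a := by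
    intro x hx s hs a ha
    rw [h.star' ha hx (L.le4 hs), κ_eq_one_iff.2 ((mem_Y.1 (ΦY a ha s hs)).2 x hx), mul_one]
  have q_add : ∀ x ∈ U4, ∀ s ∈ Y U4 U2, q (x * s) = q x + q s := by
    intro x hx s hs
    rw [hqx, C1 x hx s hs e he, P_mul _ (h.Ψ_mem hx he) _ (h.Ψ_mem (L.le4 hs) he), ← hqx, ← hqx]
  have q_invY : ∀ s ∈ Y U4 U2, q s⁻¹ = -q s := by
    intro s hs
    have := q_add s⁻¹ (U4.inv_mem (L.le4 hs)) s hs
    rw [inv_mul_cancel, q_one] at this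
    exact (neg_eq_of_add_eq_zero_left this.symm).symm
  -- `(C2)`
  have C2 : ∀ x ∈ U4, ∀ a ∈ U1, P (Φ n x a) = q x * ι a := by
    intro x hx a ha
    by_cases hx1 : x = 1
    · rw [hx1, Φ_one_left, P_one, q_one, zero_mul]
    have hPadd : ∀ b ∈ U1, P (Φ n (x * f) b) = P (Φ n x b) + ι b := by
      intro b hb
      rw [C1 x hx f hfY b hb, P_mul _ (h.Ψ_mem hx hb) _ (h.Ψ_mem hf hb), P_f b hb]
    by_cases hxf : x * f = 1
    · have h1 := hPadd a ha
      have h2 := hPadd e he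
      rw [hxf, Φ_one_left, P_one] at h1 h2
      rw [ι_e] at h2
      rw [hqx]
      linear_combination h1 * (-1 : K) + h2 * ι a
    · have hg := h.nrm_n hx hx1 hf hf1
      have hg' := h.nrm_n (U4.mul_mem hx hf) hxf hf hf1
      obtain ⟨s, hs⟩ := ι_E _ hg
      obtain ⟨s', hs'⟩ := ι_E _ hg'
      have e1 : ∀ b ∈ U1, P (Φ n x b) = q x * s (ι b) := by
        intro b hb
        rw [P_gen x hx1, hs b hb, hqx, P_gen x hx1]
      have e2 : ∀ b ∈ U1, P (Φ n (x * f) b) = q (x * f) * s' (ι b) := by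
        intro b hb
        rw [P_gen _ hxf, hs' b hb, hqx, P_gen _ hxf]
      have e3 := end_eq_id s s' (q x) (q (x * f)) (q_ne x hx hx1) (by
        intro k
        have := hPadd _ (jot_mem k)
        rwa [e1 _ (jot_mem k), e2 _ (jot_mem k), jot_ι] at this)
      rw [e1 a ha, e3]
  -- scaling
  have st_mem : ∀ a ∈ U1, ∀ x ∈ U4, st m e a x ∈ U4 := fun a ha x hx => h.st_mem he he1 ha hx
  have st_Y : ∀ a ∈ U1, ∀ s ∈ Y U4 U2, st m e a s ∈ Y U4 U2 := by
    intro a ha s hs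
    rw [← L.Φ_iff e he he1 _ (st_mem a ha s (L.le4 hs)), Φ_st m he1]
    exact ΦY a ha s hs
  obtain ⟨nu, hnu⟩ : ∃ nu : G → K, nu = fun a => q (st m e a f) := ⟨_, rfl⟩
  have hnua : ∀ a, nu a = q (st m e a f) := fun a => by rw [hnu]
  have nu_one : nu 1 = 0 := by rw [hnua, st_one_left, q_one]
  -- action of the torus on `U3`
  have ι_tor : ∀ a ∈ U1, a ≠ 1 → ∀ c ∈ U1,
      ι (((m e)⁻¹ * m a) * c * ((m e)⁻¹ * m a)⁻¹) = ι c / ι a ^ 2 := by
    intro a ha ha1 c hc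
    have := ι_T a ha ha1 e he he1 c hc
    rw [ι_e, one_pow, one_mul] at this
    rw [← this]
    have := ι_ne a ha ha1
    field_simp
  have P_tor : ∀ a ∈ U1, a ≠ 1 → ∀ x ∈ U4, ∀ c ∈ U1,
      P (((m e)⁻¹ * m a) * Φ n x c * ((m e)⁻¹ * m a)⁻¹) = q (st m e a x) * ι c / ι a ^ 2 := by
    intro a ha ha1 x hx c hc
    have hg := h.nrm_m ha ha1 he he1
    rw [← (h.equiv hg hc hx).2, C2 _ (hg.u4 x hx) _ (hg.u1 c hc), ι_tor a ha ha1 c hc,
      ← st_eq_nrm m ha1]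
    ring
  have P_H3 : ∀ a ∈ U1, a ≠ 1 → ∀ d ∈ U3,
      P (((m e)⁻¹ * m a) * d * ((m e)⁻¹ * m a)⁻¹) = nu a * P d / ι a ^ 2 := by
    intro a ha ha1 d hd
    obtain ⟨c, hc, rfl⟩ := h.Ψ_surj hf hf1 hd
    rw [P_tor a ha ha1 f hf c hc, P_f c hc, hnua]
  have q_st : ∀ a ∈ U1, ∀ x ∈ U4, q (st m e a x) = nu a * q x := by
    intro a ha x hx
    by_cases ha1 : a = 1
    · rw [ha1, st_one_left, q_one, nu_one, zero_mul]
    have h1 := P_tor a ha ha1 x hx e he
    rw [P_H3 a ha ha1 _ (h.Ψ_mem hx he), C2 x hx e he, ι_e, mul_one, mul_one] at h1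
    have h2 := ι_ne a ha ha1
    field_simp at h1
    exact h1.symm
  -- the form `g`
  obtain ⟨gg, hgg⟩ : ∃ gg : G → G → K, gg = fun y x => P (κ (Φ m e y) x) := ⟨_, rfl⟩
  have hgg' : ∀ y x, gg y x = P (κ (Φ m e y) x) := fun y x => by rw [hgg]
  have C4 : ∀ x ∈ U4, ∀ y ∈ U4, ∀ c ∈ U1,
      P (κ (Φ m c y) x) = (q (x * y) - q x - q y) * ι c := by
    intro x hx y hy c hc
    have h1 := C2 (x * y) (U4.mul_mem hx hy) c hc
    rw [h.star' hc hx hy, P_mul _ (U3.mul_mem (h.Ψ_mem hx hc) (h.k24 _ (h.Φ_mem hc hy) x hx))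
      _ (h.Ψ_mem hy hc), P_mul _ (h.Ψ_mem hx hc) _ (h.k24 _ (h.Φ_mem hc hy) x hx),
      C2 x hx c hc, C2 y hy c hc] at h1
    linear_combination h1
  have q_mul : ∀ x ∈ U4, ∀ y ∈ U4, q (x * y) = q x + q y + gg y x := by
    intro x hx y hy
    have h1 := C4 x hx y hy e he
    rw [← hgg', ι_e] at h1
    linear_combination -h1
  have P_κ : ∀ x ∈ U4, ∀ y ∈ U4, ∀ c ∈ U1, P (κ (Φ m c y) x) = ι c * gg y x := by
    intro x hx y hy c hc
    rw [C4 x hx y hy c hc, q_mul x hx y hy]; ring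
  have gg_st : ∀ x ∈ U4, ∀ y ∈ U4, ∀ c ∈ U1, gg (st m e c y) x = ι c * gg y x := by
    intro x hx y hy c hc
    rw [hgg', Φ_st m he1, P_κ x hx y hy c hc]
  have gg_mul : ∀ x ∈ U4, ∀ y ∈ U4, ∀ y' ∈ U4, gg (y * y') x = gg y x + gg y' x := by
    intro x hx y hy y' hy'
    rw [hgg', hgg', hgg', Φ_mul, h.κ24_mul_left (h.Φ_mem he hy) (h.Φ_mem he hy') hx,
      P_mul _ (h.k24 _ (h.Φ_mem he hy) x hx) _ (h.k24 _ (h.Φ_mem he hy') x hx)]
  have gg_mul' : ∀ y ∈ U4, ∀ x ∈ U4, ∀ x' ∈ U4, gg y (x * x') = gg y x + gg y x' := by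
    intro y hy x hx x' hx'
    rw [hgg', hgg', hgg', h.κ24_mul_right (h.Φ_mem he hy) hx hx',
      P_mul _ (h.k24 _ (h.Φ_mem he hy) x hx) _ (h.k24 _ (h.Φ_mem he hy) x' hx')]
  have gg_Y : ∀ y ∈ U4, ∀ s ∈ Y U4 U2, gg y s = 0 := by
    intro y hy s hs
    rw [hgg', κ_eq_one_iff.2 ((mem_Y.1 hs).2 _ (h.Φ_mem he hy)).symm, P_one]
  have gg_Y' : ∀ s ∈ Y U4 U2, ∀ x ∈ U4, gg s x = 0 := by
    intro s hs x hx
    rw [hgg', κ_eq_one_iff.2 ((mem_Y.1 (ΦY e he s hs)).2 x hx), P_one]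
  -- `(C5)`
  have C5 : ∀ a ∈ U1, a ≠ 1 → ∀ y ∈ U4, ∀ x ∈ U4, gg y (st m e a x) = nu a / ι a * gg y x := by
    intro a ha ha1 y hy x hx
    have hg := h.nrm_m ha ha1 he he1
    have e1 := κ_conj ((m e)⁻¹ * m a) (Φ m a⁻¹ y) x
    rw [h.nrm_m_Φ ha ha1 he he1, ← st_eq_nrm m ha1 x] at e1
    have e2 := congrArg P e1
    rw [P_H3 a ha ha1 _ (h.k24 _ (h.Φ_mem (U1.inv_mem ha) hy) x hx),
      P_κ x hx y hy _ (U1.inv_mem ha), P_κ _ (st_mem a ha x hx) y hy _ (U1.inv_mem he),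
      ι_inv a ha, ι_inv e he, ι_e] at e2
    have h2 := ι_ne a ha ha1
    field_simp at e2 ⊢
    linear_combination e2
  obtain ⟨sg, hsg⟩ : ∃ sg : K → K, sg = fun k => nu (jot k) / k := ⟨_, rfl⟩
  have sg_ι : ∀ a ∈ U1, sg (ι a) = nu a / ι a := fun a ha => by rw [hsg]; simp only [ι_jot a ha]
  have sg_zero : sg 0 = 0 := by rw [hsg]; simp
  have nu_sg : ∀ a ∈ U1, nu a = sg (ι a) * ι a := by
    intro a ha
    by_cases ha1 : a = 1
    · rw [ha1, nu_one, ι_one, mul_zero]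
    · rw [sg_ι a ha, div_mul_cancel₀ _ (ι_ne a ha ha1)]
  have C5' : ∀ a ∈ U1, ∀ y ∈ U4, ∀ x ∈ U4, gg y (st m e a x) = sg (ι a) * gg y x := by
    intro a ha y hy x hx
    by_cases ha1 : a = 1
    · rw [ha1, st_one_left, ι_one, sg_zero, zero_mul, hgg', κ_one_right, P_one]
    · rw [C5 a ha ha1 y hy x hx, sg_ι a ha]
  -- `st (a * b) x = st a x * z * st b x`
  have st_add : ∀ a ∈ U1, ∀ b ∈ U1, ∀ x ∈ U4, ∃ z ∈ Y U4 U2,
      st m e (a * b) x = st m e a x * z * st m e b x ∧ Φ m e z = κ b (Φ n x a) := by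
    intro a ha b hb x hx
    have hk2 := h.k13 b hb _ (h.Ψ_mem hx ha)
    obtain ⟨z, hz, hz'⟩ := h.Φ_surj he he1 hk2
    refine ⟨z, ?_, ?_, hz'⟩
    · rw [← L.Φ_iff e he he1 z hz, hz']
      exact L.v2 b hb _ (h.Ψ_mem hx ha)
    · have e1 := h.star ha hb hx
      rw [← hz', ← Φ_st m he1 a x, ← Φ_st m he1 b x, ← Φ_st m he1 (a * b) x, ← Φ_mul,
        ← Φ_mul] at e1
      exact Φ_inj m he1 e1
  -- a pair with `g ≠ 0`
  obtain ⟨y0, hy0, x0, hx0, hg0, hx0Y⟩ : ∃ y0 ∈ U4, ∃ x0 ∈ U4, gg y0 x0 ≠ 0 ∧ x0 ∉ Y U4 U2 := by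
    obtain ⟨x0, hx0, hx0Y⟩ := hne
    rw [mem_Y] at hx0Y
    push Not at hx0Y
    obtain ⟨b, hb, hb0⟩ := hx0Y hx0
    obtain ⟨y0, hy0, rfl⟩ := h.Φ_surj he he1 hb
    refine ⟨y0, hy0, x0, hx0, ?_, ?_⟩
    · intro h0
      rw [hgg'] at h0
      have h1 := P_inj _ (h.k24 _ (h.Φ_mem he hy0) x0 hx0) 1 U3.one_mem (h0.trans P_one.symm)
      exact hb0 (κ_eq_one_iff.1 h1).symm
    · intro hY0
      exact hb0 ((mem_Y.1 hY0).2 _ hb)
  have sg_add : ∀ k l, sg (k + l) = sg k + sg l := by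
    intro k l
    obtain ⟨z, hz, hz1, _⟩ := st_add _ (jot_mem k) _ (jot_mem l) x0 hx0
    have e1 := C5' _ (U1.mul_mem (jot_mem k) (jot_mem l)) y0 hy0 x0 hx0
    rw [hz1, gg_mul' y0 hy0 _ (U4.mul_mem (st_mem _ (jot_mem k) x0 hx0) (L.le4 hz)) _
      (st_mem _ (jot_mem l) x0 hx0), gg_mul' y0 hy0 _ (st_mem _ (jot_mem k) x0 hx0) _ (L.le4 hz),
      gg_Y y0 hy0 z hz, C5' _ (jot_mem k) y0 hy0 x0 hx0, C5' _ (jot_mem l) y0 hy0 x0 hx0,
      ← jot_mul, jot_ι, jot_ι, jot_ι] at e1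
    apply mul_right_cancel₀ hg0
    linear_combination -e1
  have sg_mul : ∀ k l, sg (k * l) = sg k * sg l := by
    intro k l
    have h1 := ι_K1 _ (jot_mem k) _ (jot_mem l) _ (jot_mem (k * l)) (by rw [jot_ι, jot_ι, jot_ι])
      x0 hx0
    have hl := st_mem _ (jot_mem l) x0 hx0
    have hkl := st_mem _ (jot_mem k) _ hl
    have h0 := st_mem _ (jot_mem (k * l)) x0 hx0
    have e1 : gg y0 (st m e (jot k) (st m e (jot l) x0)) = gg y0 (st m e (jot (k * l)) x0) := by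
      have e2 : st m e (jot k) (st m e (jot l) x0) = st m e (jot (k * l)) x0 *
          ((st m e (jot (k * l)) x0)⁻¹ * st m e (jot k) (st m e (jot l) x0)) := by group
      rw [e2, gg_mul' y0 hy0 _ h0 _ (L.le4 h1), gg_Y y0 hy0 _ h1, add_zero]
    rw [C5' _ (jot_mem k) y0 hy0 _ hl, C5' _ (jot_mem l) y0 hy0 x0 hx0,
      C5' _ (jot_mem (k * l)) y0 hy0 x0 hx0, jot_ι, jot_ι, jot_ι] at e1
    apply mul_right_cancel₀ hg0
    linear_combination -e1
  have sg_one : sg 1 = 1 := by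
    rw [← ι_e, sg_ι e he, hnua, st_self m he1, q_f, ι_e, div_one]
  let sgh : K →+* K :=
    { toFun := sg, map_one' := sg_one, map_mul' := sg_mul, map_zero' := sg_zero,
      map_add' := sg_add }
  have hsgh : ∀ k, sgh k = sg k := fun _ => rfl
  have sg_neg : ∀ k, sg (-k) = -sg k := fun k => map_neg sgh k
  have sg_sub : ∀ k l, sg (k - l) = sg k - sg l := fun k l => map_sub sgh k l
  -- `(C8)`
  have C8 : ∀ t ∈ Y U4 U2, sg (q t) = q t := by
    intro t ht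
    by_cases ht1 : t = 1
    · rw [ht1, q_one, sg_zero]
    have htU := L.le4 ht
    have hg := h.nrm_n htU ht1 hf hf1
    obtain ⟨g, hgdef⟩ : ∃ g, g = (n f)⁻¹ * n t := ⟨_, rfl⟩
    rw [← hgdef] at hg
    have ha : g * e * g⁻¹ ∈ U1 := hg.u1 e he
    have hιa : ι (g * e * g⁻¹) = q t := by rw [hqx, P_gen t ht1, hgdef]
    have fixg : ∀ b ∈ Y U2 U4, g * b * g⁻¹ = b := by
      intro b hb
      obtain ⟨hb2, hb4⟩ := mem_Y.1 hb
      have e1 := h.fix2 t htU ht1 b hb2 (fun x' hx' => (hb4 x' hx').symm)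
      have e2 := h.fix2 f hf hf1 b hb2 (fun x' hx' => (hb4 x' hx').symm)
      rw [hgdef]
      calc (n f)⁻¹ * n t * b * ((n f)⁻¹ * n t)⁻¹ = (n f)⁻¹ * (n t * b * (n t)⁻¹) * n f := by group
        _ = (n f)⁻¹ * (n f * b * (n f)⁻¹) * n f := by rw [e1, e2]
        _ = b := by group
    have e1 := (h.equiv hg he hf).1
    rw [fixg _ (ΦY e he f hfY)] at e1
    have e2 : st m e (g * e * g⁻¹) (g * f * g⁻¹) = f := by
      apply Φ_inj m he1
      rw [Φ_st m he1, e1]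
    have e3 := q_st _ ha _ (hg.u4 f hf)
    rw [e2, q_f] at e3
    -- action on `U3`
    have e4 : ∀ c ∈ U1, P (g * Φ n f c * g⁻¹) = q (g * f * g⁻¹) * (q t * ι c) := by
      intro c hc
      rw [← (h.equiv hg hc hf).2, C2 _ (hg.u4 f hf) _ (hg.u1 c hc)]
      congr 1
      rw [← C2 t htU c hc, P_gen t ht1, hgdef]
    have e5 : ∀ d ∈ U3, P (g * d * g⁻¹) = q (g * f * g⁻¹) * (q t * P d) := by
      intro d hd
      obtain ⟨c, hc, rfl⟩ := h.Ψ_surj hf hf1 hd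
      rw [e4 c hc, P_f c hc]
    have e6 := h.nrm_n_Ψ htU ht1 hf hf1 e
    rw [← hgdef] at e6
    have e7 := e5 _ (h.Ψ_mem (U4.inv_mem htU) he)
    rw [e6, C2 _ (U4.inv_mem hf) e he, C2 _ (U4.inv_mem htU) e he, q_invY f hfY, q_invY t ht, q_f,
      ι_e] at e7
    -- `1 = nu * q z'`, `-1 = q z' * (q t * (- q t))`
    have hz : q (g * f * g⁻¹) ≠ 0 := by
      intro h0; rw [h0, mul_zero] at e3; exact one_ne_zero e3
    have e8 : nu (g * e * g⁻¹) = q t ^ 2 := by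
      apply mul_right_cancel₀ hz
      linear_combination -e3 - e7
    have e9 := nu_sg _ ha
    rw [hιa, e8] at e9
    apply mul_right_cancel₀ (q_ne t htU ht1)
    linear_combination -e9
  have nu_Y : ∀ a ∈ U1, st m e a f ∈ Y U4 U2 := fun a ha => st_Y a ha f hfY
  have sg_nu : ∀ a ∈ U1, sg (nu a) = nu a := by
    intro a ha
    rw [hnua]
    exact C8 _ (nu_Y a ha)
  have sg_sg : ∀ k, sg (sg k) = k := by
    intro k
    by_cases hk : k = 0
    · rw [hk, sg_zero, sg_zero]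
    have h1 := sg_nu _ (jot_mem k)
    rw [nu_sg _ (jot_mem k), jot_ι, sg_mul] at h1
    have h2 : sg k ≠ 0 := fun h0 => hk (sgh.injective (by rw [map_zero]; exact h0))
    apply mul_right_cancel₀ h2
    linear_combination h1
  -- the fixed field
  let F0 : AddSubgroup K :=
    { carrier := {k | ∃ t ∈ Y U4 U2, q t = k}
      zero_mem' := ⟨1, (Y U4 U2).one_mem, q_one⟩
      add_mem' := by
        rintro _ _ ⟨s, hs, rfl⟩ ⟨t, ht, rfl⟩
        exact ⟨s * t, (Y U4 U2).mul_mem hs ht, q_add s (L.le4 hs) t ht⟩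
      neg_mem' := by
        rintro _ ⟨s, hs, rfl⟩
        exact ⟨s⁻¹, (Y U4 U2).inv_mem hs, q_invY s hs⟩ }
  have F0_mem : ∀ k, k ∈ F0 ↔ ∃ t ∈ Y U4 U2, q t = k := fun k => Iff.rfl
  have F0_fix : ∀ k, sg k = k → k ∈ F0 := by
    refine fix_sub sgh F0 ?_ ((F0_mem 1).2 ⟨f, hfY, q_f⟩) ?_
    · rintro _ ⟨t, ht, rfl⟩
      exact C8 t ht
    · intro k hk
      refine (F0_mem _).2 ⟨st m e (jot k) f, nu_Y _ (jot_mem k), ?_⟩
      rw [← hnua, nu_sg _ (jot_mem k), jot_ι, ← hsgh, hk, sq]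
  obtain ⟨k0, hk0⟩ : ∃ k, sg k ≠ k := by
    by_contra hcon
    push Not at hcon
    obtain ⟨t, ht, ht'⟩ := (F0_mem _).1 (F0_fix (q x0) (hcon _))
    have h1 := q_add x0 hx0 t⁻¹ ((Y U4 U2).inv_mem ht)
    rw [q_invY t ht, ht', add_neg_cancel] at h1
    by_cases h2 : x0 * t⁻¹ = 1
    · have h3 : x0 = t := mul_inv_eq_one.1 h2
      exact hx0Y (h3 ▸ ht)
    · exact q_ne _ (U4.mul_mem hx0 (U4.inv_mem (L.le4 ht))) h2 h1
  -- skew-hermitian
  have F0_diff : ∀ x ∈ U4, ∀ y ∈ U4, sg (gg y x - gg x y) = gg y x - gg x y := by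
    intro x hx y hy
    obtain ⟨s, hs⟩ : ∃ s, s = x⁻¹ * y⁻¹ * x * y := ⟨_, rfl⟩
    have hsY : s⁻¹ ∈ Y U4 U2 := by
      rw [hs]; exact (Y U4 U2).inv_mem (L.c4 x hx y hy)
    have hsY' : s ∈ Y U4 U2 := by rw [hs]; exact L.c4 x hx y hy
    have e1 : x * y = (y * x) * s := by rw [hs]; group
    have e2 := q_add (y * x) (U4.mul_mem hy hx) s hsY'
    rw [← e1, q_mul x hx y hy, q_mul y hy x hx] at e2
    have e3 : gg y x - gg x y = q s := by linear_combination e2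
    rw [e3]; exact C8 s hsY'
  have skew : ∀ x ∈ U4, ∀ y ∈ U4, gg x y = -sg (gg y x) := by
    intro x hx y hy
    have key : ∀ k, k * (gg y x + sg (gg x y)) = sg k * (gg x y + sg (gg y x)) := by
      intro k
      have h1 := F0_diff x hx (st m e (jot k) y) (st_mem _ (jot_mem k) y hy)
      rw [gg_st x hx y hy _ (jot_mem k), C5' _ (jot_mem k) x hx y hy, jot_ι, sg_sub, sg_mul,
        sg_mul, sg_sg] at h1
      linear_combination -h1
    have k1 := key 1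
    rw [sg_one, one_mul, one_mul] at k1
    have k2 := key k0
    rw [k1] at k2
    have k3 : (k0 - sg k0) * (gg x y + sg (gg y x)) = 0 := by linear_combination k2
    rcases mul_eq_zero.1 k3 with h0 | h0
    · exact absurd (sub_eq_zero.1 h0).symm hk0
    · linear_combination h0
  -- `q x - σ (q x) = g x x`
  have nu_add : ∀ a ∈ U1, ∀ b ∈ U1, nu (a * b) = (sg (ι a) + sg (ι b)) * (ι a + ι b) := by
    intro a ha b hb
    rw [nu_sg _ (U1.mul_mem ha hb), ι_mul a ha b hb, sg_add]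
  have herm : ∀ x ∈ U4, q x - sg (q x) - gg x x = 0 := by
    obtain ⟨D, hD⟩ : ∃ D : G → K, D = fun x => q x - sg (q x) - gg x x := ⟨_, rfl⟩
    have hDx : ∀ x, D x = q x - sg (q x) - gg x x := fun x => by rw [hD]
    have D_mul : ∀ x ∈ U4, ∀ y ∈ U4, D (x * y) = D x + D y := by
      intro x hx y hy
      have hxy := U4.mul_mem hx hy
      rw [hDx, hDx, hDx, q_mul x hx y hy, gg_mul _ hxy x hx y hy, gg_mul' x hx x hx y hy,
        gg_mul' y hy x hx y hy, sg_add, sg_add]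
      have := skew x hx y hy
      linear_combination -this
    have D_st : ∀ a ∈ U1, ∀ x ∈ U4, D (st m e a x) = nu a * D x := by
      intro a ha x hx
      have hax := st_mem a ha x hx
      rw [hDx, hDx, q_st a ha x hx, sg_mul, sg_nu a ha, gg_st _ hax x hx a ha,
        C5' a ha x hx x hx]
      have := nu_sg a ha
      linear_combination (gg x x) * this
    have D_Y : ∀ s ∈ Y U4 U2, D s = 0 := by
      intro s hs
      rw [hDx, C8 s hs, gg_Y s (L.le4 hs) s hs]; ring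
    intro x hx
    rw [← hDx]
    by_contra hDne
    have hadd : ∀ a ∈ U1, ∀ b ∈ U1, nu (a * b) = nu a + nu b := by
      intro a ha b hb
      obtain ⟨z, hz, hz1, _⟩ := st_add a ha b hb x hx
      have e1 := D_st _ (U1.mul_mem ha hb) x hx
      have hax := st_mem a ha x hx
      rw [hz1, D_mul _ (U4.mul_mem hax (L.le4 hz)) _ (st_mem b hb x hx), D_mul _ hax _ (L.le4 hz),
        D_Y z hz, D_st a ha x hx, D_st b hb x hx] at e1
      apply mul_right_cancel₀ hDne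
      linear_combination -e1
    have hkl : ∀ k l, k * sg l + l * sg k = 0 := by
      intro k l
      have e1 := hadd _ (jot_mem k) _ (jot_mem l)
      rw [nu_add _ (jot_mem k) _ (jot_mem l), nu_sg _ (jot_mem k), nu_sg _ (jot_mem l), jot_ι,
        jot_ι] at e1
      linear_combination e1
    have h2 := hkl 1 1
    have h3 := hkl k0 1
    rw [sg_one] at h2 h3
    apply hk0
    linear_combination h3 - k0 * h2
  -- `[U1, U3]`
  have Y_inj : ∀ s ∈ Y U4 U2, ∀ t ∈ Y U4 U2, q s = q t → s = t := by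
    intro s hs t ht hst
    by_contra hne'
    have h1 := q_add s (L.le4 hs) t⁻¹ ((Y U4 U2).inv_mem ht)
    rw [q_invY t ht, hst, add_neg_cancel] at h1
    exact q_ne _ (U4.mul_mem (L.le4 hs) (U4.inv_mem (L.le4 ht)))
      (fun h2 => hne' (mul_inv_eq_one.1 h2)) h1
  have V2 : ∀ b ∈ U1, ∀ d ∈ U3, ∀ z ∈ U4, Φ m e z = κ b d →
      z ∈ Y U4 U2 ∧ q z = ι b * sg (P d) + sg (ι b) * P d := by
    intro b hb d hd z hz hzd
    obtain ⟨a, ha, rfl⟩ := h.Ψ_surj hf hf1 hd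
    obtain ⟨z', hz', hz1, hz2⟩ := st_add a ha b hb f hf
    have hzz : z = z' := Φ_inj m he1 (hzd.trans hz2.symm)
    subst hzz
    refine ⟨hz', ?_⟩
    have e1 : q (st m e (a * b) f) = nu a + q z + nu b := by
      rw [hz1, q_add _ (U4.mul_mem (st_mem a ha f hf) hz) _ (nu_Y b hb),
        q_add _ (st_mem a ha f hf) z hz', ← hnua, ← hnua]
    rw [← hnua, nu_add a ha b hb, nu_sg a ha, nu_sg b hb] at e1
    rw [P_f a ha]
    linear_combination -e1
  -- the system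
  have trm : ∀ k, ∃ t ∈ Y U4 U2, q t = k + sg k := fun k =>
    (F0_mem _).1 (F0_fix _ (by rw [sg_add, sg_sg, add_comm]))
  choose tr tr_Y q_tr using trm
  have bij : Function.Bijective sg :=
    ⟨fun a b hab => by rw [← sg_sg a, hab, sg_sg], fun a => ⟨sg a, sg_sg a⟩⟩
  let σ : K ≃+* K := RingEquiv.ofBijective sgh bij
  have hσ : ∀ k, σ k = sg k := fun _ => rfl
  let S : Sys K U4 :=
    { σ := σ
      σσ := fun k => sg_sg k
      ε := -1
      ε_mul := by rw [map_neg, map_one]; ring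
      c := fun p => sg (q p)
      h := fun p r => -sg (gg p r)
      smul := fun k p => ⟨st m e (jot (sg k)) p, st_mem _ (jot_mem _) _ p.2⟩
      tr := fun k => ⟨tr k, L.le4 (tr_Y k)⟩
      h_mul := by
        intro p r s
        rw [Subgroup.coe_mul, gg_mul s s.2 p p.2 r r.2, sg_add]; ring
      h_swap := by
        intro p r
        rw [map_neg, hσ, sg_sg, ← skew p p.2 r r.2]; ring
      c_mul := by
        intro p r
        rw [Subgroup.coe_mul, q_mul p p.2 r r.2, sg_add, sg_add]; ring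
      c_herm := by
        intro p
        rw [hσ, sg_sg]
        have h1 := herm p p.2
        have h2 := skew p p.2 p p.2
        linear_combination -h1 - h2
      h_smul := by
        intro a p r
        change -sg (gg (st m e (jot (sg a)) p) r) = a * (-sg (gg p r))
        rw [gg_st r r.2 p p.2 _ (jot_mem _), sg_mul, jot_ι, sg_sg]; ring
      c_smul := by
        intro a p
        change sg (q (st m e (jot (sg a)) p)) = a * σ a * sg (q p)
        rw [q_st _ (jot_mem _) p p.2, sg_mul, sg_nu _ (jot_mem _), nu_sg _ (jot_mem _), jot_ι,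
          sg_sg]
        rfl
      h_tr := by
        intro k p
        change -sg (gg (tr k) p) = 0
        rw [gg_Y' _ (tr_Y k) p p.2, sg_zero, neg_zero]
      c_tr := by
        intro k
        change sg (q (tr k)) = k - (-1) * σ k
        rw [q_tr, sg_add, sg_sg, hσ]; ring
      eq_one := by
        intro p hp
        by_contra hp1
        have h1 : (p : G) ≠ 1 := fun h2 => hp1 (Subtype.ext h2)
        have h2 : sgh (q p) = 0 := hp
        exact q_ne p p.2 h1 ((map_eq_zero sgh).1 h2) }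
  have y_ex : ∀ k : K, ∃ c ∈ U3, P c = k := fun k =>
    ⟨Φ n f (jot k), h.Ψ_mem hf (jot_mem k), by rw [P_f _ (jot_mem k), jot_ι]⟩
  choose yy yy_mem P_yy using y_ex
  have κ_x : ∀ a (v : G), ⁅(jot (-a) : G), v⁆ = κ (jot a) v := by
    intro a v
    have : jot (-a) = (jot a)⁻¹ := by
      apply ι_inj _ (jot_mem _) _ (U1.inv_mem (jot_mem _))
      rw [jot_ι, ι_inv _ (jot_mem _), jot_ι]
    rw [this, brk_inv_eq]
  refine ⟨K, inferInstance, S, fun a => jot (-a), yy, fun p => Φ m e p, fun p => (p : G), hKf, ?_⟩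
  exact
    { x_add := fun a b => by
        change jot (-(a + b)) = jot (-a) * jot (-b)
        rw [neg_add, jot_mul]
      y_add := fun a b => by
        apply P_inj _ (yy_mem _) _ (U3.mul_mem (yy_mem _) (yy_mem _))
        rw [P_mul _ (yy_mem _) _ (yy_mem _), P_yy, P_yy, P_yy]
      z₁_mul := fun p r => by
        change Φ m e ((p * r : U4) : G) = _
        rw [Subgroup.coe_mul, Φ_mul]
      z₂_mul := fun p r => Subgroup.coe_mul U4 p r
      x_inj := fun a b hab => by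
        have h1 : jot (-a) = jot (-b) := hab
        have h2 := congrArg ι h1
        rw [jot_ι, jot_ι] at h2
        exact neg_injective h2
      y_inj := fun a b hab => by rw [← P_yy a, hab, P_yy]
      z₁_inj := fun p r hpr => Subtype.ext (Φ_inj m he1 hpr)
      z₂_inj := Subtype.val_injective
      x_mem := fun g => by
        constructor
        · intro hg
          refine ⟨-ι g, ?_⟩
          change jot (- -ι g) = g
          rw [neg_neg, ι_jot g hg]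
        · rintro ⟨a, rfl⟩
          exact jot_mem _
      z₁_mem := fun g => by
        constructor
        · intro hg
          obtain ⟨x, hx, hx'⟩ := h.Φ_surj he he1 hg
          exact ⟨⟨x, hx⟩, hx'⟩
        · rintro ⟨p, rfl⟩
          exact h.Φ_mem he p.2
      y_mem := fun g => by
        constructor
        · intro hg
          exact ⟨P g, P_inj _ (yy_mem _) _ hg (P_yy _)⟩
        · rintro ⟨a, rfl⟩
          exact yy_mem _
      z₂_mem := fun g => by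
        constructor
        · intro hg
          exact ⟨⟨g, hg⟩, rfl⟩
        · rintro ⟨p, rfl⟩
          exact p.2
      x_z₂ := fun a p => by
        change ⁅jot (-a), (p : G)⁆ = Φ m e (st m e (jot (sg (sg a))) p) * yy (-(-1 * a * σ (sg (q p))))
        rw [κ_x, h.k (jot_mem a) p.2, sg_sg, Φ_st m he1]
        congr 1
        apply P_inj _ (h.Ψ_mem p.2 (jot_mem a)) _ (yy_mem _)
        rw [P_yy, C2 p p.2 _ (jot_mem a), jot_ι, hσ, sg_sg]; ring
      z₁_z₂ := fun p r => by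
        change ⁅Φ m e p, (r : G)⁆ = yy (- -sg (gg r p))
        have h1 : ⁅Φ m e p, (r : G)⁆ = κ (Φ m e (p : G)⁻¹) r := by rw [brk_eq, Φ_inv]
        rw [h1]
        have hpi := U4.inv_mem p.2
        apply P_inj _ (h.k24 _ (h.Φ_mem he hpi) r r.2) _ (yy_mem _)
        rw [P_yy, ← hgg', neg_neg]
        have h2 : gg (p : G)⁻¹ r = -gg p r := by
          have := gg_mul r r.2 (p : G)⁻¹ hpi p p.2
          rw [inv_mul_cancel, gg_Y' 1 (Y U4 U2).one_mem r r.2] at this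
          exact (neg_eq_of_add_eq_zero_left this.symm).symm
        rw [h2, skew p p.2 r r.2, neg_neg]
      x_y := fun a b => by
        change ⁅jot (-a), yy b⁆ = Φ m e (tr (σ a * b))
        rw [κ_x]
        obtain ⟨z, hz, hz'⟩ := h.Φ_surj he he1 (h.k13 _ (jot_mem a) _ (yy_mem b))
        obtain ⟨h1, h2⟩ := V2 _ (jot_mem a) _ (yy_mem b) z hz hz'
        rw [← hz']
        congr 1
        apply Y_inj z h1 _ (tr_Y _)
        rw [h2, q_tr, jot_ι, P_yy, hσ, sg_mul, sg_sg]; ring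
      x_z₁ := fun a p => h.c12 _ (jot_mem _) _ (h.Φ_mem he p.2)
      y_z₁ := fun b p => (h.c23 _ (h.Φ_mem he p.2) _ (yy_mem b)).symm
      y_z₂ := fun b p => h.c34 _ (yy_mem b) _ p.2 }

end Cfsg.Agent.SplitTwo.QuadNonred
end

-- part: SplitTwo/QuadRed
section
prune_inst 0x200000007822100000180504100020200000000200200001a00004000049c100a0050100020010000800ae502000000001100040022800000e00080000000100002802000000a000200010000000000000000000000000000000000000000000000000000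
set_option linter.all false
open scoped Cfsg.Agent.FastGrp

/-!
# Reduced Moufang quadrangles (orthogonal groups in dimension five and six)

`[U1, U3] = 1`.
-/

set_option autoImplicit false

universe u

namespace Cfsg.Agent.SplitTwo.QuadRed

open Cfsg.Agent.SplitTwo.QuadBase Cfsg.Agent.SplitTwo.QuadField Cfsg.Agent.SplitTwo.QuadCoord
open Cfsg.Agent.SplitTwo.QuadPos Cfsg.Agent.TitsThree.PQAbs
open scoped commutatorElement

/-! ### Independence of few field endomorphisms -/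

theorem three {K : Type*} [Field K] (t s₁ s₂ : K →+* K) (hs : s₁ ≠ s₂) (α β γ : K) (hγ : γ ≠ 0)
    (h : ∀ k, α * t k + β * s₁ k + γ * s₂ k = 0) : t = s₂ := by
  by_contra hne
  obtain ⟨l, hl⟩ : ∃ l, t l ≠ s₂ l := by
    by_contra hcon
    push Not at hcon
    exact hne (RingHom.ext hcon)
  have h1 : ∀ k, β * (s₁ l - t l) * s₁ k + γ * (s₂ l - t l) * s₂ k = 0 := by
    intro k
    have e1 := h (l * k)
    have e2 := h k
    simp only [map_mul] at e1
    linear_combination e1 - t l * e2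
  have h2 := h1 1
  rw [map_one, map_one, mul_one, mul_one] at h2
  have h3 : γ * (s₂ l - t l) ≠ 0 := mul_ne_zero hγ (sub_ne_zero.2 (Ne.symm hl))
  apply hs
  ext k
  have h4 : γ * (s₂ l - t l) * (s₂ k - s₁ k) = 0 := by
    linear_combination h1 k - s₁ k * h2
  rcases mul_eq_zero.1 h4 with h5 | h5
  · exact absurd h5 h3
  · exact (sub_eq_zero.1 h5).symm

theorem four {K : Type*} [Field K] (s₁ s₂ s : K →+* K) (hs : s ≠ RingHom.id K)
    (α β γ δ : K) (hγ : γ ≠ 0) (hδ : δ ≠ 0)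
    (h : ∀ k, α * s₁ k + β * s₂ k + γ * s k + δ * k = 0) :
    (s₁ = RingHom.id K ∧ s₂ = s) ∨ (s₁ = s ∧ s₂ = RingHom.id K) := by
  have h1 : ∀ l k, β * (s₂ l - s₁ l) * s₂ k + γ * (s l - s₁ l) * s k + δ * (l - s₁ l) * k = 0 := by
    intro l k
    have e1 := h (l * k)
    have e2 := h k
    simp only [map_mul] at e1
    linear_combination e1 - s₁ l * e2
  have h2 : s₁ = RingHom.id K ∨ s₂ = RingHom.id K := by
    by_cases hne : s₁ = RingHom.id K
    · exact Or.inl hne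
    · obtain ⟨l, hl⟩ : ∃ l, s₁ l ≠ l := by
        by_contra hcon
        push Not at hcon
        exact hne (RingHom.ext hcon)
      right
      exact three s₂ s (RingHom.id K) hs _ _ _ (mul_ne_zero hδ (sub_ne_zero.2 (Ne.symm hl)))
        (h1 l)
  have h3 : s₁ = s ∨ s₂ = s := by
    by_cases hne : s₁ = s
    · exact Or.inl hne
    · obtain ⟨l, hl⟩ : ∃ l, s₁ l ≠ s l := by
        by_contra hcon
        push Not at hcon
        exact hne (RingHom.ext hcon)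
      right
      refine three s₂ (RingHom.id K) s (Ne.symm hs) (β * (s₂ l - s₁ l)) (δ * (l - s₁ l)) _
        (mul_ne_zero hγ (sub_ne_zero.2 (Ne.symm hl))) (fun k => ?_)
      have := h1 l k
      rw [RingHom.id_apply]
      linear_combination this
  rcases h2 with h2 | h2
  · rcases h3 with h3 | h3
    · exact absurd (h3.symm.trans h2) hs
    · exact Or.inl ⟨h2, h3⟩
  · rcases h3 with h3 | h3
    · exact Or.inr ⟨h3, h2⟩
    · exact absurd (h3.symm.trans h2) hs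

/-- The crucial algebraic fact of the reduced case. -/
theorem eq_id {K : Type*} [Field K] (s : K →+* K) (q : K) (hq : q ≠ 0) (A : K → K)
    (S : K → (K →+* K)) (Gx : K → K)
    (h : ∀ l, l ≠ 0 → ∀ k, A l * S l k = q * s k + Gx (l * k) + l ^ 2 * k) : s = RingHom.id K := by
  by_contra hs
  have key : ∀ l m, l ≠ 0 → m ≠ 0 → l ≠ m →
      (S l = RingHom.id K ∧ S m = s) ∨ (S l = s ∧ S m = RingHom.id K) := by
    intro l m hl hm hlm
    have hsl : s l ≠ 0 := (map_ne_zero s).2 hl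
    have hsm : s m ≠ 0 := (map_ne_zero s).2 hm
    have hSl : S l l ≠ 0 := (map_ne_zero (S l)).2 hl
    have hSm : S m m ≠ 0 := (map_ne_zero (S m)).2 hm
    have hslm : s l ≠ s m := fun h0 => hlm (s.injective h0)
    refine four (S l) (S m) s hs (A l / S l l) (-(A m / S m m)) (q / s m - q / s l) (m - l) ?_
      (sub_ne_zero.2 (Ne.symm hlm)) ?_
    · rw [sub_ne_zero]
      intro h0
      rw [div_eq_div_iff hsm hsl] at h0
      exact hslm (mul_left_cancel₀ hq h0)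
    · intro k
      have e1 := h l hl (k / l)
      have e2 := h m hm (k / m)
      rw [mul_div_cancel₀ _ hl] at e1
      rw [mul_div_cancel₀ _ hm] at e2
      rw [map_div₀, map_div₀] at e1 e2
      have e3 : l ^ 2 * (k / l) = l * k := by field_simp
      have e4 : m ^ 2 * (k / m) = m * k := by field_simp
      rw [e3] at e1
      rw [e4] at e2
      have e5 : A l * (S l k / S l l) = A l / S l l * S l k := by ring
      have e6 : A m * (S m k / S m m) = A m / S m m * S m k := by ring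
      rw [e5] at e1
      rw [e6] at e2
      linear_combination e1 - e2
  obtain ⟨k, hk⟩ : ∃ k, s k ≠ k := by
    by_contra hcon
    push Not at hcon
    exact hs (RingHom.ext hcon)
  have hk0 : k ≠ 0 := by
    rintro rfl; exact hk (map_zero s)
  have hk1 : k ≠ 1 := by
    rintro rfl; exact hk (map_one s)
  have hs0 : s k ≠ 0 := (map_ne_zero s).2 hk0
  have hs1 : s k ≠ 1 := fun h1 => hk1 (s.injective (h1.trans (map_one s).symm))
  rcases key 1 k one_ne_zero hk0 (Ne.symm hk1) with ⟨a1, a2⟩ | ⟨a1, a2⟩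
  · rcases key 1 (s k) one_ne_zero hs0 (Ne.symm hs1) with ⟨b1, b2⟩ | ⟨b1, b2⟩
    · rcases key k (s k) hk0 hs0 (Ne.symm hk) with ⟨c1, c2⟩ | ⟨c1, c2⟩
      · exact hs (a2.symm.trans c1)
      · exact hs (b2.symm.trans c2)
    · exact hs (b1.symm.trans a1)
  · rcases key 1 (s k) one_ne_zero hs0 (Ne.symm hs1) with ⟨b1, b2⟩ | ⟨b1, b2⟩
    · exact hs (a1.symm.trans b1)
    · rcases key k (s k) hk0 hs0 (Ne.symm hk) with ⟨c1, c2⟩ | ⟨c1, c2⟩
      · exact hs (c2.symm.trans b2)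
      · exact hs (c1.symm.trans a2)

variable {G : Type u} [Group G] {U1 U2 U3 U4 : Subgroup G} {m n : G → G}

/-- The trivial layer, in the reduced case. -/
theorem lay (h : Quad U1 U2 U3 U4 m n) (hred : ∀ a ∈ U1, ∀ c ∈ U3, Commute a c) {e : G}
    (he : e ∈ U1) (he1 : e ≠ 1) (hne : ∃ x ∈ U4, x ≠ 1) :
    Lay U1 U2 U3 U4 ⊥ ⊥ m where
  le2 := bot_le
  le4 := bot_le
  Φ_iff a ha ha1 x hx := by
    rw [Subgroup.mem_bot, Subgroup.mem_bot]
    constructor
    · intro h1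
      exact Φ_inj m ha1 (h1.trans (Φ_one_right m a).symm)
    · rintro rfl
      exact Φ_one_right m a
  v2 a ha c hc := by rw [Subgroup.mem_bot]; exact κ_eq_one_iff.2 (hred a ha c hc)
  c4 x hx y hy := by
    rw [Subgroup.mem_bot]
    have h2 := h.comm2_of_Y1 he he1 (hred e he)
    have h4 := h.comm4_of_comm2 he he1 h2 x hx y hy
    calc x⁻¹ * y⁻¹ * x * y = x⁻¹ * y⁻¹ * (x * y) := by group
      _ = 1 := by rw [h4.eq]; group
  ne := by
    obtain ⟨x, hx, hx1⟩ := hne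
    exact ⟨x, hx, by rwa [Subgroup.mem_bot]⟩
  nrm4 g _ z hz := by
    rw [Subgroup.mem_bot] at hz ⊢
    rw [hz]; group
  nrm2 g _ z hz := by
    rw [Subgroup.mem_bot] at hz ⊢
    rw [hz]; group

/-- The reduced case. -/
theorem exists_pos [Finite G] (h : Quad U1 U2 U3 U4 m n)
    (hred : ∀ a ∈ U1, ∀ c ∈ U3, Commute a c) {e : G} (he : e ∈ U1) (he1 : e ≠ 1) {f : G}
    (hf : f ∈ U4) (hf1 : f ≠ 1) :
    ∃ (K : Type u) (_ : Field K) (S : Sys K U4) (x y : K → G) (z₁ z₂ : U4 → G), Finite K ∧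
      Pos S U1 U2 U3 U4 x y z₁ z₂ := by
  classical
  have L := lay h hred he he1 ⟨f, hf, hf1⟩
  have comm4 : ∀ x ∈ U4, ∀ y ∈ U4, Commute x y :=
    h.comm4_of_comm2 he he1 (h.comm2_of_Y1 he he1 (hred e he))
  obtain ⟨K, _, ι, hKf, ι_mul, ι_inj, ι_surj, ι_e, ι_K1, ι_E, ι_T⟩ := coord h L he he1
  choose jot jot_mem jot_ι using ι_surj
  have ι_jot : ∀ a ∈ U1, jot (ι a) = a := fun a ha => ι_inj _ (jot_mem _) _ ha (jot_ι _)
  have ι_one : ι 1 = 0 := by
    have := ι_mul 1 U1.one_mem 1 U1.one_mem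
    rw [mul_one] at this
    simpa using this
  have ι_inv : ∀ a ∈ U1, ι a⁻¹ = -ι a := by
    intro a ha
    have := ι_mul a⁻¹ (U1.inv_mem ha) a ha
    rw [inv_mul_cancel, ι_one] at this
    exact (neg_eq_of_add_eq_zero_left this.symm).symm
  have ι_ne : ∀ a ∈ U1, a ≠ 1 → ι a ≠ 0 := fun a ha ha1 h0 =>
    ha1 (ι_inj a ha 1 U1.one_mem (h0.trans ι_one.symm))
  have jot_mul : ∀ k l, jot (k + l) = jot k * jot l := by
    intro k l
    apply ι_inj _ (jot_mem _) _ (U1.mul_mem (jot_mem _) (jot_mem _))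
    rw [jot_ι, ι_mul _ (jot_mem _) _ (jot_mem _), jot_ι, jot_ι]
  have jot_ne : ∀ k, k ≠ 0 → jot k ≠ 1 := by
    intro k hk h1
    apply hk
    rw [← jot_ι k, h1, ι_one]
  -- coordinates on `U3`
  obtain ⟨P, hP⟩ : ∃ P : G → K, P = fun c => ι ((n f)⁻¹ * c * n f) := ⟨_, rfl⟩
  have hPc : ∀ c, P c = ι ((n f)⁻¹ * c * n f) := fun c => by rw [hP]
  have hP1 : ∀ c ∈ U3, (n f)⁻¹ * c * n f ∈ U1 := by
    intro c hc
    have := h.n3 f⁻¹ (U4.inv_mem hf) (inv_ne_one.2 hf1) c hc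
    rwa [h.n_inv f hf hf1, inv_inv] at this
  have P_f : ∀ a ∈ U1, P (Φ n f a) = ι a := by
    intro a ha
    rw [hPc, Φ_ne n hf1]
    congr 1; group
  have P_mul : ∀ c ∈ U3, ∀ d ∈ U3, P (c * d) = P c + P d := by
    intro c hc d hd
    rw [hPc, hPc, hPc, ← ι_mul _ (hP1 c hc) _ (hP1 d hd)]
    congr 1; group
  have P_one : P 1 = 0 := by
    rw [hPc, mul_one, inv_mul_cancel, ι_one]
  have P_inj : ∀ c ∈ U3, ∀ d ∈ U3, P c = P d → c = d := by
    intro c hc d hd hcd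
    rw [hPc, hPc] at hcd
    have := ι_inj _ (hP1 c hc) _ (hP1 d hd) hcd
    exact mul_left_cancel (mul_right_cancel this)
  have P_gen : ∀ x, x ≠ 1 → ∀ a, P (Φ n x a) = ι (((n f)⁻¹ * n x) * a * ((n f)⁻¹ * n x)⁻¹) := by
    intro x hx1 a
    rw [hPc, Φ_ne n hx1]
    congr 1; group
  -- the function `q`
  obtain ⟨q, hq⟩ : ∃ q : G → K, q = fun x => P (Φ n x e) := ⟨_, rfl⟩
  have hqx : ∀ x, q x = P (Φ n x e) := fun x => by rw [hq]
  have q_f : q f = 1 := by rw [hqx, P_f e he, ι_e]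
  have q_one : q 1 = 0 := by rw [hqx, Φ_one_left, P_one]
  have q_ne : ∀ x ∈ U4, x ≠ 1 → q x ≠ 0 := by
    intro x hx hx1
    rw [hqx, P_gen x hx1]
    have hg := h.nrm_n hx hx1 hf hf1
    apply ι_ne _ (hg.u1 e he)
    intro h1
    exact he1 (conj_eq_one_iff.1 h1)
  -- scaling
  have st_mem : ∀ a ∈ U1, ∀ x ∈ U4, st m e a x ∈ U4 := fun a ha x hx => h.st_mem he he1 ha hx
  have st_add : ∀ a ∈ U1, ∀ b ∈ U1, ∀ x ∈ U4, st m e (a * b) x = st m e a x * st m e b x := by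
    intro a ha b hb x hx
    have e1 := h.star ha hb hx
    rw [κ_eq_one_iff.2 (hred b hb _ (h.Ψ_mem hx ha)), mul_one, ← Φ_st m he1 a x,
      ← Φ_st m he1 b x, ← Φ_st m he1 (a * b) x, ← Φ_mul] at e1
    exact Φ_inj m he1 e1
  have st_st : ∀ a ∈ U1, ∀ b ∈ U1, ∀ x ∈ U4, st m e a (st m e b x) = st m e (jot (ι a * ι b)) x := by
    intro a ha b hb x hx
    have := ι_K1 a ha b hb _ (jot_mem (ι a * ι b)) (jot_ι _) x hx
    rw [Subgroup.mem_bot] at this
    exact (inv_mul_eq_one.1 this).symm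
  -- torus
  have ι_tor : ∀ a ∈ U1, a ≠ 1 → ∀ c ∈ U1,
      ι (((m e)⁻¹ * m a) * c * ((m e)⁻¹ * m a)⁻¹) = ι c / ι a ^ 2 := by
    intro a ha ha1 c hc
    have := ι_T a ha ha1 e he he1 c hc
    rw [ι_e, one_pow, one_mul] at this
    rw [← this]
    have := ι_ne a ha ha1
    field_simp
  have fix3 : ∀ a ∈ U1, a ≠ 1 → ∀ c ∈ U3, ((m e)⁻¹ * m a) * c * ((m e)⁻¹ * m a)⁻¹ = c := by
    intro a ha ha1 c hc
    have e1 := h.fix3 a ha ha1 c hc (fun a' ha' => hred a' ha' c hc)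
    have e2 := h.fix3 e he he1 c hc (fun a' ha' => hred a' ha' c hc)
    calc (m e)⁻¹ * m a * c * ((m e)⁻¹ * m a)⁻¹ = (m e)⁻¹ * (m a * c * (m a)⁻¹) * m e := by group
      _ = (m e)⁻¹ * (m e * c * (m e)⁻¹) * m e := by rw [e1, e2]
      _ = c := by group
  have tor : ∀ a ∈ U1, a ≠ 1 → ∀ x ∈ U4, ∀ k,
      P (Φ n (st m e a x) (jot k)) = P (Φ n x (jot (ι a ^ 2 * k))) := by
    intro a ha ha1 x hx k
    have hg := h.nrm_m ha ha1 he he1
    have e1 := (h.equiv hg (jot_mem (ι a ^ 2 * k)) hx).2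
    rw [fix3 a ha ha1 _ (h.Ψ_mem hx (jot_mem _)), ← st_eq_nrm m ha1] at e1
    rw [← e1]
    congr 2
    apply ι_inj _ (jot_mem _) _ (hg.u1 _ (jot_mem _))
    rw [ι_tor a ha ha1 _ (jot_mem _), jot_ι, jot_ι]
    have := ι_ne a ha ha1
    field_simp
  have exp : ∀ x ∈ U4, ∀ y ∈ U4, ∀ c ∈ U1,
      P (Φ n (x * y) c) = P (Φ n x c) + P (κ (Φ m c y) x) + P (Φ n y c) := by
    intro x hx y hy c hc
    rw [h.star' hc hx hy, P_mul _ (U3.mul_mem (h.Ψ_mem hx hc) (h.k24 _ (h.Φ_mem hc hy) x hx))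
      _ (h.Ψ_mem hy hc), P_mul _ (h.Ψ_mem hx hc) _ (h.k24 _ (h.Φ_mem hc hy) x hx)]
  have P_st_f : ∀ a ∈ U1, ∀ c ∈ U1, P (Φ n (st m e a f) c) = ι a ^ 2 * ι c := by
    intro a ha c hc
    by_cases ha1 : a = 1
    · rw [ha1, st_one_left, Φ_one_left, P_one, ι_one]; ring
    · have e1 := tor a ha ha1 f hf (ι c)
      rw [ι_jot c hc, P_f _ (jot_mem _), jot_ι] at e1
      exact e1
  -- `(C2)`
  have C2 : ∀ x ∈ U4, ∀ a ∈ U1, P (Φ n x a) = q x * ι a := by
    intro x hx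
    by_cases hx1 : x = 1
    · intro a ha
      rw [hx1, Φ_one_left, P_one, q_one, zero_mul]
    by_cases hcase : ∃ b ∈ U1, x * st m e b f = 1
    · obtain ⟨b, hb, hxb⟩ := hcase
      have e1 : x = st m e b⁻¹ f := by
        have e2 := st_add b⁻¹ (U1.inv_mem hb) b hb f hf
        rw [inv_mul_cancel, st_one_left] at e2
        exact mul_right_cancel (hxb.trans e2)
      intro a ha
      rw [hqx, e1, P_st_f _ (U1.inv_mem hb) a ha, P_st_f _ (U1.inv_mem hb) e he, ι_e, mul_one]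
    · push Not at hcase
      obtain ⟨s, hs⟩ := ι_E _ (h.nrm_n hx hx1 hf hf1)
      have hs' : ∀ b ∈ U1, P (Φ n x b) = q x * s (ι b) := by
        intro b hb
        rw [P_gen x hx1, hs b hb, hqx, P_gen x hx1]
      have hS : ∀ l : K, ∃ t : K →+* K, ∀ b ∈ U1,
          P (Φ n (x * st m e (jot l) f) b) = q (x * st m e (jot l) f) * t (ι b) := by
        intro l
        have hx' : x * st m e (jot l) f ≠ 1 := hcase _ (jot_mem l)
        obtain ⟨t, ht⟩ := ι_E _ (h.nrm_n (U4.mul_mem hx (st_mem _ (jot_mem l) f hf)) hx' hf hf1)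
        refine ⟨t, fun b hb => ?_⟩
        rw [P_gen _ hx', ht b hb, hqx, P_gen _ hx']
      choose S hS using hS
      have hid : s = RingHom.id K := by
        refine eq_id s (q x) (q_ne x hx hx1) (fun l => q (x * st m e (jot l) f)) S
          (fun k => P (κ (Φ m (jot k) f) x)) ?_
        intro l _ k
        have e1 := hS l (jot k) (jot_mem k)
        have hlf := st_mem _ (jot_mem l) f hf
        rw [jot_ι] at e1
        rw [← e1, exp x hx _ hlf _ (jot_mem k), hs' _ (jot_mem k), P_st_f _ (jot_mem l) _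
          (jot_mem k), jot_ι, jot_ι]
        have e2 : Φ m (jot k) (st m e (jot l) f) = Φ m (jot (l * k)) f := by
          rw [← Φ_st m he1, st_st _ (jot_mem k) _ (jot_mem l) f hf, Φ_st m he1, jot_ι, jot_ι,
            mul_comm]
        rw [e2]
      intro a ha
      rw [hs' a ha, hid, RingHom.id_apply]
  have q_st : ∀ a ∈ U1, ∀ x ∈ U4, q (st m e a x) = ι a ^ 2 * q x := by
    intro a ha x hx
    by_cases ha1 : a = 1
    · rw [ha1, st_one_left, q_one, ι_one]; ring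
    have e1 := tor a ha ha1 x hx 1
    rw [C2 _ (st_mem a ha x hx) _ (jot_mem _), C2 _ hx _ (jot_mem _), jot_ι, jot_ι] at e1
    linear_combination e1
  -- the form `g`
  obtain ⟨gg, hgg⟩ : ∃ gg : G → G → K, gg = fun y x => P (κ (Φ m e y) x) := ⟨_, rfl⟩
  have hgg' : ∀ y x, gg y x = P (κ (Φ m e y) x) := fun y x => by rw [hgg]
  have C4 : ∀ x ∈ U4, ∀ y ∈ U4, ∀ c ∈ U1,
      P (κ (Φ m c y) x) = (q (x * y) - q x - q y) * ι c := by
    intro x hx y hy c hc
    have h1 := C2 (x * y) (U4.mul_mem hx hy) c hc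
    rw [exp x hx y hy c hc, C2 x hx c hc, C2 y hy c hc] at h1
    linear_combination h1
  have q_mul : ∀ x ∈ U4, ∀ y ∈ U4, q (x * y) = q x + q y + gg y x := by
    intro x hx y hy
    have h1 := C4 x hx y hy e he
    rw [← hgg', ι_e] at h1
    linear_combination -h1
  have P_κ : ∀ x ∈ U4, ∀ y ∈ U4, ∀ c ∈ U1, P (κ (Φ m c y) x) = ι c * gg y x := by
    intro x hx y hy c hc
    rw [C4 x hx y hy c hc, q_mul x hx y hy]; ring
  have gg_st : ∀ x ∈ U4, ∀ y ∈ U4, ∀ c ∈ U1, gg (st m e c y) x = ι c * gg y x := by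
    intro x hx y hy c hc
    rw [hgg', Φ_st m he1, P_κ x hx y hy c hc]
  have gg_mul : ∀ x ∈ U4, ∀ y ∈ U4, ∀ y' ∈ U4, gg (y * y') x = gg y x + gg y' x := by
    intro x hx y hy y' hy'
    rw [hgg', hgg', hgg', Φ_mul, h.κ24_mul_left (h.Φ_mem he hy) (h.Φ_mem he hy') hx,
      P_mul _ (h.k24 _ (h.Φ_mem he hy) x hx) _ (h.k24 _ (h.Φ_mem he hy') x hx)]
  have gg_one : ∀ x ∈ U4, gg 1 x = 0 := by
    intro x hx
    rw [hgg', Φ_one_right, κ_one_left, P_one]
  have gg_symm : ∀ x ∈ U4, ∀ y ∈ U4, gg x y = gg y x := by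
    intro x hx y hy
    have h1 := q_mul x hx y hy
    have h2 := q_mul y hy x hx
    rw [(comm4 x hx y hy).eq] at h1
    linear_combination h1 - h2
  have gg_self : ∀ x ∈ U4, gg x x = 2 * q x := by
    intro x hx
    have h1 := q_mul x hx x hx
    have h2 := st_add e he e he x hx
    rw [st_self m he1] at h2
    rw [← h2, q_st _ (U1.mul_mem he he) x hx, ι_mul e he e he, ι_e] at h1
    linear_combination -h1
  -- the system
  let S : Sys K U4 :=
    { σ := RingEquiv.refl K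
      σσ := fun k => rfl
      ε := 1
      ε_mul := by simp
      c := fun p => -q p
      h := fun p r => gg p r
      smul := fun k p => ⟨st m e (jot k) p, st_mem _ (jot_mem _) _ p.2⟩
      tr := fun _ => 1
      h_mul := fun p r s => gg_mul s s.2 p p.2 r r.2
      h_swap := by
        intro p r
        rw [gg_symm r r.2 p p.2, one_mul]; rfl
      c_mul := by
        intro p r
        rw [Subgroup.coe_mul, q_mul p p.2 r r.2]; ring
      c_herm := by
        intro p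
        rw [gg_self p p.2]
        change -q p + 1 * (-q p) = _
        ring
      h_smul := by
        intro a p r
        change gg (st m e (jot a) p) r = a * gg p r
        rw [gg_st r r.2 p p.2 _ (jot_mem _), jot_ι]
      c_smul := by
        intro a p
        change -q (st m e (jot a) p) = a * a * -q p
        rw [q_st _ (jot_mem _) p p.2, jot_ι]; ring
      h_tr := by
        intro k p
        exact gg_one p p.2
      c_tr := by
        intro k
        change -q 1 = k - 1 * k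
        rw [q_one]; ring
      eq_one := by
        intro p hp
        by_contra hp1
        have h1 : (p : G) ≠ 1 := fun h2 => hp1 (Subtype.ext h2)
        exact q_ne p p.2 h1 (neg_eq_zero.1 hp) }
  have y_ex : ∀ k : K, ∃ c ∈ U3, P c = k := fun k =>
    ⟨Φ n f (jot k), h.Ψ_mem hf (jot_mem k), by rw [P_f _ (jot_mem k), jot_ι]⟩
  choose yy yy_mem P_yy using y_ex
  have κ_x : ∀ a (v : G), ⁅(jot (-a) : G), v⁆ = κ (jot a) v := by
    intro a v
    have : jot (-a) = (jot a)⁻¹ := by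
      apply ι_inj _ (jot_mem _) _ (U1.inv_mem (jot_mem _))
      rw [jot_ι, ι_inv _ (jot_mem _), jot_ι]
    rw [this, brk_inv_eq]
  refine ⟨K, inferInstance, S, fun a => jot (-a), yy, fun p => Φ m e p, fun p => (p : G), hKf, ?_⟩
  exact
    { x_add := fun a b => by
        change jot (-(a + b)) = jot (-a) * jot (-b)
        rw [neg_add, jot_mul]
      y_add := fun a b => by
        apply P_inj _ (yy_mem _) _ (U3.mul_mem (yy_mem _) (yy_mem _))
        rw [P_mul _ (yy_mem _) _ (yy_mem _), P_yy, P_yy, P_yy]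
      z₁_mul := fun p r => by
        change Φ m e ((p * r : U4) : G) = _
        rw [Subgroup.coe_mul, Φ_mul]
      z₂_mul := fun p r => Subgroup.coe_mul U4 p r
      x_inj := fun a b hab => by
        have h1 : jot (-a) = jot (-b) := hab
        have h2 := congrArg ι h1
        rw [jot_ι, jot_ι] at h2
        exact neg_injective h2
      y_inj := fun a b hab => by rw [← P_yy a, hab, P_yy]
      z₁_inj := fun p r hpr => Subtype.ext (Φ_inj m he1 hpr)
      z₂_inj := Subtype.val_injective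
      x_mem := fun g => by
        constructor
        · intro hg
          refine ⟨-ι g, ?_⟩
          change jot (- -ι g) = g
          rw [neg_neg, ι_jot g hg]
        · rintro ⟨a, rfl⟩
          exact jot_mem _
      z₁_mem := fun g => by
        constructor
        · intro hg
          obtain ⟨x, hx, hx'⟩ := h.Φ_surj he he1 hg
          exact ⟨⟨x, hx⟩, hx'⟩
        · rintro ⟨p, rfl⟩
          exact h.Φ_mem he p.2
      y_mem := fun g => by
        constructor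
        · intro hg
          exact ⟨P g, P_inj _ (yy_mem _) _ hg (P_yy _)⟩
        · rintro ⟨a, rfl⟩
          exact yy_mem _
      z₂_mem := fun g => by
        constructor
        · intro hg
          exact ⟨⟨g, hg⟩, rfl⟩
        · rintro ⟨p, rfl⟩
          exact p.2
      x_z₂ := fun a p => by
        change ⁅jot (-a), (p : G)⁆ = Φ m e (st m e (jot a) p) * yy (-(1 * a * -q p))
        rw [κ_x, h.k (jot_mem a) p.2, Φ_st m he1]
        congr 1
        apply P_inj _ (h.Ψ_mem p.2 (jot_mem a)) _ (yy_mem _)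
        rw [P_yy, C2 p p.2 _ (jot_mem a), jot_ι]; ring
      z₁_z₂ := fun p r => by
        change ⁅Φ m e p, (r : G)⁆ = yy (-gg r p)
        have h1 : ⁅Φ m e p, (r : G)⁆ = κ (Φ m e (p : G)⁻¹) r := by rw [brk_eq, Φ_inv]
        rw [h1]
        have hpi := U4.inv_mem p.2
        apply P_inj _ (h.k24 _ (h.Φ_mem he hpi) r r.2) _ (yy_mem _)
        rw [P_yy, ← hgg']
        have h2 : gg (p : G)⁻¹ r = -gg p r := by
          have := gg_mul r r.2 (p : G)⁻¹ hpi p p.2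
          rw [inv_mul_cancel, gg_one r r.2] at this
          exact (neg_eq_of_add_eq_zero_left this.symm).symm
        rw [h2, gg_symm p p.2 r r.2]
      x_y := fun a b => by
        change ⁅jot (-a), yy b⁆ = Φ m e ((1 : U4) : G)
        rw [κ_x, κ_eq_one_iff.2 (hred _ (jot_mem a) _ (yy_mem b)), Subgroup.coe_one, Φ_one_right]
      x_z₁ := fun a p => h.c12 _ (jot_mem _) _ (h.Φ_mem he p.2)
      y_z₁ := fun b p => (h.c23 _ (h.Φ_mem he p.2) _ (yy_mem b)).symm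
      y_z₂ := fun b p => h.c34 _ (yy_mem b) _ p.2 }

end Cfsg.Agent.SplitTwo.QuadRed
end

-- part: SplitTwo/QuadFinal
section
prune_inst 0x40001000020000000502100020000000000000230001c14002000200c12009002700000010000800ae000000000000000000001000000000800000010100040242021300a10426009ec09800000000000000000000000000000000000000000000000
set_option linter.all false
open scoped Cfsg.Agent.FastGrp

-- part: SplitTwo/QuadIdent
section
/-!
# Identification of simple groups with a `B₂` package (S1144, `m = 4`)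

`ident`: `G` simple, `K` a nontrivial group, both generated by `B₂` packages over the same datum, and no nontrivial
normal subgroup of `K` normalises the positive part of `K`; then `G ≃* K`.
-/

set_option autoImplicit false

namespace Cfsg.Agent.SplitTwo.QuadIdent

open Cfsg.Agent.TitsThree.B2Pkg Cfsg.Agent.TitsThree.RankTwoRGD Cfsg.Agent.TitsThree.RankTwoIdx
  Cfsg.Agent.TitsThree.RankTwoIdent Cfsg.Agent.TitsThree.CoreB2 Cfsg.Agent.TitsThree.RankTwoIdentB2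
  Cfsg.Agent.TitsThree.B2NI Cfsg.Agent.TitsThree.StdData Cfsg.Agent.TitsThree

universe u v

/-- Graph argument. -/
theorem equiv_of_graph' {G : Type u} {K : Type v} [Group G] [Group K] [IsSimpleGroup G] [Nontrivial K]
    (Γ : Subgroup (G × K)) (hG : Γ.map (MonoidHom.fst G K) = ⊤) (hK : Γ.map (MonoidHom.snd G K) = ⊤)
    (h : ∀ L : Subgroup K, L.Normal → (∀ k ∈ L, ((1 : G), k) ∈ Γ) → L = ⊥) : Nonempty (G ≃* K) := by
  have hG' : ∀ g : G, ∃ k : K, (g, k) ∈ Γ := by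
    intro g
    have : g ∈ Γ.map (MonoidHom.fst G K) := by rw [hG]; trivial
    obtain ⟨⟨g', k⟩, h1, h2⟩ := this
    exact ⟨k, by rw [← h2]; exact h1⟩
  have hK' : ∀ k : K, ∃ g : G, (g, k) ∈ Γ := by
    intro k
    have : k ∈ Γ.map (MonoidHom.snd G K) := by rw [hK]; trivial
    obtain ⟨⟨g, k'⟩, h1, h2⟩ := this
    exact ⟨g, by rw [← h2]; exact h1⟩
  let L : Subgroup K := Γ.comap (MonoidHom.inr G K)
  have hL : L.Normal := by
    constructor
    intro k hk k'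
    obtain ⟨g', h'⟩ := hK' k'
    have h1 := mul_mem (mul_mem h' hk) (inv_mem h')
    change ((1 : G), k' * k * k'⁻¹) ∈ Γ
    convert h1 using 1
    simp [MonoidHom.inr]
  have hL1 : L = ⊥ := h L hL fun k hk => hk
  have hL2 : ∀ k : K, ((1 : G), k) ∈ Γ → k = 1 := by
    intro k hk
    have : k ∈ L := hk
    rw [hL1] at this
    exact this
  let L' : Subgroup G := Γ.comap (MonoidHom.inl G K)
  have hL' : L'.Normal := by
    constructor
    intro g hg g'
    obtain ⟨k', h'⟩ := hG' g'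
    have h1 := mul_mem (mul_mem h' hg) (inv_mem h')
    change (g' * g * g'⁻¹, (1 : K)) ∈ Γ
    convert h1 using 1
    simp [MonoidHom.inl]
  have hL'1 : ∀ g : G, (g, (1 : K)) ∈ Γ → g = 1 := by
    intro g hg
    rcases hL'.eq_bot_or_eq_top with h1 | h1
    · have : g ∈ L' := hg
      rw [h1] at this
      exact this
    · exfalso
      obtain ⟨k, hk⟩ := exists_ne (1 : K)
      obtain ⟨g', h'⟩ := hK' k
      have h2 : g' ∈ L' := by rw [h1]; trivial
      have h3 := mul_mem h' (inv_mem h2)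
      apply hk
      apply hL2
      convert h3 using 1
      simp [MonoidHom.inl]
  have e1 : Function.Bijective ((MonoidHom.fst G K).comp Γ.subtype) := by
    constructor
    · rw [injective_iff_map_eq_one]
      rintro ⟨⟨g, k⟩, hγ⟩ h1
      have h2 : g = 1 := h1
      subst h2
      have h3 := hL2 k hγ
      subst h3
      rfl
    · intro g
      obtain ⟨k, hk⟩ := hG' g
      exact ⟨⟨(g, k), hk⟩, rfl⟩
  have e2 : Function.Bijective ((MonoidHom.snd G K).comp Γ.subtype) := by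
    constructor
    · rw [injective_iff_map_eq_one]
      rintro ⟨⟨g, k⟩, hγ⟩ h1
      have h2 : k = 1 := h1
      subst h2
      have h3 := hL'1 g hγ
      subst h3
      rfl
    · intro k
      obtain ⟨g, hg⟩ := hK' k
      exact ⟨⟨(g, k), hg⟩, rfl⟩
  exact ⟨(MulEquiv.ofBijective _ e1).symm.trans (MulEquiv.ofBijective _ e2)⟩

variable {F : Type*} [Field F] {V : Type*} [AddCommGroup V] [Module F V] {D : PQDatum F V}

/-- **[ID] for `m = 4`**. -/
theorem ident {G : Type u} {K : Type v} [Group G] [Group K] [IsSimpleGroup G] [Nontrivial K]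
    {mG : B2Maps D G} {mK : B2Maps D K} (hG : B2Rel mG) (hK : B2Rel mK)
    (ex : ∃ p : D.T, p.c ≠ 0)
    (gG : Subgroup.closure (genSet mG) = ⊤) (gK : Subgroup.closure (genSet mK) = ⊤)
    (hGI : ∃ a, mG.x' a ∉ Subgroup.closure (posSet mG))
    (hGJ : ∃ p, mG.z₂' p ∉ Subgroup.closure (posSet mG))
    (hKL : ∀ L : Subgroup K, L.Normal →
      L ≤ Subgroup.normalizer (Subgroup.closure (posSet mK) : Set K) → L = ⊥) :
    Nonempty (G ≃* K) := by
  obtain ⟨r, hr⟩ := ex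
  have h := hG.prod hK
  have hn : NIRel (mG.prod mK) := nirel h hr
  have hU := RankTwoIdentB2.U_le h hn r hr
  have hGen := RankTwoIdentB2.gen_le h hn r hr
  set c := (r2 h hn r hr).core with hc
  have hUG : (c.U).map (MonoidHom.fst G K) ≤ Subgroup.closure (posSet mG) := by
    refine (Subgroup.map_mono hU).trans ?_
    rw [MonoidHom.map_closure, Subgroup.closure_le]
    rintro _ ⟨g, (⟨a, rfl | rfl⟩ | ⟨p, rfl | rfl⟩), rfl⟩
    · exact Subgroup.subset_closure (Or.inl ⟨a, Or.inl rfl⟩)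
    · exact Subgroup.subset_closure (Or.inl ⟨a, Or.inr rfl⟩)
    · exact Subgroup.subset_closure (Or.inr ⟨p, Or.inl rfl⟩)
    · exact Subgroup.subset_closure (Or.inr ⟨p, Or.inr rfl⟩)
  have hXU : ∀ k, 1 ≤ k → k ≤ 4 → (r2 h hn r hr).X k ≤ c.U := fun k h1 h2 =>
    le_iSup₂_of_le k ⟨h1, h2⟩ le_rfl
  have hUK : (c.U).map (MonoidHom.snd G K) = Subgroup.closure (posSet mK) := by
    apply le_antisymm
    · refine (Subgroup.map_mono hU).trans ?_
      rw [MonoidHom.map_closure, Subgroup.closure_le]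
      rintro _ ⟨g, (⟨a, rfl | rfl⟩ | ⟨p, rfl | rfl⟩), rfl⟩
      · exact Subgroup.subset_closure (Or.inl ⟨a, Or.inl rfl⟩)
      · exact Subgroup.subset_closure (Or.inl ⟨a, Or.inr rfl⟩)
      · exact Subgroup.subset_closure (Or.inr ⟨p, Or.inl rfl⟩)
      · exact Subgroup.subset_closure (Or.inr ⟨p, Or.inr rfl⟩)
    · rw [Subgroup.closure_le]
      rintro g (⟨a, rfl | rfl⟩ | ⟨p, rfl | rfl⟩)
      · exact ⟨(mG.x a, mK.x a), hXU 1 (by norm_num) (by norm_num) ⟨a, rfl⟩, rfl⟩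
      · exact ⟨(mG.y a, mK.y a), hXU 3 (by norm_num) (by norm_num) ⟨a, rfl⟩, rfl⟩
      · exact ⟨(mG.z₁ p, mK.z₁ p), hXU 2 (by norm_num) (by norm_num) ⟨p, rfl⟩, rfl⟩
      · exact ⟨(mG.z₂ p, mK.z₂ p), hXU 4 (by norm_num) (by norm_num) ⟨p, rfl⟩, rfl⟩
  have hI : ∃ a ∈ c.AI', a.1 ∉ c.U.map (MonoidHom.fst G K) := by
    obtain ⟨a, ha⟩ := hGI
    exact ⟨(mG.x' a, mK.x' a), ⟨a, rfl⟩, fun h' => ha (hUG h')⟩
  have hJ : ∃ a ∈ c.AJ', a.1 ∉ c.U.map (MonoidHom.fst G K) := by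
    obtain ⟨p, hp⟩ := hGJ
    exact ⟨(mG.z₂' p, mK.z₂' p), ⟨p, rfl⟩, fun h' => hp (hUG h')⟩
  refine equiv_of_graph' c.G ?_ ?_ ?_
  · rw [eq_top_iff, ← gG, Subgroup.closure_le]
    rintro g (⟨a, rfl | rfl⟩ | ⟨p, rfl | rfl⟩)
    · exact ⟨(mG.x a, mK.x a), hGen (Subgroup.subset_closure (Or.inl ⟨a, Or.inl rfl⟩)), rfl⟩
    · exact ⟨(mG.x' a, mK.x' a), hGen (Subgroup.subset_closure (Or.inl ⟨a, Or.inr rfl⟩)), rfl⟩
    · exact ⟨(mG.z₂ p, mK.z₂ p), hGen (Subgroup.subset_closure (Or.inr ⟨p, Or.inl rfl⟩)), rfl⟩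
    · exact ⟨(mG.z₂' p, mK.z₂' p), hGen (Subgroup.subset_closure (Or.inr ⟨p, Or.inr rfl⟩)), rfl⟩
  · rw [eq_top_iff, ← gK, Subgroup.closure_le]
    rintro g (⟨a, rfl | rfl⟩ | ⟨p, rfl | rfl⟩)
    · exact ⟨(mG.x a, mK.x a), hGen (Subgroup.subset_closure (Or.inl ⟨a, Or.inl rfl⟩)), rfl⟩
    · exact ⟨(mG.x' a, mK.x' a), hGen (Subgroup.subset_closure (Or.inl ⟨a, Or.inr rfl⟩)), rfl⟩
    · exact ⟨(mG.z₂ p, mK.z₂ p), hGen (Subgroup.subset_closure (Or.inr ⟨p, Or.inl rfl⟩)), rfl⟩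
    · exact ⟨(mG.z₂' p, mK.z₂' p), hGen (Subgroup.subset_closure (Or.inr ⟨p, Or.inr rfl⟩)), rfl⟩
  · intro L hL hLΓ
    refine hKL L hL fun k hk => ?_
    have h1 := nI_not_mem c (MonoidHom.fst G K) hI
    have h2 := nI_not_mem c.symm (MonoidHom.fst G K) hJ
    have e := c.eq_D (by norm_num)
      (S := c.G ⊓ (Subgroup.normalizer (c.U.map (MonoidHom.fst G K) : Set G)).comap
        (MonoidHom.fst G K)) inf_le_left
      (fun d hd => ⟨c.D_le hd, map_normalizer c (MonoidHom.fst G K) hd⟩)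
      (fun h => h1 h.2) (fun h => h2 h.2)
    have h3 : ((1 : G), k) ∈ c.G ⊓
        (Subgroup.normalizer (c.U.map (MonoidHom.fst G K) : Set G)).comap (MonoidHom.fst G K) :=
      ⟨hLΓ k hk, one_mem (Subgroup.normalizer (c.U.map (MonoidHom.fst G K) : Set G))⟩
    rw [e] at h3
    have h4 := map_normalizer c (MonoidHom.snd G K) h3
    rw [hUK] at h4
    exact h4

/-- The simple case. -/
theorem ident_simple {G : Type u} {K : Type v} [Group G] [Group K] [IsSimpleGroup G]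
    [IsSimpleGroup K]
    {mG : B2Maps D G} {mK : B2Maps D K} (hG : B2Rel mG) (hK : B2Rel mK)
    (ex : ∃ p : D.T, p.c ≠ 0)
    (gG : Subgroup.closure (genSet mG) = ⊤) (gK : Subgroup.closure (genSet mK) = ⊤)
    (hGI : ∃ a, mG.x' a ∉ Subgroup.closure (posSet mG))
    (hGJ : ∃ p, mG.z₂' p ∉ Subgroup.closure (posSet mG))
    (hKU : Subgroup.closure (posSet mK) ≠ ⊤) : Nonempty (G ≃* K) := by
  refine ident hG hK ex gG gK hGI hGJ fun L hL hLn => ?_
  rcases hL.eq_bot_or_eq_top with h1 | h1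
  · exact h1
  · exfalso
    rw [h1, top_le_iff] at hLn
    have hn : (Subgroup.closure (posSet mK)).Normal := Subgroup.normalizer_eq_top_iff.1 hLn
    rcases hn.eq_bot_or_eq_top with h2 | h2
    · have hx : ∀ a, mK.x a = 1 := fun a => by
        have : mK.x a ∈ Subgroup.closure (posSet mK) := Subgroup.subset_closure (Or.inl ⟨a, Or.inl rfl⟩)
        rw [h2] at this; exact this
      have hz : ∀ p, mK.z₂ p = 1 := fun p => by
        have : mK.z₂ p ∈ Subgroup.closure (posSet mK) := Subgroup.subset_closure (Or.inr ⟨p, Or.inr rfl⟩)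
        rw [h2] at this; exact this
      have hx' : ∀ a, mK.x' a = 1 := by
        intro a
        have h3 := hK.nI_x (-a)
        rw [hx] at h3
        have h4 : mK.x' (- -a) = 1 := by
          rw [mul_one, mul_inv_cancel] at h3
          exact h3.symm
        rwa [neg_neg] at h4
      have hz' : ∀ p, mK.z₂' p = 1 := by
        obtain ⟨r, hr⟩ := ex
        intro p
        have h3 := hK.nII_z₂' r hr p
        rw [hz] at h3
        have h4 := mul_inv_eq_one.1 h3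
        have h5 : mK.nII r * mK.z₂' p = mK.nII r * 1 := by rw [h4, mul_one]
        exact mul_left_cancel h5
      have h5 : Subgroup.closure (genSet mK) = ⊥ := by
        rw [Subgroup.closure_eq_bot_iff]
        rintro g (⟨a, rfl | rfl⟩ | ⟨p, rfl | rfl⟩)
        · exact hx a
        · exact hx' a
        · exact hz p
        · exact hz' p
      rw [gK] at h5
      exact absurd h5 top_ne_bot
    · exact hKU h2

end Cfsg.Agent.SplitTwo.QuadIdent
end

-- part: SplitTwo/QuadFinal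
section
/-!
# Finite simple groups with a `B₂` package are of Lie type (S1144, `m = 4`)

`lieConcl_of_pkg`: `G` simple, generated by a nondegenerate `B₂` package over an arbitrary finite datum.
-/

set_option autoImplicit false

namespace Cfsg.Agent.SplitTwo.QuadFinal

open Cfsg.Agent.TitsThree.B2Pkg Cfsg.Agent.TitsThree.RankTwoIdentB2 Cfsg.Agent.TitsThree.StdData
  Cfsg.Agent.TitsThree Cfsg.Agent.TitsThree.CnModel Cfsg.Agent.TitsThree.Pack
  Cfsg.Agent.SplitTwo.QuadIdent Cfsg.Agent.TitsThree.Top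

open scoped commutatorElement

universe u v

section Pkg

variable {F : Type*} [Field F] {V : Type*} [AddCommGroup V] [Module F V] {D : PQDatum F V}
variable {V' : Type*} [AddCommGroup V'] [Module F V'] {D' : PQDatum F V'}

/-- `G` is generated by a nondegenerate `B₂` package over `D`. -/
def Pkg (D : PQDatum F V) (G : Type*) [Group G] : Prop :=
  ∃ m : B2Maps D G, B2Rel m ∧ Subgroup.closure (genSet m) = ⊤ ∧
    (∃ a, m.x' a ∉ Subgroup.closure (posSet m)) ∧ ∃ p, m.z₂' p ∉ Subgroup.closure (posSet m)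

variable {G : Type*} [Group G]

theorem genSet_eq (m : B2Maps D G) :
    genSet m = Set.range m.x ∪ Set.range m.x' ∪ Set.range m.z₂ ∪ Set.range m.z₂' := by
  ext g
  constructor
  · rintro (⟨a, rfl | rfl⟩ | ⟨p, rfl | rfl⟩)
    · exact Or.inl (Or.inl (Or.inl ⟨a, rfl⟩))
    · exact Or.inl (Or.inl (Or.inr ⟨a, rfl⟩))
    · exact Or.inl (Or.inr ⟨p, rfl⟩)
    · exact Or.inr ⟨p, rfl⟩
  · rintro (((⟨a, rfl⟩ | ⟨a, rfl⟩) | ⟨p, rfl⟩) | ⟨p, rfl⟩)
    · exact Or.inl ⟨a, Or.inl rfl⟩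
    · exact Or.inl ⟨a, Or.inr rfl⟩
    · exact Or.inr ⟨p, Or.inl rfl⟩
    · exact Or.inr ⟨p, Or.inr rfl⟩

theorem posSet_eq (m : B2Maps D G) :
    posSet m = Set.range m.x ∪ Set.range m.y ∪ Set.range m.z₁ ∪ Set.range m.z₂ := by
  ext g
  constructor
  · rintro (⟨a, rfl | rfl⟩ | ⟨p, rfl | rfl⟩)
    · exact Or.inl (Or.inl (Or.inl ⟨a, rfl⟩))
    · exact Or.inl (Or.inl (Or.inr ⟨a, rfl⟩))
    · exact Or.inl (Or.inr ⟨p, rfl⟩)
    · exact Or.inr ⟨p, rfl⟩
  · rintro (((⟨a, rfl⟩ | ⟨a, rfl⟩) | ⟨p, rfl⟩) | ⟨p, rfl⟩)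
    · exact Or.inl ⟨a, Or.inl rfl⟩
    · exact Or.inl ⟨a, Or.inr rfl⟩
    · exact Or.inr ⟨p, Or.inl rfl⟩
    · exact Or.inr ⟨p, Or.inr rfl⟩

/-- Transport along a similarity. -/
theorem Pkg.sim (s : Sim D D') (h : Pkg D G) : Pkg D' G := by
  obtain ⟨m, hm, h1, ⟨a, h2⟩, ⟨p, h3⟩⟩ := h
  have e1 : genSet (B2Transport.maps s m) = genSet m := by
    rw [genSet_eq, genSet_eq, B2Transport.range_z₂, B2Transport.range_z₂']
    rfl
  have e2 : posSet (B2Transport.maps s m) = posSet m := by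
    rw [posSet_eq, posSet_eq, B2Transport.range_z₂, B2Transport.range_z₁, B2Transport.range_y]
    rfl
  refine ⟨B2Transport.maps s m, B2Transport.rel s hm, by rw [e1]; exact h1, ⟨a, by rw [e2]; exact h2⟩, ?_⟩
  have h4 : m.z₂' p ∈ Set.range (B2Transport.maps s m).z₂' := by
    rw [B2Transport.range_z₂']
    exact ⟨p, rfl⟩
  obtain ⟨q, hq⟩ := h4
  exact ⟨q, by rw [e2, hq]; exact h3⟩

/-- Characteristic two. -/
theorem Pkg.even [Finite F] (h2 : (2 : F) = 0) (h : Pkg (stdO1 F) G) : Pkg (stdSp F) G := by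
  obtain ⟨m, hm, h1, ⟨a, h3⟩, ⟨p, h4⟩⟩ := h
  have r1 : Set.range (EvenSp.spMaps h2 m).z₂ = Set.range m.z₂ :=
    (EvenSp.theta h2).surjective.range_comp m.z₂
  have r2 : Set.range (EvenSp.spMaps h2 m).z₁ = Set.range m.z₁ :=
    (EvenSp.theta h2).surjective.range_comp m.z₁
  have r3 : Set.range (EvenSp.spMaps h2 m).z₂' = Set.range m.z₂' :=
    (EvenSp.theta h2).surjective.range_comp m.z₂'
  have e1 : genSet (EvenSp.spMaps h2 m) = genSet m := by
    rw [genSet_eq, genSet_eq, r1, r3]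
    rfl
  have e2 : posSet (EvenSp.spMaps h2 m) = posSet m := by
    rw [posSet_eq, posSet_eq, r1, r2]
    rfl
  refine ⟨EvenSp.spMaps h2 m, EvenSp.spRel h2 hm, by rw [e1]; exact h1,
    ⟨a, by rw [e2]; exact h3⟩, ?_⟩
  obtain ⟨q, hq⟩ : m.z₂' p ∈ Set.range (EvenSp.spMaps h2 m).z₂' := by
    rw [r3]; exact ⟨p, rfl⟩
  exact ⟨q, by rw [e2, hq]; exact h4⟩

/-- The generation of a rank two K side package. -/
theorem gen_of_kcn {K : Type*} [Group K] (k : KCN K D 1) : Subgroup.closure (genSet k.b2) = ⊤ := by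
  rw [← k.gen]
  congr 1
  have h0 := k.last 0 rfl
  ext g
  constructor
  · rintro (⟨a, rfl | rfl⟩ | ⟨p, hp⟩)
    · exact Or.inl ⟨0, a, Or.inl (by rw [h0.1])⟩
    · exact Or.inl ⟨0, a, Or.inr (by rw [h0.2])⟩
    · exact Or.inr ⟨p, hp⟩
  · rintro (⟨i, a, rfl | rfl⟩ | ⟨p, hp⟩)
    · rw [Subsingleton.elim i 0, ← h0.1]
      exact Or.inl ⟨a, Or.inl rfl⟩
    · rw [Subsingleton.elim i 0, ← h0.2]
      exact Or.inl ⟨a, Or.inr rfl⟩
    · exact Or.inr ⟨p, hp⟩

theorem pos_le_of_kcn {K : Type*} [Group K] (k : KCN K D 1) :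
    Subgroup.closure (posSet k.b2) ≤ k.Bor := by
  have h0 := k.last 0 rfl
  rw [Subgroup.closure_le]
  rintro g (⟨a, rfl | rfl⟩ | ⟨p, rfl | rfl⟩)
  · rw [h0.1]; exact k.xp_mem 0 a
  · exact k.y_mem a
  · exact k.z₁_mem p
  · exact k.z₂_mem p

end Pkg

/-- Identification with a model. -/
theorem lieConcl_of_model {G : Type u} [Group G] [IsSimpleGroup G] {F : Type*} [Field F] {V : Type*}
    [AddCommGroup V] [Module F V] {D : PQDatum F V} (ex : ∃ p : D.T, p.c ≠ 0) (h : Pkg D G)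
    (hK : HasModel D 0) : LieConcl G := by
  obtain ⟨K, i1, i2, h1, ⟨k⟩⟩ := hK
  obtain ⟨m, hm, g1, g2, g3⟩ := h
  obtain ⟨e⟩ := ident_simple hm k.rel ex g1 (gen_of_kcn k) g2 g3
    (fun e => k.Bor_ne (top_le_iff.1 (e ▸ pos_le_of_kcn k)))
  exact h1.of_equiv e

/-! ### The field with two elements, symplectic case -/

section Two

variable {K : Type*} [Group K]

theorem central_of_inf_eq_bot (A : Subgroup K) [hA : A.Normal] (h2 : ∀ k l : K, ⁅k, l⁆ ∈ A)
    (hZ : Subgroup.center K = ⊥) (L : Subgroup K) [hL : L.Normal] (h : L ⊓ A = ⊥) : L = ⊥ := by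
  rw [eq_bot_iff, ← hZ]
  intro l hl
  rw [Subgroup.mem_center_iff]
  intro k
  have h1 : ⁅k, l⁆ ∈ L := by
    rw [commutatorElement_def]
    exact mul_mem (hL.conj_mem l hl k) (inv_mem hl)
  have h3 : ⁅k, l⁆ ∈ L ⊓ A := ⟨h1, h2 k l⟩
  rw [h, Subgroup.mem_bot] at h3
  exact commutatorElement_eq_one_iff_mul_comm.1 h3

theorem top_of_normal {F : Type*} [Field F] {V : Type*} [AddCommGroup V] [Module F V]
    {D : PQDatum F V} {m : B2Maps D K} (h : B2Rel m) (ex : ∃ p : D.T, p.c ≠ 0)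
    (gen : Subgroup.closure (genSet m) = ⊤) (N : Subgroup K) [hN : N.Normal]
    (hx : ∀ a, m.x a ∈ N) (hz : ∀ p, m.z₂ p ∈ N) : N = ⊤ := by
  obtain ⟨r, hr⟩ := ex
  have hx' : ∀ a, m.x' a ∈ N := by
    intro a
    have h3 := h.nI_x (-a)
    rw [neg_neg] at h3
    rw [← h3]
    exact hN.conj_mem _ (hx _) _
  have hz' : ∀ p, m.z₂' p ∈ N := by
    intro p
    have h3 := h.nII_z₂' r hr p
    have h4 := hN.conj_mem _ (hz (D.sc (D.ε⁻¹ * r.c) (D.refl r hr p))) (m.nII r)⁻¹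
    rw [← h3] at h4
    have e : (m.nII r)⁻¹ * (m.nII r * m.z₂' p * (m.nII r)⁻¹) * (m.nII r)⁻¹⁻¹ = m.z₂' p := by group
    rwa [e] at h4
  rw [eq_top_iff, ← gen, Subgroup.closure_le]
  rintro g (⟨a, rfl | rfl⟩ | ⟨p, rfl | rfl⟩)
  · exact hx a
  · exact hx' a
  · exact hz p
  · exact hz' p

theorem coreFree {F : Type*} [Field F] {V : Type*} [AddCommGroup V] [Module F V]
    {D : PQDatum F V} {m : B2Maps D K} (h : B2Rel m) (ex : ∃ p : D.T, p.c ≠ 0)
    (gen : Subgroup.closure (genSet m) = ⊤) (hU : Subgroup.closure (posSet m) ≠ ⊤)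
    (A : Subgroup K) [hA : A.Normal] [hs : IsSimpleGroup A] (h2 : A.index = 2)
    (hnc : Subgroup.centralizer (A : Set K) ⊓ A = ⊥)
    (hZ : Subgroup.center K = ⊥) (L : Subgroup K) (hL : L.Normal)
    (hLU : L ≤ Subgroup.normalizer (Subgroup.closure (posSet m) : Set K)) : L = ⊥ := by
  have hcomm : ∀ k l : K, ⁅k, l⁆ ∈ A := by
    intro k l
    have hab : ∀ a b : K ⧸ A, a * b = b * a := by
      have hc : Nat.card (K ⧸ A) = 2 := by rw [← Subgroup.index_eq_card, h2]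
      have : IsCyclic (K ⧸ A) := by
        have : Fact (Nat.Prime 2) := ⟨Nat.prime_two⟩
        exact isCyclic_of_prime_card hc
      intro a b
      exact IsCyclic.commGroup.mul_comm a b
    rw [← QuotientGroup.eq_one_iff]
    have h3 : QuotientGroup.mk' A ⁅k, l⁆ = ⁅QuotientGroup.mk' A k, QuotientGroup.mk' A l⁆ :=
      map_commutatorElement _ _ _
    exact h3.trans (commutatorElement_eq_one_iff_mul_comm.2 (hab _ _))
  have hLA : (L ⊓ A).subgroupOf A = ⊥ ∨ (L ⊓ A).subgroupOf A = ⊤ := by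
    apply Subgroup.Normal.eq_bot_or_eq_top
    exact (inferInstance : (L ⊓ A).Normal).subgroupOf A
  rcases hLA with h3 | h3
  · refine central_of_inf_eq_bot A hcomm hZ L ?_
    rw [Subgroup.subgroupOf_eq_bot, disjoint_iff, inf_assoc, inf_idem] at h3
    exact h3
  exfalso
  have hAL : A ≤ L := by
    rw [Subgroup.subgroupOf_eq_top] at h3
    exact h3.trans inf_le_left
  set U := Subgroup.closure (posSet m) with hUdef
  have hAU : ∀ a ∈ A, ∀ u ∈ U, a * u * a⁻¹ ∈ U := by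
    intro a ha u hu
    exact (Subgroup.mem_normalizer_iff.1 (hLU (hAL ha)) u).1 hu
  have hn : ((U ⊓ A).subgroupOf A).Normal := by
    constructor
    intro u hu a
    rw [Subgroup.mem_subgroupOf] at hu ⊢
    refine ⟨?_, hA.conj_mem _ hu.2 _⟩
    exact hAU a a.2 u hu.1
  have hx0 : ∀ a, m.x a ∈ U := fun a => Subgroup.subset_closure (Or.inl ⟨a, Or.inl rfl⟩)
  have hz0 : ∀ p, m.z₂ p ∈ U := fun p => Subgroup.subset_closure (Or.inr ⟨p, Or.inr rfl⟩)
  rcases hn.eq_bot_or_eq_top with h4 | h4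
  · rw [Subgroup.subgroupOf_eq_bot, disjoint_iff, inf_assoc, inf_idem] at h4
    have hUC : U ≤ Subgroup.centralizer (A : Set K) := by
      intro u hu
      rw [Subgroup.mem_centralizer_iff]
      intro a ha
      have h5 : ⁅a, u⁆ ∈ U ⊓ A := by
        rw [commutatorElement_def]
        refine ⟨U.mul_mem (hAU a ha u hu) (U.inv_mem hu), ?_⟩
        have e : a * u * a⁻¹ * u⁻¹ = a * (u * a⁻¹ * u⁻¹) := by group
        rw [e]
        exact A.mul_mem ha (hA.conj_mem _ (A.inv_mem ha) u)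
      rw [h4, Subgroup.mem_bot] at h5
      exact commutatorElement_eq_one_iff_mul_comm.1 h5
    have hC : Subgroup.centralizer (A : Set K) = ⊥ :=
      central_of_inf_eq_bot A hcomm hZ _ hnc
    rw [hC] at hUC
    have h6 := top_of_normal h ex gen ⊥ (fun a => hUC (hx0 a)) (fun p => hUC (hz0 p))
    obtain ⟨a, ha⟩ := exists_ne (1 : A)
    apply ha
    have : (a : K) ∈ (⊥ : Subgroup K) := by rw [h6]; trivial
    exact Subtype.ext this
  · rw [Subgroup.subgroupOf_eq_top] at h4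
    have hAU' : A ≤ U := h4.trans inf_le_left
    have hUA : U = A := by
      by_contra hne
      apply hU
      have h5 : A < U := lt_of_le_of_ne hAU' (Ne.symm hne)
      have h6 := Subgroup.relIndex_mul_index hAU'
      rw [h2] at h6
      have h7 : A.relIndex U ≠ 1 := fun h8 => hne (le_antisymm (Subgroup.relIndex_eq_one.1 h8) hAU')
      have h8 : A.relIndex U ∣ 2 := ⟨_, h6.symm⟩
      rcases (Nat.dvd_prime Nat.prime_two).1 h8 with h9 | h9
      · exact absurd h9 h7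
      · rw [h9] at h6
        exact Subgroup.index_eq_one.1 (by omega)
    apply hU
    have : U.Normal := hUA ▸ hA
    exact top_of_normal h ex gen U hx0 hz0

theorem center_perm_six : Subgroup.center (Equiv.Perm (Fin 6)) = ⊥ := by
  rw [eq_bot_iff]
  intro σ hσ
  rw [Subgroup.mem_center_iff] at hσ
  rw [Subgroup.mem_bot]
  ext1 i
  by_contra hne
  have hk : ∀ i j : Fin 6, ∃ k, k ≠ i ∧ k ≠ j := by decide
  replace hne : σ i ≠ i := hne
  obtain ⟨k, hki, hkj⟩ := hk i (σ i)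
  have h1 : Equiv.swap i k (σ i) = σ (Equiv.swap i k i) :=
    congrArg (fun τ : Equiv.Perm (Fin 6) => τ i) (hσ (Equiv.swap i k))
  rw [Equiv.swap_apply_left, Equiv.swap_apply_of_ne_of_ne hne (Ne.symm hkj)] at h1
  exact hki (σ.injective h1).symm

theorem centralizer_alt_inf :
    Subgroup.centralizer (alternatingGroup (Fin 6) : Set (Equiv.Perm (Fin 6))) ⊓
      alternatingGroup (Fin 6) = ⊥ := by
  rw [eq_bot_iff]
  rintro g ⟨h1, h2⟩
  have hs : Subgroup.center (alternatingGroup (Fin 6)) = ⊥ := by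
    apply alternatingGroup.center_eq_bot
    simp
  have h3 : (⟨g, h2⟩ : alternatingGroup (Fin 6)) ∈ Subgroup.center (alternatingGroup (Fin 6)) := by
    rw [Subgroup.mem_center_iff]
    intro a
    exact Subtype.ext (Subgroup.mem_centralizer_iff.1 h1 a a.2)
  rw [hs, Subgroup.mem_bot] at h3
  exact congrArg Subtype.val h3

theorem exists_equiv_perm {F : Type*} [Field F] [Fintype F] (h2 : Fintype.card F = 2) :
    Nonempty (Cfsg.PSp 2 F ≃* Equiv.Perm (Fin 6)) := by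
  obtain ⟨e⟩ := Cfsg.Agent.S0247.result (F := F) h2
  have hc : Subgroup.center (Matrix.symplecticGroup (Fin 2) F) = ⊥ := by
    rw [eq_bot_iff]
    intro x hx
    rw [Subgroup.mem_center_iff] at hx
    have h3 : e x ∈ Subgroup.center (Equiv.Perm (Fin 6)) := by
      rw [Subgroup.mem_center_iff]
      intro g
      obtain ⟨y, rfl⟩ := e.surjective g
      rw [← map_mul, hx y, map_mul]
    rw [center_perm_six, Subgroup.mem_bot] at h3
    rw [Subgroup.mem_bot]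
    exact e.injective (h3.trans (map_one e).symm)
  exact ⟨((QuotientGroup.quotientMulEquivOfEq hc).trans QuotientGroup.quotientBot).trans e⟩

theorem genSet_map {F : Type*} [Field F] {V : Type*} [AddCommGroup V] [Module F V]
    {D : PQDatum F V} {Y Z : Type*} [Group Y] [Group Z] (m : B2Maps D Y) (f : Y →* Z) :
    genSet (m.map f) = f '' genSet m := by
  ext g
  constructor
  · rintro (⟨a, rfl | rfl⟩ | ⟨p, rfl | rfl⟩)
    · exact ⟨_, Or.inl ⟨a, Or.inl rfl⟩, rfl⟩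
    · exact ⟨_, Or.inl ⟨a, Or.inr rfl⟩, rfl⟩
    · exact ⟨_, Or.inr ⟨p, Or.inl rfl⟩, rfl⟩
    · exact ⟨_, Or.inr ⟨p, Or.inr rfl⟩, rfl⟩
  · rintro ⟨_, (⟨a, rfl | rfl⟩ | ⟨p, rfl | rfl⟩), rfl⟩
    · exact Or.inl ⟨a, Or.inl rfl⟩
    · exact Or.inl ⟨a, Or.inr rfl⟩
    · exact Or.inr ⟨p, Or.inl rfl⟩
    · exact Or.inr ⟨p, Or.inr rfl⟩

theorem posSet_map {F : Type*} [Field F] {V : Type*} [AddCommGroup V] [Module F V]
    {D : PQDatum F V} {Y Z : Type*} [Group Y] [Group Z] (m : B2Maps D Y) (f : Y →* Z) :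
    posSet (m.map f) = f '' posSet m := by
  ext g
  constructor
  · rintro (⟨a, rfl | rfl⟩ | ⟨p, rfl | rfl⟩)
    · exact ⟨_, Or.inl ⟨a, Or.inl rfl⟩, rfl⟩
    · exact ⟨_, Or.inl ⟨a, Or.inr rfl⟩, rfl⟩
    · exact ⟨_, Or.inr ⟨p, Or.inl rfl⟩, rfl⟩
    · exact ⟨_, Or.inr ⟨p, Or.inr rfl⟩, rfl⟩
  · rintro ⟨_, (⟨a, rfl | rfl⟩ | ⟨p, rfl | rfl⟩), rfl⟩
    · exact Or.inl ⟨a, Or.inl rfl⟩
    · exact Or.inl ⟨a, Or.inr rfl⟩
    · exact Or.inr ⟨p, Or.inl rfl⟩
    · exact Or.inr ⟨p, Or.inr rfl⟩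

/-- `Sp₄(2)` is excluded. -/
theorem not_pkg_two {G : Type u} [Group G] [IsSimpleGroup G] {F : Type*} [Field F] [Fintype F]
    (h2 : Fintype.card F = 2) : ¬ Pkg (stdSp F) G := by
  intro h
  obtain ⟨e⟩ := exists_equiv_perm (F := F) h2
  set k := KInstSp.kcnSp F 0 with hk
  have ex : ∃ p : (stdSp F).T, p.c ≠ 0 := ⟨⟨(), 1, trivial⟩, one_ne_zero⟩
  obtain ⟨m, hm, g1, g2, g3⟩ := h
  have hr := k.rel.map (e : Cfsg.PSp 2 F →* Equiv.Perm (Fin 6))
  have hgen : Subgroup.closure (genSet (k.b2.map (e : Cfsg.PSp 2 F →* Equiv.Perm (Fin 6)))) = ⊤ := by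
    rw [genSet_map, ← MonoidHom.map_closure, gen_of_kcn, ← MonoidHom.range_eq_map]
    exact MonoidHom.range_eq_top.2 e.surjective
  have hpos : Subgroup.closure (posSet (k.b2.map (e : Cfsg.PSp 2 F →* Equiv.Perm (Fin 6)))) ≠ ⊤ := by
    rw [posSet_map, ← MonoidHom.map_closure]
    intro h3
    apply k.Bor_ne
    rw [eq_top_iff]
    intro x _
    have h4 : e x ∈ (Subgroup.closure (posSet k.b2)).map (e : Cfsg.PSp 2 F →* Equiv.Perm (Fin 6)) := by
      rw [h3]; trivial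
    obtain ⟨y, hy, hyx⟩ := h4
    have : y = x := e.injective hyx
    exact pos_le_of_kcn k (this ▸ hy)
  have hsimp : IsSimpleGroup (alternatingGroup (Fin 6)) := alternatingGroup.isSimpleGroup (by simp)
  obtain ⟨e'⟩ := ident hm hr ex g1 hgen g2 g3
    (coreFree hr ex hgen hpos (alternatingGroup (Fin 6)) (alternatingGroup.index_eq_two)
      centralizer_alt_inf center_perm_six)
  have hsS : IsSimpleGroup (Equiv.Perm (Fin 6)) := e'.symm.isSimpleGroup
  have hn : (alternatingGroup (Fin 6)).Normal := inferInstance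
  have hi : (alternatingGroup (Fin 6)).index = 2 := alternatingGroup.index_eq_two
  rcases hn.eq_bot_or_eq_top with h3 | h3
  · rw [h3, Subgroup.index_bot] at hi
    have : Nat.card (Equiv.Perm (Fin 6)) = 720 := by
      rw [Nat.card_eq_fintype_card, Fintype.card_perm, Fintype.card_fin]
      rfl
    omega
  · rw [h3, Subgroup.index_top] at hi
    omega

end Two

/-- **Finite simple groups with a `B₂` package are of Lie type.** -/
theorem lieConcl_of_pkg {G : Type u} [Group G] [IsSimpleGroup G] {F : Type} [Field F] [Finite F]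
    {V : Type v} [AddCommGroup V] [Module F V] [Finite V] {D : PQDatum F V}
    (h0 : ∀ c, D.ok 0 c → ∃ m, c = m - D.ε * D.σ m) (hs : ∀ w, ∃ c, D.ok w c)
    (hne : ∃ w c, D.ok w c ∧ c ≠ 0) (h : Pkg D G) : LieConcl G := by
  let _ : Fintype F := Fintype.ofFinite F
  have ex : ∃ p : D.T, p.c ≠ 0 := by
    obtain ⟨w, c, h1, h2⟩ := hne
    exact ⟨⟨w, c, h1⟩, h2⟩
  have key : Pkg (stdSp F) G → (∃ p : (stdSp F).T, p.c ≠ 0) → LieConcl G := by
    intro h1 h2
    by_cases h3 : 3 ≤ Fintype.card F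
    · exact lieConcl_of_model h2 h1 (hasModel_Sp 0 fun _ => h3)
    · exact absurd h1 (not_pkg_two (by have := Fintype.one_lt_card (α := F); omega))
  rcases PQClass.classify D h0 hs hne with ⟨-, ⟨s⟩⟩ | ⟨⟨s⟩⟩ | ⟨a, b, hab, ⟨s⟩⟩ | ⟨hσ, ⟨s⟩⟩ | ⟨hσ, ⟨s⟩⟩
  · exact key (h.sim s) (B2Transport.exists_c_ne s ex)
  · by_cases h2 : (2 : F) = 0
    · exact key ((h.sim s).even h2) ⟨⟨(), 1, trivial⟩, one_ne_zero⟩
    · exact lieConcl_of_model (B2Transport.exists_c_ne s ex) (h.sim s) (hasModel_O1 h2 0)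
  · exact lieConcl_of_model (B2Transport.exists_c_ne s ex) (h.sim s) (hasModel_O2 a b hab 0)
  · exact lieConcl_of_model (B2Transport.exists_c_ne s ex) (h.sim s) (hasModel_U0 D.σ D.σσ hσ 0)
  · exact lieConcl_of_model (B2Transport.exists_c_ne s ex) (h.sim s) (hasModel_U1 D.σ D.σσ hσ 0)

end Cfsg.Agent.SplitTwo.QuadFinal
end
end
end
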