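import Cfsg.Agent.SplitTwo.MuMaps
import Cfsg.Agent.SplitTwo.QuadNonred_m3
import Cfsg.Agent.TitsThree.B2Derived
import Cfsg.Agent.FastGrp
import Cfsg.Agent.Prune
set_option linter.all false

section
prune_inst 0x7ffcfffbaff9bddfdfff7e7fffffdffdfdfdfffffffffdcbffeaefffffff6f0eedc5afad8febdafe5ff762bc50f87bd3fffffbbfeb6bfc7ffffd5ff41ffbff8ffdf7b58971dd8cbe0fbe0fff03f07fce7f3fffffffffffffffffffffffffffbeffffffffffff

-- part: SplitTwo/HexCentre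
section
prune_inst 0x402202000000000000002000000000000023000111000000000e1122850027004000180008002200000000000044004000000000000004000005002080a240002300010406000f809003180c00000000000000000000000000041000000000000
set_option linter.all false
open scoped Cfsg.Agent.FastGrp

-- part: SplitTwo/SegMaps
section
/-!
# Root group systems of rank two: the segment groups `seg X i k = ⟨X i, …, X (i+k-1)⟩` (S1144)

Products, intersections, action of reflections, and the main lemma `seg_conj_disjoint`: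
if `z ∈ X (i+1) ⋯ X (i+m)` is not in `X (i+1) ⋯ X (i+m-1)` and `b + d < m`, then
`(X (i+1) ⋯ X (i+b))^z ∩ X (i+1) ⋯ X (i+d) = 1`.
-/

set_option autoImplicit false

namespace Cfsg.Agent.SplitTwo

open scoped commutatorElement Pointwise

universe u

variable {m : ℕ} {G : Type u} [Group G]

theorem le_seg_one {X : ZMod (2 * m) → Subgroup G} {i j : ZMod (2 * m)} {k : ℕ} (r : ℕ) (hr : r < k)
    (hj : j = i + (r : ℕ)) : X j ≤ seg X i k := by
  rw [hj]; exact le_seg X i hr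

theorem seg_le_seg {X : ZMod (2 * m) → Subgroup G} {i j : ZMod (2 * m)} {k l : ℕ} (r : ℕ) (hr : r + l ≤ k)
    (hj : j = i + (r : ℕ)) : seg X j l ≤ seg X i k := by
  rw [hj]; exact seg_shift_le X i hr

namespace Sys

variable {X : ZMod (2 * m) → Subgroup G} (S : Sys m X)

include S

theorem mem_seg_add (i : ZMod (2 * m)) (a : ℕ) {b : ℕ} : a + b ≤ m → ∀ {x : G}, x ∈ seg X i (a + b) →
    ∃ p ∈ seg X i a, ∃ q ∈ seg X (i + (a : ℕ)) b, p * q = x := by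
  induction b with
  | zero => intro _ x hx; exact ⟨x, hx, 1, one_mem _, mul_one x⟩
  | succ b ih =>
    intro h x hx
    obtain ⟨s, hs, t, ht, rfl⟩ := (S.mem_seg_succ i (k := a + b) (by omega)).mp hx
    obtain ⟨p, hp, q, hq, rfl⟩ := ih (by omega) hs
    refine ⟨p, hp, q * t, mul_mem (seg_mono X _ (Nat.le_succ b) hq) (le_seg_one b (by omega) ?_ ht), by group⟩
    push_cast; ring

theorem seg_disjoint {a b : ℕ} : ∀ (i : ZMod (2 * m)), a + b ≤ m → ∀ {x : G}, x ∈ seg X i a →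
    x ∈ seg X (i + (a : ℕ)) b → x = 1 := by
  induction a with
  | zero =>
    intro i _ x hx _
    rw [seg_zero] at hx
    exact Subgroup.mem_bot.mp hx
  | succ a ih =>
    intro i h x hx hx'
    obtain ⟨c, hc, s, hs, rfl⟩ := (S.mem_seg_succ_left i (k := a) (by omega)).mp hx
    have e : i + ((a + 1 : ℕ) : ZMod (2 * m)) = i + 1 + (a : ℕ) := by push_cast; ring
    rw [e] at hx'
    have hc1 : c = 1 := by
      apply S.inter_left i (k := a + b) (by omega) hc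
      have h2 : c = (c * s) * s⁻¹ := by group
      rw [h2]
      exact mul_mem (seg_shift_le X (i + 1) (by omega) hx') (inv_mem (seg_mono X _ (by omega) hs))
    subst hc1
    rw [one_mul] at hx' ⊢
    exact ih (i + 1) (by omega) hs hx'

/-- Intersection of two overlapping segments. -/
theorem seg_inter (i : ZMod (2 * m)) (a k l : ℕ) (h : a + k + l ≤ m) {x : G} (hx : x ∈ seg X i (a + k))
    (hx' : x ∈ seg X (i + (a : ℕ)) (k + l)) : x ∈ seg X (i + (a : ℕ)) k := by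
  obtain ⟨p, hp, q, hq, rfl⟩ := S.mem_seg_add i a (by omega) hx
  have hp1 : p = 1 := by
    apply S.seg_disjoint i (a := a) (b := k + l) (by omega) hp
    have h2 : p = (p * q) * q⁻¹ := by group
    rw [h2]
    exact mul_mem hx' (inv_mem (seg_mono X _ (by omega) hq))
  subst hp1
  rw [one_mul]; exact hq

end Sys

theorem Refl.seg_mem {X : ZMod (2 * m) → Subgroup G} {i : ZMod (2 * m)} {n : G} (h : Refl X i n)
    {j j' : ZMod (2 * m)} {k : ℕ} (hj : j' = 2 * i + (m : ℕ) - j - (k : ℕ) + 1) {x : G} (hx : x ∈ seg X j k) :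
    n * x * n⁻¹ ∈ seg X j' k := by
  have key : seg X j k ≤ (seg X j' k).comap (MulAut.conj n).toMonoidHom := by
    refine seg_le fun r hr => ?_
    intro y hy
    rw [Subgroup.mem_comap]
    change n * y * n⁻¹ ∈ seg X j' k
    refine le_seg_one (k - 1 - r) (by omega) ?_ (h.mem hy)
    rw [hj]
    have h1 : k = (k - 1 - r) + 1 + r := by omega
    have h2 : (k : ZMod (2 * m)) = ((k - 1 - r : ℕ) : ZMod (2 * m)) + 1 + r := by
      conv_lhs => rw [h1]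
      push_cast; ring
    rw [h2]; ring
  exact key hx

theorem Refl.seg_mem' {X : ZMod (2 * m) → Subgroup G} {i : ZMod (2 * m)} {n : G} (h : Refl X i n)
    {j j' : ZMod (2 * m)} {k : ℕ} (hj : j' = 2 * i + (m : ℕ) - j - (k : ℕ) + 1) {x : G} (hx : x ∈ seg X j k) :
    n⁻¹ * x * n ∈ seg X j' k := by
  have := h.inv.seg_mem hj hx
  rwa [inv_inv] at this

namespace Sys

variable {X : ZMod (2 * m) → Subgroup G} (S : Sys m X)

include S

/-- **Main lemma** (special case `z = y u`, `u ∈ X (i + m)`). -/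
theorem seg_conj_disjoint (i : ZMod (2 * m)) {b d : ℕ} (hbd : b + d < m) {x z : G}
    (hz : z ∈ seg X (i + 1) m) (hz' : z ∉ seg X (i + 1) (m - 1)) (hx : x ∈ seg X (i + 1) b)
    (hx' : z⁻¹ * x * z ∈ seg X (i + 1) d) : x = 1 := by
  have h3 := S.three_le
  have hm1 : ((m - 1 : ℕ) : ZMod (2 * m)) = m - 1 := by
    rw [Nat.cast_sub (by omega)]; norm_num
  have hmm : m = (m - 1) + 1 := by omega
  obtain ⟨y, hy, w, hw, rfl⟩ : ∃ s ∈ seg X (i + 1) (m - 1), ∃ t ∈ X (i + (m : ℕ)), s * t = z := by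
    have hz2 : z ∈ seg X (i + 1) ((m - 1) + 1) := by
      have e : (m - 1) + 1 = m := by omega
      rw [e]; exact hz
    obtain ⟨s, hs, t, ht, e⟩ := (S.mem_seg_succ (i + 1) (k := m - 1) (by omega)).mp hz2
    refine ⟨s, hs, t, ?_, e⟩
    have e2 : i + 1 + ((m - 1 : ℕ) : ZMod (2 * m)) = i + (m : ℕ) := by rw [hm1]; ring
    rwa [e2] at ht
  have hw1 : w ≠ 1 := by
    rintro rfl
    rw [mul_one] at hz'
    exact hz' hy
  obtain ⟨k, l, hk, hl, hr⟩ := S.exists_isMu hw hw1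
  have e0 : i + (m : ℕ) + (m : ℕ) = i := by rw [add_assoc, two_m_cast, add_zero]
  rw [e0] at hk hl
  -- `w = k⁻¹ n l⁻¹`
  obtain ⟨n, hn⟩ : ∃ n, n = k * w * l := ⟨_, rfl⟩
  rw [← hn] at hr
  have hwn : w = k⁻¹ * n * l⁻¹ := by rw [hn]; group
  -- reflection on indices
  have hidx : ∀ j : ZMod (2 * m), 2 * (i + (m : ℕ)) + (m : ℕ) - j = 2 * i + (m : ℕ) - j := by
    intro j
    have : 2 * (i + (m : ℕ)) + (m : ℕ) - j = 2 * i + (m : ℕ) - j + ((m : ZMod (2 * m)) + m) := by ring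
    rw [this, two_m_cast, add_zero]
  -- `P = x^{z n}`
  have hP : n⁻¹ * ((y * w)⁻¹ * x * (y * w)) * n ∈ seg X (i + (m : ℕ) - (d : ℕ)) d := by
    refine hr.seg_mem' ?_ hx'
    rw [sub_sub _ _ ((d : ℕ) : ZMod (2 * m)), hidx]
    ring
  -- `y k⁻¹ = p q`
  have hyk : y * k⁻¹ ∈ seg X i ((b + 1) + (m - 1 - b)) := by
    have e1 : (b + 1) + (m - 1 - b) = m := by omega
    rw [e1]
    refine mul_mem (seg_le_seg 1 (by omega) (by push_cast; ring) hy) (inv_mem ?_)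
    exact le_seg_one 0 (by omega) (by push_cast; ring) hk
  obtain ⟨p, hp, q, hq, hpq⟩ := S.mem_seg_add i (b + 1) (by omega) hyk
  -- `n l⁻¹ n = n² ŵ`
  have hŵ : n⁻¹ * l⁻¹ * n ∈ X (i + (m : ℕ)) := by
    have := hr.mem' (inv_mem hl)
    rw [hidx] at this
    have e2 : 2 * i + (m : ℕ) - i = i + (m : ℕ) := by ring
    rwa [e2] at this
  have hzn : (y * w) * n = p * (q * (n * n) * (n⁻¹ * l⁻¹ * n)) := by
    rw [hwn]
    calc y * (k⁻¹ * n * l⁻¹) * n = (y * k⁻¹) * (n * l⁻¹ * n) := by group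
      _ = (p * q) * (n * l⁻¹ * n) := by rw [hpq]
      _ = _ := by group
  have hmain : p⁻¹ * x * p = (q * (n * n) * (n⁻¹ * l⁻¹ * n)) *
      (n⁻¹ * ((y * w)⁻¹ * x * (y * w)) * n) * (q * (n * n) * (n⁻¹ * l⁻¹ * n))⁻¹ := by
    have e1 : n⁻¹ * ((y * w)⁻¹ * x * (y * w)) * n = ((y * w) * n)⁻¹ * x * ((y * w) * n) := by group
    rw [e1, hzn]
    group
  -- left side in `seg X i (b+1)`
  have hleft : p⁻¹ * x * p ∈ seg X i (b + 1) :=
    mul_mem (mul_mem (inv_mem hp) (seg_le_seg 1 (by omega) (by push_cast; ring) hx)) hp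
  -- right side in `seg X (i+b+1) (m-1-b)`
  have hright : p⁻¹ * x * p ∈ seg X (i + ((b + 1 : ℕ) : ZMod (2 * m))) (m - 1 - b) := by
    rw [hmain]
    have hsub : seg X (i + (m : ℕ) - (d : ℕ)) d ≤ seg X (i + ((b + 1 : ℕ) : ZMod (2 * m))) (m - 1 - b) := by
      refine seg_le_seg (m - 1 - b - d) (by omega) ?_
      have h1 : m = (b + 1) + (m - 1 - b - d) + d := by omega
      have h2 := congrArg (Nat.cast : ℕ → ZMod (2 * m)) h1
      rw [Nat.cast_add, Nat.cast_add] at h2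
      calc i + (m : ZMod (2 * m)) - (d : ℕ)
          = i + (((b + 1 : ℕ) : ZMod (2 * m)) + ((m - 1 - b - d : ℕ) : ZMod (2 * m)) + d) - (d : ℕ) := by
            exact congrArg (fun t => i + t - (d : ZMod (2 * m))) h2
        _ = _ := by ring
    have s1 : (n⁻¹ * l⁻¹ * n) * (n⁻¹ * ((y * w)⁻¹ * x * (y * w)) * n) * (n⁻¹ * l⁻¹ * n)⁻¹ ∈
        seg X (i + (m : ℕ) - (d : ℕ)) d := by
      refine S.conj_right (i + (m : ℕ) - (d : ℕ)) (k := d) (by omega) ?_ hP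
      rw [sub_add_cancel]; exact hŵ
    have s2 : n * ((n⁻¹ * l⁻¹ * n) * (n⁻¹ * ((y * w)⁻¹ * x * (y * w)) * n) * (n⁻¹ * l⁻¹ * n)⁻¹) * n⁻¹ ∈
        seg X (2 * i + (m : ℕ) - (i + (m : ℕ) - (d : ℕ)) - (d : ℕ) + 1) d := by
      refine hr.seg_mem ?_ s1
      rw [hidx]
    have s3 : n * (n * ((n⁻¹ * l⁻¹ * n) * (n⁻¹ * ((y * w)⁻¹ * x * (y * w)) * n) * (n⁻¹ * l⁻¹ * n)⁻¹) * n⁻¹) * n⁻¹ ∈
        seg X (i + (m : ℕ) - (d : ℕ)) d := by
      refine hr.seg_mem ?_ s2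
      rw [hidx]; ring
    have e3 : (q * (n * n) * (n⁻¹ * l⁻¹ * n)) * (n⁻¹ * ((y * w)⁻¹ * x * (y * w)) * n) *
        (q * (n * n) * (n⁻¹ * l⁻¹ * n))⁻¹ =
        q * (n * (n * ((n⁻¹ * l⁻¹ * n) * (n⁻¹ * ((y * w)⁻¹ * x * (y * w)) * n) * (n⁻¹ * l⁻¹ * n)⁻¹) * n⁻¹) * n⁻¹) *
          q⁻¹ := by
      group
    rw [e3]
    exact mul_mem (mul_mem hq (hsub s3)) (inv_mem hq)
  have h1 := S.seg_disjoint i (a := b + 1) (b := m - 1 - b) (by omega) hleft hright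
  have h2 : x = p * (p⁻¹ * x * p) * p⁻¹ := by group
  rw [h2, h1]; group

/-- **Commuting lemma.** If `h ∈ X i`, `h ≠ 1`, commutes with `z ∈ X i ⋯ X (i+k-1)`, `k ≤ m`, `2 k > m + 2`, then
`z ∈ X i ⋯ X (i+k-2)`. -/
theorem mem_of_commute_step (i : ZMod (2 * m)) {k : ℕ} (hk : k + 1 ≤ m) (hk' : m + 2 < 2 * (k + 1)) {h z : G}
    (hh : h ∈ X i) (hh1 : h ≠ 1) (hz : z ∈ seg X i (k + 1)) (hc : h * z = z * h) : z ∈ seg X i k := by
  by_contra hcon
  have hcast : ((m - (k + 1) : ℕ) : ZMod (2 * m)) = m - (k + 1) := by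
    rw [Nat.cast_sub hk]; push_cast; ring
  set j : ZMod (2 * m) := i - ((m - (k + 1) : ℕ) : ZMod (2 * m)) - 1 with hj
  have e1 : i = j + 1 + ((m - (k + 1) : ℕ) : ZMod (2 * m)) := by rw [hj]; ring
  apply hh1
  refine S.seg_conj_disjoint j (b := m - (k + 1) + 1) (d := m - (k + 1) + 1) (by omega) (z := z) ?_ ?_ ?_ ?_
  · exact seg_le_seg (m - (k + 1)) (by omega) e1 hz
  · intro hz'
    apply hcon
    have h1 := S.seg_inter (j + 1) (m - (k + 1)) k 1 (by omega) (x := z)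
      (by
        have : m - (k + 1) + k = m - 1 := by omega
        rw [this]; exact hz')
      (by rw [← e1]; exact hz)
    rw [← e1] at h1
    exact h1
  · exact le_seg_one (m - (k + 1)) (by omega) e1 hh
  · have e : z⁻¹ * h * z = h := by rw [mul_assoc, hc]; group
    rw [e]
    exact le_seg_one (m - (k + 1)) (by omega) e1 hh

/-- **Commuting lemma**, final form: `h ∈ X i`, `h ≠ 1` commuting with `z ∈ X i ⋯ X (i+k-1)`, `k ≤ m`, gives
`z ∈ X i ⋯ X (i+l-1)` whenever `m ≤ 2 l - 2 + 1`. -/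
theorem mem_of_commute (i : ZMod (2 * m)) {l : ℕ} (hl : m < 2 * l) {h z : G} (hh : h ∈ X i) (hh1 : h ≠ 1)
    (hc : h * z = z * h) : ∀ {k : ℕ}, k ≤ m → z ∈ seg X i k → z ∈ seg X i l := by
  intro k
  induction k with
  | zero => intro _ hz; exact seg_mono X i (Nat.zero_le l) hz
  | succ k ih =>
    intro hk hz
    by_cases hkl : k + 1 ≤ l
    · exact seg_mono X i hkl hz
    · exact ih (by omega) (S.mem_of_commute_step i hk (by omega) hh hh1 hz hc)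

/-- Mirrored commuting lemma: `h ∈ X (i+m-1)`, `h ≠ 1` commuting with `z ∈ X i ⋯ X (i+m-1)` gives
`z ∈ X (i+m-l) ⋯ X (i+m-1)` whenever `m < 2 l`. -/
theorem mem_of_commute' (i : ZMod (2 * m)) {l : ℕ} (hl : m < 2 * l) (hlm : l ≤ m) {h z : G}
    (hh : h ∈ X (i + ((m - 1 : ℕ) : ZMod (2 * m)))) (hh1 : h ≠ 1)
    (hc : h * z = z * h) (hz : z ∈ seg X i m) : z ∈ seg X (i + ((m - l : ℕ) : ZMod (2 * m))) l := by
  have h3 := S.three_le
  have hcast : ∀ r : ℕ, r ≤ m → ((m - r : ℕ) : ZMod (2 * m)) = m - r := fun r hr => by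
    rw [Nat.cast_sub hr]
  have h1 := S.neg.mem_of_commute (-(i + ((m - 1 : ℕ) : ZMod (2 * m)))) hl (h := h) (z := z)
    (by change h ∈ X (-(-(i + ((m - 1 : ℕ) : ZMod (2 * m))))); rw [neg_neg]; exact hh) hh1 hc (k := m) le_rfl
    (by
      rw [seg_neg]
      have e : -(-(i + ((m - 1 : ℕ) : ZMod (2 * m)))) - (m : ℕ) + 1 = i := by
        rw [hcast 1 (by omega)]; push_cast; ring
      rw [e]; exact hz)
  rw [seg_neg] at h1
  have e : -(-(i + ((m - 1 : ℕ) : ZMod (2 * m)))) - (l : ℕ) + 1 = i + ((m - l : ℕ) : ZMod (2 * m)) := by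
    rw [hcast 1 (by omega), hcast l hlm]; push_cast; ring
  rw [e] at h1
  exact h1

/-- **Lemma X** (`m = 2 s`): `w ∈ X (i+s)` commuting with one `1 ≠ a ∈ X (i+2s)` commutes with the partners
`κ(a), λ(a) ∈ X i` and with `μ(a)`. -/
theorem commute_partner {s : ℕ} (hs : m = 2 * s) (i : ZMod (2 * m)) {w a : G} (hw : w ∈ X (i + (s : ℕ)))
    (ha : a ∈ X (i + (m : ℕ))) (ha1 : a ≠ 1) (hc : w * a = a * w) :
    kap X (i + (m : ℕ)) a * w = w * kap X (i + (m : ℕ)) a ∧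
      lam X (i + (m : ℕ)) a * w = w * lam X (i + (m : ℕ)) a := by
  have h3 := S.three_le
  have e0 : i + (m : ℕ) + (m : ℕ) = i := by rw [add_assoc, two_m_cast, add_zero]
  have hk := S.kap_mem ha ha1
  have hl := S.lam_mem ha ha1
  have hr := S.refl ha ha1
  rw [e0] at hk hl
  set k := kap X (i + (m : ℕ)) a with hkd
  set l := lam X (i + (m : ℕ)) a with hld
  have hmu : muMap X (i + (m : ℕ)) a = k * a * l := rfl
  have hms : (m : ZMod (2 * m)) = (s : ZMod (2 * m)) + s := by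
    have := congrArg (Nat.cast : ℕ → ZMod (2 * m)) hs
    push_cast at this
    exact this.trans (two_mul _)
  have hs1 : i + (s : ℕ) = i + (((s - 1) + 1 : ℕ) : ZMod (2 * m)) := by
    have : s = (s - 1) + 1 := by omega
    conv_lhs => rw [this]
  -- for `t ∈ X i`: `[t, w] ∈ seg (i+1) (s-1)`
  have hcw : ∀ t ∈ X i, ⁅t, w⁆ ∈ seg X (i + 1) (s - 1) := by
    intro t ht
    exact S.comm i (s - 1) (by omega) t ht w (by rw [← hs1]; exact hw)
  -- `w' = μ⁻¹ w μ`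
  have hw' : (k * a * l)⁻¹ * w * (k * a * l) ∈ X (i + (s : ℕ)) := by
    have := hr.mem' hw
    rw [hmu] at this
    have e1 : 2 * (i + (m : ℕ)) + (m : ℕ) - (i + (s : ℕ)) = i + (s : ℕ) := by
      have e2 : 2 * (i + (m : ℕ)) + (m : ℕ) - (i + (s : ℕ)) =
        i + ((m : ZMod (2 * m)) + m) + m - s := by ring
      rw [e2, two_m_cast, hms]; ring
    rwa [e1] at this
  have hsub1 : seg X (i + 1) (s - 1) ≤ seg X (i + 1) s := seg_mono X _ (by omega)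
  have hXs : X (i + (s : ℕ)) ≤ seg X (i + 1) s := by
    refine le_seg_one (s - 1) (by omega) ?_
    rw [hs1]; push_cast; ring
  -- `r = w⁻¹ k⁻¹ w k`
  obtain ⟨r, hrd⟩ : ∃ r, r = w⁻¹ * (k⁻¹ * w * k) := ⟨_, rfl⟩
  have hr1 : r ∈ seg X (i + 1) (s - 1) := by
    have h1 := hcw k⁻¹ (inv_mem hk)
    rw [commutatorElement_def] at h1
    -- r = w⁻¹ (k⁻¹ w k w⁻¹) w ; use that X (i+s) normalises the segment
    have h2 := S.conj_right (i + 1) (k := s - 1) (by omega) (b := w⁻¹)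
      (by
        have e : i + 1 + ((s - 1 : ℕ) : ZMod (2 * m)) = i + (s : ℕ) := by rw [hs1]; push_cast; ring
        rw [e]; exact inv_mem hw) h1
    have e : w⁻¹ * (k⁻¹ * w * k⁻¹⁻¹ * w⁻¹) * w⁻¹⁻¹ = r := by rw [hrd]; group
    rw [e] at h2
    exact h2
  have hkw : k⁻¹ * w * k = w * r := by rw [hrd]; group
  have hwa : a⁻¹ * w * a = w := by rw [mul_assoc, hc]; group
  have hra : a⁻¹ * r * a = w⁻¹ * (l * ((k * a * l)⁻¹ * w * (k * a * l)) * l⁻¹) := by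
    have e1 : l * ((k * a * l)⁻¹ * w * (k * a * l)) * l⁻¹ = a⁻¹ * (k⁻¹ * w * k) * a := by group
    rw [e1, hkw]
    have e2 : a⁻¹ * (w * r) * a = (a⁻¹ * w * a) * (a⁻¹ * r * a) := by group
    rw [e2, hwa]; group
  have hcw' : l * ((k * a * l)⁻¹ * w * (k * a * l)) * l⁻¹ ∈ seg X (i + 1) s := by
    have h1 := S.comm i (s - 1) (by omega) l hl _ (by rw [← hs1]; exact hw')
    have e : l * ((k * a * l)⁻¹ * w * (k * a * l)) * l⁻¹ =
        ⁅l, (k * a * l)⁻¹ * w * (k * a * l)⁆ * ((k * a * l)⁻¹ * w * (k * a * l)) := by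
      rw [commutatorElement_def]; group
    rw [e]
    exact mul_mem (hsub1 h1) (hXs hw')
  have hra' : a⁻¹ * r * a ∈ seg X (i + 1) s := by
    rw [hra]
    exact mul_mem (inv_mem (hXs hw)) hcw'
  have hm1 : ((m - 1 : ℕ) : ZMod (2 * m)) = m - 1 := by
    rw [Nat.cast_sub (by omega)]; norm_num
  have hrr : r = 1 := by
    refine S.seg_conj_disjoint i (b := s - 1) (d := s) (by omega) (z := a) ?_ ?_ hr1 hra'
    · refine le_seg_one (m - 1) (by omega) ?_ ha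
      rw [hm1]; ring
    · intro hcon
      apply ha1
      refine S.seg_disjoint (i + 1) (a := m - 1) (b := 1) (by omega) hcon ?_
      rw [seg_one]
      have e : i + 1 + ((m - 1 : ℕ) : ZMod (2 * m)) = i + (m : ℕ) := by rw [hm1]; ring
      rw [e]; exact ha
  have hkw' : k * w = w * k := by
    rw [hrr, mul_one] at hkw
    calc k * w = k * (k⁻¹ * w * k) := by rw [hkw]
      _ = w * k := by group
  refine ⟨hkw', ?_⟩
  -- now `w' = l⁻¹ w l`
  have e3 : (k * a * l)⁻¹ * w * (k * a * l) = l⁻¹ * w * l := by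
    have e4 : (k * a * l)⁻¹ * w * (k * a * l) = l⁻¹ * (a⁻¹ * (k⁻¹ * (w * k)) * a) * l := by group
    rw [e4, ← hkw']
    have e5 : l⁻¹ * (a⁻¹ * (k⁻¹ * (k * w)) * a) * l = l⁻¹ * (a⁻¹ * w * a) * l := by group
    rw [e5, hwa]
  rw [e3] at hw'
  have h6 : l⁻¹ * w * l * w⁻¹ = 1 := by
    apply S.seg_disjoint (i + 1) (a := s - 1) (b := 1) (by omega)
    · have h1 := hcw l⁻¹ (inv_mem hl)
      rw [commutatorElement_def, inv_inv] at h1
      exact h1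
    · rw [seg_one]
      have e : i + 1 + ((s - 1 : ℕ) : ZMod (2 * m)) = i + (s : ℕ) := by rw [hs1]; push_cast; ring
      rw [e]
      exact mul_mem hw' (inv_mem hw)
  have h7 : l⁻¹ * w * l = w := mul_inv_eq_one.mp h6
  calc l * w = l * (l⁻¹ * w * l) := by rw [h7]
    _ = w * l := by group

/-- `w ∈ X (i+s)` (`m = 2 s`) commuting with `X (i+m)` commutes with `X i`. -/
theorem commute_opp {s : ℕ} (hs : m = 2 * s) (i : ZMod (2 * m)) {w : G} (hw : w ∈ X (i + (s : ℕ)))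
    (hc : ∀ a ∈ X (i + (m : ℕ)), w * a = a * w) : ∀ f ∈ X i, w * f = f * w := by
  intro f hf
  obtain ⟨a, ha, ha1⟩ := S.exists_ne_one (i + (m : ℕ))
  obtain ⟨h1, h2⟩ := S.commute_partner hs i hw ha ha1 (hc a ha)
  have hr := S.refl ha ha1
  have hmu : muMap X (i + (m : ℕ)) a * w = w * muMap X (i + (m : ℕ)) a := by
    unfold muMap
    calc kap X (i + (m : ℕ)) a * a * lam X (i + (m : ℕ)) a * w
        = kap X (i + (m : ℕ)) a * a * (lam X (i + (m : ℕ)) a * w) := by group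
      _ = kap X (i + (m : ℕ)) a * (a * w) * lam X (i + (m : ℕ)) a := by rw [h2]; group
      _ = (kap X (i + (m : ℕ)) a * w) * a * lam X (i + (m : ℕ)) a := by rw [← hc a ha]; group
      _ = w * (kap X (i + (m : ℕ)) a * a * lam X (i + (m : ℕ)) a) := by rw [h1]; group
  set n := muMap X (i + (m : ℕ)) a
  have hn : n * f * n⁻¹ ∈ X (i + (m : ℕ)) := by
    have := hr.mem hf
    have e : 2 * (i + (m : ℕ)) + (m : ℕ) - i = i + (m : ℕ) := by
      have e2 : 2 * (i + (m : ℕ)) + (m : ℕ) - i = i + (m : ℕ) + ((m : ZMod (2 * m)) + m) := by ring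
      rw [e2, two_m_cast, add_zero]
    rwa [e] at this
  have h3 := hc _ hn
  have h4 : w = n * w * n⁻¹ := by rw [hmu]; group
  rw [h4] at h3
  have h5 : n * (w * f) * n⁻¹ = n * (f * w) * n⁻¹ := by
    calc n * (w * f) * n⁻¹ = n * w * n⁻¹ * (n * f * n⁻¹) := by group
      _ = n * f * n⁻¹ * (n * w * n⁻¹) := h3
      _ = n * (f * w) * n⁻¹ := by group
  exact mul_left_cancel (mul_right_cancel h5)

/-- `w ∈ X (i+s)` (`m = 2 s`) commuting with `X i` commutes with `X (i+m)`. -/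
theorem commute_opp' {s : ℕ} (hs : m = 2 * s) (i : ZMod (2 * m)) {w : G} (hw : w ∈ X (i + (s : ℕ)))
    (hc : ∀ a ∈ X i, w * a = a * w) : ∀ f ∈ X (i + (m : ℕ)), w * f = f * w := by
  intro f hf
  have hms : (m : ZMod (2 * m)) = (s : ZMod (2 * m)) + s := by
    have := congrArg (Nat.cast : ℕ → ZMod (2 * m)) hs
    push_cast at this
    exact this.trans (two_mul _)
  have h := S.neg.commute_opp hs (-(i + (m : ℕ))) (w := w)
    (by
      change w ∈ X (-(-(i + (m : ℕ)) + (s : ℕ)))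
      have e : -(-(i + (m : ZMod (2 * m))) + (s : ℕ)) = i + (s : ℕ) := by rw [hms]; ring
      rw [e]; exact hw)
    (by
      intro a ha
      change a ∈ X (-(-(i + (m : ℕ)) + (m : ℕ))) at ha
      have e : -(-(i + (m : ZMod (2 * m))) + (m : ℕ)) = i := by ring
      rw [e] at ha
      exact hc a ha)
  apply h
  change f ∈ X (-(-(i + (m : ℕ))))
  rw [neg_neg]; exact hf

end Sys

end Cfsg.Agent.SplitTwo
end

-- part: SplitTwo/HexCentre
section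
/-!
# Moufang hexagons (S1144, `m = 6`), part [6a]

Shifted systems, `p`-group centre, the groups `Dc X i` of central elements of `X i` and the dichotomy
`Dc X 3 ≠ 1` or `Dc X 4 ≠ 1`.
-/

set_option autoImplicit false

namespace Cfsg.Agent.SplitTwo

open scoped commutatorElement Pointwise

universe u

variable {G : Type u} [Group G]

section Shift

variable {m : ℕ}

theorem seg_shift (X : ZMod (2 * m) → Subgroup G) (c i : ZMod (2 * m)) (k : ℕ) :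
    seg (fun j => X (j + c)) i k = seg X (i + c) k := by
  apply le_antisymm
  · refine seg_le fun r hr => ?_
    exact le_seg_one r hr (by ring)
  · refine seg_le fun r hr => ?_
    have := le_seg (fun j => X (j + c)) i (k := k) hr
    have e : i + c + (r : ℕ) = i + (r : ℕ) + c := by ring
    rw [e]; exact this

theorem Refl.shift {X : ZMod (2 * m) → Subgroup G} {c i : ZMod (2 * m)} {n : G} (h : Refl X (i + c) n) :
    Refl (fun j => X (j + c)) i n := by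
  intro j x
  have h1 := h (j + c) x
  have e : 2 * (i + c) + (m : ℕ) - (j + c) = 2 * i + (m : ℕ) - j + c := by ring
  rw [e] at h1
  exact h1

theorem Sys.shift {X : ZMod (2 * m) → Subgroup G} (S : Sys m X) (c : ZMod (2 * m)) :
    Sys m (fun j => X (j + c)) where
  three_le := S.three_le
  ne_bot := fun i => S.ne_bot (i + c)
  comm := by
    intro i k hk a ha b hb
    rw [seg_shift]
    have e : i + ((k + 1 : ℕ) : ZMod (2 * m)) + c = i + c + ((k + 1 : ℕ) : ZMod (2 * m)) := by ring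
    have h := S.comm (i + c) k hk a ha b (by rw [← e]; exact hb)
    have e2 : i + c + 1 = i + 1 + c := by ring
    rw [e2] at h
    exact h
  inter := by
    intro i x hx hx'
    rw [seg_shift] at hx'
    have e2 : i + 1 + c = i + c + 1 := by ring
    rw [e2] at hx'
    exact S.inter (i + c) x hx hx'
  mu := by
    intro i u hu hu1
    obtain ⟨v, w, hv, hw, hr⟩ := S.exists_isMu (i := i + c) hu hu1
    have e : i + c + (m : ℕ) = i + (m : ℕ) + c := by ring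
    rw [e] at hv hw
    exact ⟨v, hv, w, hw, hr.shift⟩

/-- `seg X i k` is a `p`-group. -/
theorem Sys.isPGroup_seg {X : ZMod (2 * m) → Subgroup G} (S : Sys m X) {p : ℕ}
    (hp : ∀ i, IsPGroup p (X i)) (i : ZMod (2 * m)) {k : ℕ} (hk : k ≤ m) : IsPGroup p (seg X i k) := by
  induction k with
  | zero =>
    rw [seg_zero]; exact IsPGroup.of_bot
  | succ k ih =>
    rw [seg_succ]
    have h1 : X (i + (k : ℕ)) ≤ Subgroup.normalizer ((seg X i k : Subgroup G) : Set G) := by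
      intro b hb
      rw [Subgroup.mem_normalizer_iff]
      intro y
      constructor
      · intro hy; exact S.conj_right i (by omega) hb hy
      · intro hy
        have := S.conj_right i (by omega) (inv_mem hb) hy
        have e : b⁻¹ * (b * y * b⁻¹) * b⁻¹⁻¹ = y := by group
        rwa [e] at this
    exact (ih (by omega)).to_sup_of_normal_left' (hp _) h1

/-- A non-trivial segment group of a finite `p`-group system has non-trivial centre. -/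
theorem Sys.exists_center [Finite G] {X : ZMod (2 * m) → Subgroup G} (S : Sys m X) {p : ℕ}
    (hpp : p.Prime) (hp : ∀ i, IsPGroup p (X i)) (i : ZMod (2 * m)) {k : ℕ} (hk : k + 1 ≤ m) :
    ∃ z ∈ seg X i (k + 1), z ≠ 1 ∧ ∀ y ∈ seg X i (k + 1), z * y = y * z := by
  haveI := Fact.mk hpp
  have h := S.isPGroup_seg hp i hk
  obtain ⟨x, hx, hx1⟩ := S.exists_ne_one i
  haveI : Nontrivial (seg X i (k + 1)) := by
    refine ⟨⟨⟨x, ?_⟩, 1, ?_⟩⟩
    · exact le_seg_one 0 (by omega) (by push_cast; ring) hx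
    · intro e
      apply hx1
      exact congrArg Subtype.val e
  haveI := h.center_nontrivial
  obtain ⟨z, hz⟩ := exists_ne (1 : Subgroup.center (seg X i (k + 1)))
  refine ⟨((z : seg X i (k + 1)) : G), (z : seg X i (k + 1)).2, ?_, ?_⟩
  · intro e
    apply hz
    apply Subtype.ext
    exact Subtype.ext e
  · intro y hy
    have h1 := Subgroup.mem_center_iff.mp z.2 ⟨y, hy⟩
    exact (congrArg Subtype.val h1).symm

end Shift

/-! ## `m = 6` -/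

variable {X : ZMod (2 * 6) → Subgroup G}

/-- Elements of `X i` centralising `X (i-3), …, X (i+3)`. -/
def Dc (X : ZMod (2 * 6) → Subgroup G) (i : ZMod (2 * 6)) : Subgroup G :=
  X i ⊓ Subgroup.centralizer (seg X (i - 3) 7 : Set G)

theorem mem_Dc {i : ZMod (2 * 6)} {x : G} : x ∈ Dc X i ↔ x ∈ X i ∧ ∀ y ∈ seg X (i - 3) 7, x * y = y * x := by
  unfold Dc
  rw [Subgroup.mem_inf, Subgroup.mem_centralizer_iff]
  constructor
  · rintro ⟨h1, h2⟩; exact ⟨h1, fun y hy => (h2 y hy).symm⟩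
  · rintro ⟨h1, h2⟩; exact ⟨h1, fun y hy => (h2 y hy).symm⟩

/-- An element commuting with each `X (i + r)`, `r < k`, commutes with `seg X i k`. -/
theorem commute_seg {m : ℕ} {X : ZMod (2 * m) → Subgroup G} {i : ZMod (2 * m)} {k : ℕ} {x : G}
    (h : ∀ r < k, ∀ y ∈ X (i + (r : ℕ)), x * y = y * x) : ∀ y ∈ seg X i k, x * y = y * x := by
  intro y hy
  have h1 : seg X i k ≤ Subgroup.centralizer {x} := by
    refine seg_le fun r hr y hy => ?_
    rw [Subgroup.mem_centralizer_iff]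
    rintro z rfl
    exact h r hr y hy
  have h2 := h1 hy
  rw [Subgroup.mem_centralizer_iff] at h2
  exact h2 x rfl

/-- It is enough to centralise `X (i-3), …, X (i+2)`. -/
theorem mem_Dc_of_left (S : Sys 6 X) {i : ZMod (2 * 6)} {x : G} (hx : x ∈ X i)
    (h : ∀ y ∈ seg X (i - 3) 6, x * y = y * x) : x ∈ Dc X i := by
  rw [mem_Dc]
  refine ⟨hx, ?_⟩
  have h1 := S.commute_opp' (s := 3) rfl (i - 3) (w := x)
    (by
      have e : i - 3 + ((3 : ℕ) : ZMod (2 * 6)) = i := by push_cast; ring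
      rw [e]; exact hx)
    (fun a ha => h a (le_seg_one 0 (by norm_num) (by push_cast; ring) ha))
  apply commute_seg
  intro r hr y hy
  rcases Nat.lt_succ_iff_lt_or_eq.mp hr with hr | hr
  · exact h y (le_seg X _ hr hy)
  · subst hr
    exact h1 y hy

/-- It is enough to centralise `X (i-2), …, X (i+3)`. -/
theorem mem_Dc_of_right (S : Sys 6 X) {i : ZMod (2 * 6)} {x : G} (hx : x ∈ X i)
    (h : ∀ y ∈ seg X (i - 2) 6, x * y = y * x) : x ∈ Dc X i := by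
  rw [mem_Dc]
  refine ⟨hx, ?_⟩
  have h1 := S.commute_opp (s := 3) rfl (i - 3) (w := x)
    (by
      have e : i - 3 + ((3 : ℕ) : ZMod (2 * 6)) = i := by push_cast; ring
      rw [e]; exact hx)
    (fun a ha => h a (le_seg_one 5 (by norm_num) (by push_cast; ring) ha))
  apply commute_seg
  intro r hr y hy
  rcases Nat.eq_zero_or_pos r with h0 | h0
  · subst h0
    apply h1
    have e : i - 3 + ((0 : ℕ) : ZMod (2 * 6)) = i - 3 := by push_cast; ring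
    rwa [e] at hy
  · obtain ⟨s, rfl⟩ : ∃ s, r = s + 1 := ⟨r - 1, by omega⟩
    refine h y (le_seg_one s (by omega) ?_ hy)
    push_cast; ring

theorem Dc_refl {k j : ZMod (2 * 6)} {n x : G} (hr : Refl X k n) (hx : x ∈ Dc X j) :
    n * x * n⁻¹ ∈ Dc X (2 * k + (6 : ℕ) - j) := by
  rw [mem_Dc] at hx ⊢
  refine ⟨hr.mem hx.1, ?_⟩
  intro y hy
  have h1 : n⁻¹ * y * n ∈ seg X (j - 3) 7 := by
    refine hr.seg_mem' ?_ hy
    push_cast; ring
  have h2 := hx.2 _ h1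
  calc n * x * n⁻¹ * y = n * (x * (n⁻¹ * y * n)) * n⁻¹ := by group
    _ = n * ((n⁻¹ * y * n) * x) * n⁻¹ := by rw [h2]
    _ = y * (n * x * n⁻¹) := by group

/-- `Z(X 1 ⋯ X 6) ≤ X 3 X 4` (any base point). -/
theorem center_six (S : Sys 6 X) (i : ZMod (2 * 6)) {z : G} (hz : z ∈ seg X i 6)
    (hc : ∀ y ∈ seg X i 6, z * y = y * z) : z ∈ seg X (i + 2) 2 := by
  obtain ⟨a, ha, ha1⟩ := S.exists_ne_one i
  obtain ⟨b, hb, hb1⟩ := S.exists_ne_one (i + ((6 - 1 : ℕ) : ZMod (2 * 6)))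
  have h1 := S.mem_of_commute i (l := 4) (by norm_num) ha ha1
    (hc a (le_seg_one 0 (by norm_num) (by push_cast; ring) ha)).symm (k := 6) le_rfl hz
  have h2 := S.mem_of_commute' i (l := 4) (by norm_num) (by norm_num) hb hb1
    (hc b (le_seg_one 5 (by norm_num) rfl hb)).symm hz
  exact S.seg_inter i 2 2 2 (by norm_num) h1 h2

/-- `Z(X i ⋯ X (i+4)) ≤ X (i+1) X (i+2) X (i+3)`. -/
theorem center_five (S : Sys 6 X) (i : ZMod (2 * 6)) {z : G} (hz : z ∈ seg X i 5)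
    (hc : ∀ y ∈ seg X i 5, z * y = y * z) : z ∈ seg X (i + 1) 3 := by
  obtain ⟨a, ha, ha1⟩ := S.exists_ne_one i
  obtain ⟨b, hb, hb1⟩ := S.exists_ne_one (i - 1 + ((6 - 1 : ℕ) : ZMod (2 * 6)))
  have h1 := S.mem_of_commute i (l := 4) (by norm_num) ha ha1
    (hc a (le_seg_one 0 (by norm_num) (by push_cast; ring) ha)).symm (k := 5) (by norm_num) hz
  have h2 := S.mem_of_commute' (i - 1) (l := 4) (by norm_num) (by norm_num) hb hb1
    (hc b (le_seg_one 4 (by norm_num) (by push_cast; ring) hb)).symm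
    (seg_le_seg 1 (by norm_num) (by push_cast; ring) hz)
  have e : i - 1 + ((6 - 4 : ℕ) : ZMod (2 * 6)) = i + ((1 : ℕ) : ZMod (2 * 6)) := by push_cast; ring
  rw [e] at h2
  have h3 := S.seg_inter i 1 3 1 (by norm_num) h1 h2
  have e2 : i + ((1 : ℕ) : ZMod (2 * 6)) = i + 1 := by push_cast; ring
  rw [e2] at h3
  exact h3

/-- **Dichotomy.** -/
theorem exists_Dc (S : Sys 6 X)
    (hZ : ∃ z ∈ seg X 1 6, z ≠ 1 ∧ ∀ y ∈ seg X 1 6, z * y = y * z) :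
    (∃ x ∈ Dc X 3, x ≠ 1) ∨ (∃ x ∈ Dc X 4, x ≠ 1) := by
  by_contra hcon
  push Not at hcon
  obtain ⟨h3, h4⟩ := hcon
  obtain ⟨z, hz, hz1, hzc⟩ := hZ
  have hz34 := center_six S 1 hz hzc
  have i3 : (1 : ZMod (2 * 6)) + 2 = 3 := by decide
  rw [i3] at hz34
  obtain ⟨z3, hz3, z4, hz4, hzz⟩ := (S.mem_seg_succ_left 3 (k := 1) (by norm_num)).mp hz34
  rw [seg_one] at hz4
  have i4 : (3 : ZMod (2 * 6)) + 1 = 4 := by decide
  rw [i4] at hz4
  have hz31 : z3 ≠ 1 := by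
    rintro rfl
    rw [one_mul] at hzz
    subst hzz
    apply hz1
    apply h4
    refine mem_Dc_of_left S hz4 ?_
    have e : (4 : ZMod (2 * 6)) - 3 = 1 := by decide
    rw [e]; exact hzc
  have hz41 : z4 ≠ 1 := by
    rintro rfl
    rw [mul_one] at hzz
    subst hzz
    apply hz1
    apply h3
    refine mem_Dc_of_right S hz3 ?_
    have e : (3 : ZMod (2 * 6)) - 2 = 1 := by decide
    rw [e]; exact hzc
  -- `n1` reflects `j ↦ 8 - j`, `n6` reflects `j ↦ 6 - j`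
  obtain ⟨a, ha, ha1⟩ := S.exists_ne_one 1
  obtain ⟨b, hb, hb1⟩ := S.exists_ne_one 6
  have hr1 := S.refl ha ha1
  have hr6 := S.refl hb hb1
  set n1 := muMap X 1 a
  set n6 := muMap X 6 b
  -- `y`
  obtain ⟨y5, hy5d⟩ : ∃ y5, y5 = n1 * z3 * n1⁻¹ := ⟨_, rfl⟩
  obtain ⟨y4, hy4d⟩ : ∃ y4, y4 = n1 * z4 * n1⁻¹ := ⟨_, rfl⟩
  have hy5 : y5 ∈ X 5 := by
    have := hr1.mem hz3
    have e : 2 * (1 : ZMod (2 * 6)) + ((6 : ℕ) : ZMod (2 * 6)) - 3 = 5 := by decide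
    rw [e] at this
    rw [hy5d]; exact this
  have hy4 : y4 ∈ X 4 := by
    have := hr1.mem hz4
    have e : 2 * (1 : ZMod (2 * 6)) + ((6 : ℕ) : ZMod (2 * 6)) - 4 = 4 := by decide
    rw [e] at this
    rw [hy4d]; exact this
  have hy51 : y5 ≠ 1 := by
    intro e
    apply hz31
    rw [hy5d] at e
    have : z3 = n1⁻¹ * (n1 * z3 * n1⁻¹) * n1 := by group
    rw [this, e]; group
  obtain ⟨y, hyd⟩ : ∃ y, y = y5 * y4 := ⟨_, rfl⟩
  have hyz : y = n1 * z * n1⁻¹ := by rw [hyd, hy5d, hy4d, ← hzz]; group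
  have hyc : ∀ t ∈ seg X 2 5, y * t = t * y := by
    intro t ht
    have h1 : n1⁻¹ * t * n1 ∈ seg X 2 5 := hr1.seg_mem' (by decide) ht
    have h2 := hzc _ (seg_le_seg 1 (by norm_num) (by decide) h1)
    rw [hyz]
    calc n1 * z * n1⁻¹ * t = n1 * (z * (n1⁻¹ * t * n1)) * n1⁻¹ := by group
      _ = n1 * ((n1⁻¹ * t * n1) * z) * n1⁻¹ := by rw [h2]
      _ = t * (n1 * z * n1⁻¹) := by group
  -- `x`
  obtain ⟨x1, hx1d⟩ : ∃ x1, x1 = n6 * y5 * n6⁻¹ := ⟨_, rfl⟩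
  obtain ⟨x2, hx2d⟩ : ∃ x2, x2 = n6 * y4 * n6⁻¹ := ⟨_, rfl⟩
  have hx1 : x1 ∈ X 1 := by
    have := hr6.mem hy5
    have e : 2 * (6 : ZMod (2 * 6)) + ((6 : ℕ) : ZMod (2 * 6)) - 5 = 1 := by decide
    rw [e] at this
    rw [hx1d]; exact this
  have hx2 : x2 ∈ X 2 := by
    have := hr6.mem hy4
    have e : 2 * (6 : ZMod (2 * 6)) + ((6 : ℕ) : ZMod (2 * 6)) - 4 = 2 := by decide
    rw [e] at this
    rw [hx2d]; exact this
  have hx11 : x1 ≠ 1 := by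
    intro e
    apply hy51
    rw [hx1d] at e
    have : y5 = n6⁻¹ * (n6 * y5 * n6⁻¹) * n6 := by group
    rw [this, e]; group
  obtain ⟨x, hxd⟩ : ∃ x, x = x1 * x2 := ⟨_, rfl⟩
  have hxy : x = n6 * y * n6⁻¹ := by rw [hxd, hx1d, hx2d, hyd]; group
  have hxc : ∀ t ∈ seg X 0 5, x * t = t * x := by
    intro t ht
    have h1 : n6⁻¹ * t * n6 ∈ seg X 2 5 := hr6.seg_mem' (by decide) ht
    have h2 := hyc _ h1
    rw [hxy]
    calc n6 * y * n6⁻¹ * t = n6 * (y * (n6⁻¹ * t * n6)) * n6⁻¹ := by group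
      _ = n6 * ((n6⁻¹ * t * n6) * y) * n6⁻¹ := by rw [h2]
      _ = t * (n6 * y * n6⁻¹) := by group
  -- memberships
  have hx1' : x1 ∈ seg X 0 5 := le_seg_one 1 (by norm_num) (by decide) hx1
  have hx2' : x2 ∈ seg X 0 5 := le_seg_one 2 (by norm_num) (by decide) hx2
  have hx0 : x ∈ seg X 0 5 := by rw [hxd]; exact mul_mem hx1' hx2'
  have hy5' : y5 ∈ seg X 2 5 := le_seg_one 3 (by norm_num) (by decide) hy5
  have hy4' : y4 ∈ seg X 2 5 := le_seg_one 2 (by norm_num) (by decide) hy4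
  have hy0 : y ∈ seg X 2 5 := by rw [hyd]; exact mul_mem hy5' hy4'
  -- `x` normalises `seg X 2 5`, `y` normalises `seg X 0 5`
  have hxn : ∀ t ∈ seg X 2 5, x * t * x⁻¹ ∈ seg X 2 5 := by
    intro t ht
    have h1 : x2 * t * x2⁻¹ ∈ seg X 2 5 := by
      have h2 : x2 ∈ seg X 2 5 := le_seg_one 0 (by norm_num) (by decide) hx2
      exact mul_mem (mul_mem h2 ht) (inv_mem h2)
    have h2 := S.conj_left 1 (k := 5) (by norm_num) hx1 (x := x2 * t * x2⁻¹)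
      (by
        have e : (1 : ZMod (2 * 6)) + 1 = 2 := by decide
        rw [e]; exact h1)
    have e : (1 : ZMod (2 * 6)) + 1 = 2 := by decide
    rw [e] at h2
    have e2 : x * t * x⁻¹ = x1 * (x2 * t * x2⁻¹) * x1⁻¹ := by rw [hxd]; group
    rw [e2]; exact h2
  have hyn : ∀ t ∈ seg X 0 5, y * t * y⁻¹ ∈ seg X 0 5 := by
    intro t ht
    have h1 : y4 * t * y4⁻¹ ∈ seg X 0 5 := by
      have h2 : y4 ∈ seg X 0 5 := le_seg_one 4 (by norm_num) (by decide) hy4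
      exact mul_mem (mul_mem h2 ht) (inv_mem h2)
    have h2 := S.conj_right 0 (k := 5) (by norm_num) (b := y5)
      (by
        have e : (0 : ZMod (2 * 6)) + ((5 : ℕ) : ZMod (2 * 6)) = 5 := by decide
        rw [e]; exact hy5) h1
    have e2 : y * t * y⁻¹ = y5 * (y4 * t * y4⁻¹) * y5⁻¹ := by rw [hyd]; group
    rw [e2]; exact h2
  -- inverses normalise too (finite index free: use conjugate commutation)
  obtain ⟨c, hcd⟩ : ∃ c, c = x * y * x⁻¹ * y⁻¹ := ⟨_, rfl⟩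
  have hc2 : c ∈ seg X 2 5 := by rw [hcd]; exact mul_mem (hxn y hy0) (inv_mem hy0)
  have hc0 : c ∈ seg X 0 5 := by
    have e : c = x * (y * x⁻¹ * y⁻¹) := by rw [hcd]; group
    rw [e]; exact mul_mem hx0 (hyn _ (inv_mem hx0))
  -- `c` commutes with `seg X 2 5`
  have hxinv : ∀ t ∈ seg X 2 5, x⁻¹ * t * x ∈ seg X 2 5 := by
    intro t ht
    have h1 : x1⁻¹ * t * x1 ∈ seg X 2 5 := by
      have h2 := S.conj_left 1 (k := 5) (by norm_num) (inv_mem hx1) (x := t)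
        (by
          have e : (1 : ZMod (2 * 6)) + 1 = 2 := by decide
          rw [e]; exact ht)
      have e : (1 : ZMod (2 * 6)) + 1 = 2 := by decide
      rw [e, inv_inv] at h2
      exact h2
    have h2 : x2 ∈ seg X 2 5 := le_seg_one 0 (by norm_num) (by decide) hx2
    have e2 : x⁻¹ * t * x = x2⁻¹ * (x1⁻¹ * t * x1) * x2 := by rw [hxd]; group
    rw [e2]; exact mul_mem (mul_mem (inv_mem h2) h1) h2
  have hyinv : ∀ t ∈ seg X 0 5, y⁻¹ * t * y ∈ seg X 0 5 := by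
    intro t ht
    have h1 : y5⁻¹ * t * y5 ∈ seg X 0 5 := by
      have h2 := S.conj_right 0 (k := 5) (by norm_num) (b := y5⁻¹)
        (by
          have e : (0 : ZMod (2 * 6)) + ((5 : ℕ) : ZMod (2 * 6)) = 5 := by decide
          rw [e]; exact inv_mem hy5) ht
      rwa [inv_inv] at h2
    have h2 : y4 ∈ seg X 0 5 := le_seg_one 4 (by norm_num) (by decide) hy4
    have e2 : y⁻¹ * t * y = y4⁻¹ * (y5⁻¹ * t * y5) * y4 := by rw [hyd]; group
    rw [e2]; exact mul_mem (mul_mem (inv_mem h2) h1) h2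
  have hcc2 : ∀ t ∈ seg X 2 5, c * t = t * c := by
    intro t ht
    have h1 := hyc _ (hxinv t ht)
    have h2 := hyc t ht
    have h3 : y⁻¹ * t = t * y⁻¹ := by
      calc y⁻¹ * t = y⁻¹ * (t * y) * y⁻¹ := by group
        _ = y⁻¹ * (y * t) * y⁻¹ := by rw [h2]
        _ = t * y⁻¹ := by group
    rw [hcd]
    calc x * y * x⁻¹ * y⁻¹ * t = x * y * x⁻¹ * (y⁻¹ * t) := by group
      _ = x * y * x⁻¹ * (t * y⁻¹) := by rw [h3]
      _ = x * (y * (x⁻¹ * t * x)) * x⁻¹ * y⁻¹ := by group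
      _ = x * ((x⁻¹ * t * x) * y) * x⁻¹ * y⁻¹ := by rw [h1]
      _ = t * (x * y * x⁻¹ * y⁻¹) := by group
  have hcc0 : ∀ t ∈ seg X 0 5, c * t = t * c := by
    intro t ht
    have h1 := hxc _ (hyinv t ht)
    have h2 := hxc t ht
    have h3 : x⁻¹ * (y⁻¹ * t * y) = (y⁻¹ * t * y) * x⁻¹ := by
      calc x⁻¹ * (y⁻¹ * t * y) = x⁻¹ * ((y⁻¹ * t * y) * x) * x⁻¹ := by group
        _ = x⁻¹ * (x * (y⁻¹ * t * y)) * x⁻¹ := by rw [h1]
        _ = (y⁻¹ * t * y) * x⁻¹ := by group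
    rw [hcd]
    calc x * y * x⁻¹ * y⁻¹ * t = x * y * (x⁻¹ * (y⁻¹ * t * y)) * y⁻¹ := by group
      _ = x * y * ((y⁻¹ * t * y) * x⁻¹) * y⁻¹ := by rw [h3]
      _ = (x * t) * y * x⁻¹ * y⁻¹ := by group
      _ = (t * x) * y * x⁻¹ * y⁻¹ := by rw [h2]
      _ = t * (x * y * x⁻¹ * y⁻¹) := by group
  -- `c ∈ X 3`
  have hc3 : c ∈ X 3 := by
    have h1 := center_five S 2 hc2 hcc2
    have h2 := center_five S 0 hc0 hcc0
    have e1 : (2 : ZMod (2 * 6)) + 1 = 3 := by decide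
    have e2 : (0 : ZMod (2 * 6)) + 1 = 1 := by decide
    rw [e1] at h1
    rw [e2] at h2
    have h5 := S.seg_inter 1 2 1 2 (by norm_num) (x := c) h2
      (by
        have e : (1 : ZMod (2 * 6)) + ((2 : ℕ) : ZMod (2 * 6)) = 3 := by decide
        rw [e]; exact h1)
    have e : (1 : ZMod (2 * 6)) + ((2 : ℕ) : ZMod (2 * 6)) = 3 := by decide
    rw [e, seg_one] at h5
    exact h5
  have hc1 : c = 1 := by
    apply h3
    rw [mem_Dc]
    refine ⟨hc3, commute_seg ?_⟩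
    intro r hr t ht
    have e : (3 : ZMod (2 * 6)) - 3 = 0 := by decide
    rw [e, zero_add] at ht
    by_cases hr5 : r < 5
    · exact hcc0 t (le_seg_one r hr5 (by ring) ht)
    · have : r = 5 ∨ r = 6 := by omega
      rcases this with h | h
      · subst h
        exact hcc2 t (le_seg_one 3 (by norm_num) (by decide) ht)
      · subst h
        exact hcc2 t (le_seg_one 4 (by norm_num) (by decide) ht)
  -- `x` commutes with `y5`
  have hxycomm : x * y = y * x := by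
    have e : x * y = c * (y * x) := by rw [hcd]; group
    rw [e, hc1, one_mul]
  have hxy5 : y5 * x = x * y5 := by
    have h1 := hxc y4 (le_seg_one 4 (by norm_num) (by decide) hy4)
    have e : y5 = y * y4⁻¹ := by rw [hyd]; group
    have h2 : y4⁻¹ * x = x * y4⁻¹ := by
      calc y4⁻¹ * x = y4⁻¹ * (x * y4) * y4⁻¹ := by group
        _ = y4⁻¹ * (y4 * x) * y4⁻¹ := by rw [h1]
        _ = x * y4⁻¹ := by group
    rw [e]
    calc y * y4⁻¹ * x = y * (y4⁻¹ * x) := by group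
      _ = (y * x) * y4⁻¹ := by rw [h2]; group
      _ = x * (y * y4⁻¹) := by rw [← hxycomm]; group
  have hfin := S.mem_of_commute' 0 (l := 4) (by norm_num) (by norm_num) (h := y5) (z := x)
    (by
      have e : (0 : ZMod (2 * 6)) + ((6 - 1 : ℕ) : ZMod (2 * 6)) = 5 := by decide
      rw [e]; exact hy5) hy51 hxy5 (seg_mono X _ (by norm_num) hx0)
  have e6 : (0 : ZMod (2 * 6)) + ((6 - 4 : ℕ) : ZMod (2 * 6)) = 2 := by decide
  rw [e6] at hfin
  apply hx11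
  refine S.inter_left 1 (k := 4) (by norm_num) hx1 ?_
  have e7 : (1 : ZMod (2 * 6)) + 1 = 2 := by decide
  rw [e7]
  have e8 : x1 = x * x2⁻¹ := by rw [hxd]; group
  rw [e8]
  exact mul_mem hfin (inv_mem (le_seg_one 0 (by norm_num) (by decide) hx2))

/-- After a shift by `1` if necessary, `Dc X 4 ≠ 1`. -/
theorem exists_Dc_four [Finite G] (R : RootSys 6 G) :
    (∃ x ∈ Dc R.X 4, x ≠ 1) ∨ (∃ x ∈ Dc (fun i => R.X (i + 1)) 4, x ≠ 1) := by
  have S := R.toSys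
  rcases exists_Dc S (S.exists_center R.prime R.isPGroup 1 (k := 5) (by norm_num)) with ⟨x, hx, hx1⟩ | h
  · right
    -- `x ∈ Dc X 3 = Dc X' 2`, reflect by `X' 0`
    have S' := S.shift 1
    have hx' : x ∈ Dc (fun i => R.X (i + 1)) 2 := by
      rw [mem_Dc] at hx ⊢
      have e1 : (2 : ZMod (2 * 6)) + 1 = 3 := by decide
      refine ⟨by rw [e1]; exact hx.1, ?_⟩
      intro y hy
      rw [seg_shift] at hy
      have e2 : (2 : ZMod (2 * 6)) - 3 + 1 = 3 - 3 := by decide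
      rw [e2] at hy
      exact hx.2 y hy
    obtain ⟨b, hb, hb1⟩ := S'.exists_ne_one 0
    have hr := S'.refl hb hb1
    have h2 := Dc_refl hr hx'
    have e3 : 2 * (0 : ZMod (2 * 6)) + ((6 : ℕ) : ZMod (2 * 6)) - 2 = 4 := by decide
    rw [e3] at h2
    refine ⟨_, h2, ?_⟩
    intro e
    apply hx1
    have e4 : x = (muMap (fun i => R.X (i + 1)) 0 b)⁻¹ *
        (muMap (fun i => R.X (i + 1)) 0 b * x * (muMap (fun i => R.X (i + 1)) 0 b)⁻¹) *
          muMap (fun i => R.X (i + 1)) 0 b := by group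
    rw [e4, e]; group
  · exact Or.inl h

end Cfsg.Agent.SplitTwo
end
end

-- part: SplitTwo/QuadB2
section
prune_inst 0x200000000000000000000000000000000000000000000000000000000100000000000000000000000000001028000000000000000000000000000800000000000000000200000000000000000000000000000000000000000000000000000000000000000
set_option linter.all false
open scoped Cfsg.Agent.FastGrp

/-!
# Positive relations of type `B₂` and a root group system give a `B₂` package (S1144, `m = 4`)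
-/

set_option autoImplicit false

namespace Cfsg.Agent.SplitTwo.QuadB2

open Cfsg.Agent.TitsThree.B2Pkg Cfsg.Agent.TitsThree.Siegel Cfsg.Agent.TitsThree
open scoped commutatorElement

universe u

variable {F : Type*} [Field F] {V : Type*} [AddCommGroup V] [Module F V]

/-- Positive relations over a parameter system `D`, inside a root group system of type `B₂`. -/
structure PB {G : Type u} [Group G] (D : PQDatum F V) (X : ZMod (2 * 4) → Subgroup G) (x y : F → G)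
    (z₁ z₂ : D.T → G) : Prop where
  S : Sys 4 X
  x_add : ∀ a b, x (a + b) = x a * x b
  y_add : ∀ a b, y (a + b) = y a * y b
  z₁_mul : ∀ p q, z₁ (p * q) = z₁ p * z₁ q
  z₂_mul : ∀ p q, z₂ (p * q) = z₂ p * z₂ q
  x_inj : Function.Injective x
  y_inj : Function.Injective y
  z₁_inj : Function.Injective z₁
  z₂_inj : Function.Injective z₂
  x_mem : ∀ g, g ∈ X 1 ↔ ∃ a, x a = g
  z₁_mem : ∀ g, g ∈ X 2 ↔ ∃ p, z₁ p = g
  y_mem : ∀ g, g ∈ X 3 ↔ ∃ a, y a = g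
  z₂_mem : ∀ g, g ∈ X 4 ↔ ∃ p, z₂ p = g
  x_z₂ : ∀ a p, ⁅x a, z₂ p⁆ = z₁ (D.sc a p) * y (-(D.ε * a * D.σ p.c))
  z₁_z₂ : ∀ p q, ⁅z₁ p, z₂ q⁆ = y (-D.h q.w p.w)
  x_y : ∀ a b, ⁅x a, y b⁆ = z₁ (D.tr a b)
  x_z₁ : ∀ a p, Commute (x a) (z₁ p)
  y_z₁ : ∀ b p, Commute (y b) (z₁ p)
  y_z₂ : ∀ b p, Commute (y b) (z₂ p)

namespace PB

variable {G : Type u} [Group G] {D : PQDatum F V} {X : ZMod (2 * 4) → Subgroup G} {x y : F → G}
  {z₁ z₂ : D.T → G} (P : PB D X x y z₁ z₂)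

include P

theorem mx (a : F) : x a ∈ X 1 := (P.x_mem _).2 ⟨a, rfl⟩
theorem mz₁ (a : D.T) : z₁ a ∈ X 2 := (P.z₁_mem _).2 ⟨a, rfl⟩
theorem my (a : F) : y a ∈ X 3 := (P.y_mem _).2 ⟨a, rfl⟩
theorem mz₂ (a : D.T) : z₂ a ∈ X 4 := (P.z₂_mem _).2 ⟨a, rfl⟩

theorem x_zero : x 0 = 1 := add_zero' P.x_add
theorem y_zero : y 0 = 1 := add_zero' P.y_add
theorem z₁_one : z₁ 1 = 1 := mul_one' P.z₁_mul
theorem z₂_one : z₂ 1 = 1 := mul_one' P.z₂_mul
theorem x_neg (a : F) : x (-a) = (x a)⁻¹ := _root_.Cfsg.Agent.TitsThree.B2Pkg.add_neg' P.x_add a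
theorem z₁_inv (a : D.T) : z₁ a⁻¹ = (z₁ a)⁻¹ := mul_inv' P.z₁_mul a
theorem z₂_inv (a : D.T) : z₂ a⁻¹ = (z₂ a)⁻¹ := mul_inv' P.z₂_mul a

theorem x_ne {a : F} (h : a ≠ 0) : x a ≠ 1 := fun e => h (P.x_inj (e.trans P.x_zero.symm))
theorem y_ne {a : F} (h : a ≠ 0) : y a ≠ 1 := fun e => h (P.y_inj (e.trans P.y_zero.symm))

theorem z₂_ne {p : D.T} (h : p.c ≠ 0) : z₂ p ≠ 1 := fun e =>
  h (PQDatum.T.c_eq_zero_iff.2 (P.z₂_inj (e.trans P.z₂_one.symm)))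
theorem z₁_ne {p : D.T} (h : p.c ≠ 0) : z₁ p ≠ 1 := fun e =>
  h (PQDatum.T.c_eq_zero_iff.2 (P.z₁_inj (e.trans P.z₁_one.symm)))

end PB

section idx
variable {G : Type u} [Group G] (X : ZMod (2 * 4) → Subgroup G)

theorem s41 : X 4 = seg X 4 1 := (seg_one X 4).symm
theorem s3_3 : X 3 ≤ seg X 3 2 := le_seg X 3 (k := 2) (r := 0) (by norm_num)
theorem s3_4 : X 4 ≤ seg X 3 2 := le_seg X 3 (k := 2) (r := 1) (by norm_num)
theorem s2_2 : X 2 ≤ seg X 2 3 := le_seg X 2 (k := 3) (r := 0) (by norm_num)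
theorem s2_3 : X 3 ≤ seg X 2 3 := le_seg X 2 (k := 3) (r := 1) (by norm_num)
theorem s2_4 : X 4 ≤ seg X 2 3 := le_seg X 2 (k := 3) (r := 2) (by norm_num)

end idx

section conj
variable {G : Type u} [Group G] {m : ℕ} {X : ZMod (2 * m) → Subgroup G}

theorem refl_conj {i i₀ : ZMod (2 * m)} {n g : G} (hn : Refl X i₀ n) (h : Refl X i g) :
    Refl X (2 * i₀ + (m : ℕ) - i) (n * g * n⁻¹) := by
  intro j x
  have e1 : 2 * (2 * i₀ + (m : ℕ) - i) + (m : ℕ) - j =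
      2 * i₀ + (m : ℕ) - (2 * i + (m : ℕ) - (2 * i₀ + (m : ℕ) - j)) := by
    have := two_m_cast m
    linear_combination this
  have e2 : n * g * n⁻¹ * x * (n * g * n⁻¹)⁻¹ = n * (g * (n⁻¹ * x * n⁻¹⁻¹) * g⁻¹) * n⁻¹ := by group
  rw [e1, e2, hn, h, hn.inv]

theorem isMu_conj {i i₀ : ZMod (2 * m)} {n u v w : G} (hn : Refl X i₀ n) (h : IsMu X i u v w) :
    IsMu X (2 * i₀ + (m : ℕ) - i) (n * u * n⁻¹) (n * v * n⁻¹) (n * w * n⁻¹) := by
  have e : 2 * i₀ + (m : ℕ) - i + (m : ℕ) = 2 * i₀ + (m : ℕ) - (i + (m : ℕ)) := by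
    have := two_m_cast m
    linear_combination this
  refine ⟨?_, ?_, ?_⟩
  · rw [e]; exact hn.mem h.1
  · rw [e]; exact hn.mem h.2.1
  · have e2 : n * v * n⁻¹ * (n * u * n⁻¹) * (n * w * n⁻¹) = n * (v * u * w) * n⁻¹ := by group
    rw [e2]
    exact refl_conj hn h.2.2

theorem lam_conj (S : Sys m X) {i i₀ : ZMod (2 * m)} {n u : G} (hn : Refl X i₀ n) (hu : u ∈ X i)
    (hu1 : u ≠ 1) : lam X (2 * i₀ + (m : ℕ) - i) (n * u * n⁻¹) = n * lam X i u * n⁻¹ := by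
  refine S.lam_eq (hn.mem hu) ?_ (isMu_conj hn (S.isMu hu hu1))
  intro h
  apply hu1
  simpa only [_root_.conj_eq_one_iff] using h

end conj

namespace PB

variable {G : Type u} [Group G] {D : PQDatum F V} {X : ZMod (2 * 4) → Subgroup G} {x y : F → G}
  {z₁ z₂ : D.T → G} (P : PB D X x y z₁ z₂)

include P

/-! ### Components -/

theorem comp_yz {b b' : F} {q q' : D.T} (h : y b * z₂ q = y b' * z₂ q') : b = b' ∧ q = q' := by
  have h1 : (y b')⁻¹ * y b = 1 := by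
    apply P.S.inter_left 3 (k := 1) (by norm_num) (mul_mem (inv_mem (P.my b')) (P.my b))
    have e : (y b')⁻¹ * y b = z₂ q' * (z₂ q)⁻¹ := by
      rw [inv_mul_eq_iff_eq_mul, ← mul_assoc, ← h]; group
    rw [e]
    exact (s41 X).le (mul_mem (P.mz₂ q') (inv_mem (P.mz₂ q)))
  have h2 : b' = b := P.y_inj (inv_mul_eq_one.1 h1)
  subst h2
  exact ⟨rfl, P.z₂_inj (mul_left_cancel h)⟩

theorem comp_zyz {p p' : D.T} {b b' : F} {q q' : D.T}
    (h : z₁ p * (y b * z₂ q) = z₁ p' * (y b' * z₂ q')) : p = p' ∧ b = b' ∧ q = q' := by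
  have h1 : (z₁ p')⁻¹ * z₁ p = 1 := by
    apply P.S.inter_left 2 (k := 2) (by norm_num) (mul_mem (inv_mem (P.mz₁ p')) (P.mz₁ p))
    have e : (z₁ p')⁻¹ * z₁ p = (y b' * z₂ q') * (y b * z₂ q)⁻¹ := by
      rw [inv_mul_eq_iff_eq_mul, ← mul_assoc, ← h]; group
    rw [e]
    have h3 : ∀ b q, y b * z₂ q ∈ seg X (2 + 1) 2 := fun b q =>
      mul_mem (s3_3 X (P.my b)) (s3_4 X (P.mz₂ q))
    exact mul_mem (h3 _ _) (inv_mem (h3 _ _))
  have h2 : p' = p := P.z₁_inj (inv_mul_eq_one.1 h1)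
  subst h2
  exact ⟨rfl, P.comp_yz (mul_left_cancel h)⟩

theorem comp {a a' : F} {p p' : D.T} {b b' : F} {q q' : D.T}
    (h : x a * (z₁ p * (y b * z₂ q)) = x a' * (z₁ p' * (y b' * z₂ q'))) :
    a = a' ∧ p = p' ∧ b = b' ∧ q = q' := by
  have h1 : (x a')⁻¹ * x a = 1 := by
    apply P.S.inter_left 1 (k := 3) (by norm_num) (mul_mem (inv_mem (P.mx a')) (P.mx a))
    have e : (x a')⁻¹ * x a = (z₁ p' * (y b' * z₂ q')) * (z₁ p * (y b * z₂ q))⁻¹ := by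
      rw [inv_mul_eq_iff_eq_mul, ← mul_assoc, ← h]; group
    rw [e]
    have h3 : ∀ p b q, z₁ p * (y b * z₂ q) ∈ seg X (1 + 1) 3 := fun p b q =>
      mul_mem (s2_2 X (P.mz₁ p)) (mul_mem (s2_3 X (P.my b)) (s2_4 X (P.mz₂ q)))
    exact mul_mem (h3 _ _ _) (inv_mem (h3 _ _ _))
  have h2 : a' = a := P.x_inj (inv_mul_eq_one.1 h1)
  subst h2
  exact ⟨rfl, P.comp_zyz (mul_left_cancel h)⟩

theorem comp_zy {p p' : D.T} {b b' : F} (h : z₁ p * y b = z₁ p' * y b') : p = p' ∧ b = b' := by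
  have h1 := P.comp_zyz (p := p) (p' := p') (b := b) (b' := b') (q := 1) (q' := 1)
    (by rw [P.z₂_one, mul_one, mul_one, h])
  exact ⟨h1.1, h1.2.1⟩

/-! ### Conjugation formulas -/

theorem cxz₂ (a : F) (p : D.T) : x a * z₂ p * (x a)⁻¹ = z₁ (D.sc a p) * (y (-(D.ε * a * D.σ p.c)) * z₂ p) := by
  rw [B2Rel.conj_of_br (P.x_z₂ a p), mul_assoc]

theorem cxy (a b : F) : x a * y b * (x a)⁻¹ = z₁ (D.tr a b) * y b := B2Rel.conj_of_br (P.x_y a b)

theorem cz₂x (p : D.T) (a : F) :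
    z₂ p * x a * (z₂ p)⁻¹ = x a * (z₁ (D.sc (-a) p) * y (D.ε * a * D.σ p.c)) := by
  have h := P.x_z₂ (-a) p
  rw [commutatorElement_def, P.x_neg, inv_inv] at h
  have e : z₂ p * x a * (z₂ p)⁻¹ = x a * ((x a)⁻¹ * z₂ p * x a * (z₂ p)⁻¹) := by group
  rw [e, h]
  congr 3
  ring

theorem cz₂z₁ (p q : D.T) : z₂ p * z₁ q * (z₂ p)⁻¹ = z₁ q * y (D.h p.w q.w) := by
  have h := P.z₁_z₂ q⁻¹ p
  rw [commutatorElement_def, P.z₁_inv, inv_inv, PQDatum.T.inv_w] at h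
  have h2 : D.h p.w (-q.w) = -D.h p.w q.w := by
    have := D.smul_right (-1) p.w q.w
    simpa only [_root_.neg_smul, _root_.one_smul, _root_.RingEquiv.map_neg_one, _root_.neg_mul, _root_.one_mul] using this
  rw [h2, neg_neg] at h
  have e : z₂ p * z₁ q * (z₂ p)⁻¹ = z₁ q * ((z₁ q)⁻¹ * z₂ p * z₁ q * (z₂ p)⁻¹) := by group
  rw [e, h]

/-! ### The reflections `N t = μ (x t)`, `M p = μ (z₂ p)` -/

omit P in
/-- `μ (x t)` -/
noncomputable def N (X : ZMod (2 * 4) → Subgroup G) (x : F → G) (t : F) : G := muMap X 1 (x t)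

omit P in
/-- `μ (z₂ p)` -/
noncomputable def M (X : ZMod (2 * 4) → Subgroup G) (z₂ : D.T → G) (p : D.T) : G := muMap X 4 (z₂ p)

theorem N_neg {t : F} (ht : t ≠ 0) : N X x (-t) = (N X x t)⁻¹ := by
  unfold N
  rw [P.x_neg, P.S.muMap_inv (P.mx t) (P.x_ne ht)]

theorem M_inv {p : D.T} (hp : p.c ≠ 0) : M X z₂ p⁻¹ = (M X z₂ p)⁻¹ := by
  unfold M
  rw [P.z₂_inv, P.S.muMap_inv (P.mz₂ p) (P.z₂_ne hp)]

theorem N_z₂ {t : F} (ht : t ≠ 0) (p : D.T) : N X x t * z₂ p * (N X x t)⁻¹ = z₁ (D.sc t p) := by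
  have h0 : -t ≠ 0 := neg_ne_zero.2 ht
  have h1 : (x (-t))⁻¹ * z₂ p * x (-t) * (z₂ p)⁻¹ = z₁ (D.sc t p) * y (-(D.ε * t * D.σ p.c)) := by
    rw [← P.x_z₂, commutatorElement_def, P.x_neg, inv_inv]
  have h2 := P.S.tw_left (i := 1) (P.mx (-t)) (P.x_ne h0) (P.mz₂ p) (P.mz₁ _)
    ((seg_one X 3).ge (P.my _)) h1
  have h3 := P.N_neg h0
  rw [neg_neg] at h3
  rw [h3, inv_inv]
  exact h2

theorem N_z₁ {t : F} (ht : t ≠ 0) (p : D.T) :
    N X x t * z₁ p * (N X x t)⁻¹ = z₂ (D.sc (-t⁻¹) p) := by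
  have h0 : -t ≠ 0 := neg_ne_zero.2 ht
  have h := P.N_z₂ h0 (D.sc (-t⁻¹) p)
  rw [P.N_neg ht, PQDatum.sc_sc, inv_inv] at h
  have e : -t * -t⁻¹ = 1 := by field_simp
  rw [e, PQDatum.sc_one] at h
  rw [← h]; group

theorem M_x {p : D.T} (hp : p.c ≠ 0) (a : F) :
    M X z₂ p * x a * (M X z₂ p)⁻¹ = y (D.ε * D.σ p.c * a) := by
  have h1 : (x a)⁻¹ * z₂ p * x a * (z₂ p)⁻¹ = z₁ (D.sc (-a) p) * y (D.ε * D.σ p.c * a) := by
    have h := P.x_z₂ (-a) p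
    rw [commutatorElement_def, P.x_neg, inv_inv] at h
    rw [h]
    congr 2; ring
  have h2 := P.S.tw_right (i := 1) (P.mx a) (P.mz₂ p) (P.z₂_ne hp) (P.my _)
    ((seg_one X 2).ge (P.mz₁ _)) h1
  exact h2

theorem M_y {p : D.T} (hp : p.c ≠ 0) (b : F) :
    M X z₂ p * y b * (M X z₂ p)⁻¹ = x (p.c⁻¹ * b) := by
  have h := P.M_x (p := p⁻¹) (D.inv_c_ne hp) (p.c⁻¹ * b)
  rw [P.M_inv hp] at h
  have e : D.ε * D.σ p⁻¹.c * (p.c⁻¹ * b) = b := by
    rw [PQDatum.T.inv_c, map_mul, D.σσ, D.σε]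
    have := D.ε_ne
    field_simp
  rw [e] at h
  rw [← h]; group

theorem M_x' {p : D.T} (hp : p.c ≠ 0) (a : F) :
    (M X z₂ p)⁻¹ * x a * M X z₂ p = y (p.c * a) := by
  have h := P.M_y hp (p.c * a)
  rw [inv_mul_cancel_left₀ hp] at h
  rw [← h]; group

theorem M_y' {p : D.T} (hp : p.c ≠ 0) (b : F) :
    (M X z₂ p)⁻¹ * y b * M X z₂ p = x (D.ε⁻¹ * (D.σ p.c)⁻¹ * b) := by
  have h := P.M_x hp (D.ε⁻¹ * (D.σ p.c)⁻¹ * b)
  have e : D.ε * D.σ p.c * (D.ε⁻¹ * (D.σ p.c)⁻¹ * b) = b := by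
    have := D.ε_ne
    have := D.σ_ne hp
    field_simp
  rw [e] at h
  rw [← h]; group

/-- `X 5` acts on `X 3`. -/
theorem X5_y {l : G} (hl : l ∈ X 5) (b : F) : ∃ s, l * y b * l⁻¹ = z₂ s * y b := by
  have h := P.S.comm 3 1 (by norm_num) (y b) (P.my b) l hl
  have h1 : ⁅l, y b⁆ ∈ X 4 := by
    rw [← commutatorElement_inv]
    exact inv_mem ((seg_one X 4).le h)
  obtain ⟨s, hs⟩ := (P.z₂_mem _).1 h1
  exact ⟨s, by rw [hs, commutatorElement_def]; group⟩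

theorem N_mem {t : F} (ht : t ≠ 0) {j : ZMod (2 * 4)} {g : G} (hg : g ∈ X j) :
    N X x t * g * (N X x t)⁻¹ ∈ X (2 * 1 + (4 : ℕ) - j) :=
  (P.S.refl (P.mx t) (P.x_ne ht)).mem hg

theorem M_mem {p : D.T} (hp : p.c ≠ 0) {j : ZMod (2 * 4)} {g : G} (hg : g ∈ X j) :
    M X z₂ p * g * (M X z₂ p)⁻¹ ∈ X (2 * 4 + (4 : ℕ) - j) :=
  (P.S.refl (P.mz₂ p) (P.z₂_ne hp)).mem hg

omit [Field F] [AddCommGroup V] [Module F V] P in
theorem N_eq (t : F) : N X x t = kap X 1 (x t) * x t * lam X 1 (x t) := rfl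

omit P in
theorem M_eq (p : D.T) : M X z₂ p = kap X 4 (z₂ p) * z₂ p * lam X 4 (z₂ p) := rfl

theorem N_y {t : F} (ht : t ≠ 0) (b : F) :
    N X x t * y b * (N X x t)⁻¹ = y (D.ε * t * (D.σ t)⁻¹ * D.σ b) := by
  obtain ⟨b', hb'⟩ := (P.y_mem _).1 (P.N_mem ht (P.my b) : _ ∈ X 3)
  obtain ⟨s, hs⟩ := P.X5_y (P.S.lam_mem (P.mx t) (P.x_ne ht)) b
  have hk : (kap X 1 (x t))⁻¹ ∈ X 5 := inv_mem (P.S.kap_mem (P.mx t) (P.x_ne ht))
  obtain ⟨s', hs'⟩ := P.X5_y hk b'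
  have h1 : z₂ s' * y b' = x t * (z₂ s * y b) * (x t)⁻¹ := by
    rw [← hs', ← hs, hb', N_eq]; group
  rw [mul_conj, P.cxz₂, P.cxy] at h1
  have h2 : x 0 * (z₁ 1 * (y b' * z₂ s')) =
      x 0 * (z₁ (D.sc t s * D.tr t b) * (y (-(D.ε * t * D.σ s.c) + b) * z₂ s)) := by
    rw [P.x_zero, P.z₁_one, one_mul, one_mul, one_mul, (P.y_z₂ b' s').eq, h1, P.z₁_mul, P.y_add]
    have e1 : z₂ s * z₁ (D.tr t b) = z₁ (D.tr t b) * z₂ s := by
      have h3 := P.cz₂z₁ s (D.tr t b)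
      rw [PQDatum.tr_w, D.zero_right, P.y_zero, mul_one] at h3
      exact mul_inv_eq_iff_eq_mul.1 h3
    have e2 := (P.y_z₁ (-(D.ε * t * D.σ s.c)) (D.tr t b)).eq
    have e3 := (P.y_z₂ b s).eq
    calc z₁ (D.sc t s) * (y (-(D.ε * t * D.σ s.c)) * z₂ s) * (z₁ (D.tr t b) * y b)
        = z₁ (D.sc t s) * (y (-(D.ε * t * D.σ s.c)) * (z₂ s * z₁ (D.tr t b)) * y b) := by group
      _ = z₁ (D.sc t s) * ((y (-(D.ε * t * D.σ s.c)) * z₁ (D.tr t b)) * (z₂ s * y b)) := by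
          rw [e1]; group
      _ = _ := by rw [e2, ← e3]; group
  obtain ⟨-, h3, h4, h5⟩ := P.comp h2
  rw [← hb', h4]
  have h6 := congrArg PQDatum.T.c h3
  rw [PQDatum.T.mul_c, PQDatum.tr_w, D.zero_left, PQDatum.tr_c, PQDatum.sc_c, PQDatum.T.one_c] at h6
  congr 1
  have h7 := congrArg D.σ h6
  have hσ := D.σ_ne ht
  have hε := D.ε_mul
  simp only [map_zero, map_sub, map_add, map_mul, D.σσ] at h7
  have e8 : D.σ s.c * (D.σ t * t) = -(t * D.σ b) + D.σ D.ε * D.σ t * b := by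
    linear_combination -h7
  have e9 : D.σ s.c = (-(t * D.σ b) + D.σ D.ε * D.σ t * b) / (D.σ t * t) := by
    rw [← e8]; field_simp
  rw [e9]
  field_simp
  linear_combination -(b * D.σ t) * hε

/-- `X 0` acts on `X 2`. -/
theorem X0_z₁ {l : G} (hl : l ∈ X 0) (p : D.T) : ∃ s, l * z₁ p * l⁻¹ = x s * z₁ p := by
  have h := P.S.comm 0 1 (by norm_num) l hl (z₁ p) (P.mz₁ p)
  obtain ⟨s, hs⟩ := (P.x_mem _).1 ((seg_one X 1).le h)
  exact ⟨s, by rw [hs, commutatorElement_def]; group⟩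

theorem M_z₁ {p : D.T} (hp : p.c ≠ 0) (q : D.T) :
    M X z₂ p * z₁ q * (M X z₂ p)⁻¹ = z₁ (D.refl p hp q) := by
  obtain ⟨q', hq'⟩ := (P.z₁_mem _).1 (P.M_mem hp (P.mz₁ q) : _ ∈ X 2)
  obtain ⟨s, hs⟩ := P.X0_z₁ (P.S.lam_mem (P.mz₂ p) (P.z₂_ne hp)) q
  have hk : (kap X 4 (z₂ p))⁻¹ ∈ X 0 := inv_mem (P.S.kap_mem (P.mz₂ p) (P.z₂_ne hp))
  obtain ⟨s', hs'⟩ := P.X0_z₁ hk q'
  have h1 : x s' * z₁ q' = z₂ p * (x s * z₁ q) * (z₂ p)⁻¹ := by
    rw [← hs', ← hs, hq', M_eq]; group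
  rw [mul_conj, P.cz₂x, P.cz₂z₁] at h1
  have h2 : x s' * (z₁ q' * (y 0 * z₂ 1)) =
      x s * (z₁ (D.sc (-s) p * q) * (y (D.ε * s * D.σ p.c + D.h p.w q.w) * z₂ 1)) := by
    rw [P.y_zero, P.z₂_one, one_mul, mul_one, mul_one, h1, P.z₁_mul, P.y_add]
    have e2 := (P.y_z₁ (D.ε * s * D.σ p.c) q).eq
    calc x s * (z₁ (D.sc (-s) p) * y (D.ε * s * D.σ p.c)) * (z₁ q * y (D.h p.w q.w))
        = x s * (z₁ (D.sc (-s) p) * (y (D.ε * s * D.σ p.c) * z₁ q) * y (D.h p.w q.w)) := by group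
      _ = _ := by rw [e2]; group
  obtain ⟨h3, h4, h5, -⟩ := P.comp h2
  rw [← hq', h4]
  have hσ := D.σ_ne hp
  have hε := D.ε_mul
  have hsw := D.swap q.w p.w
  -- `s = -σ(h(q,p)) σ(c)⁻¹`
  have h6 : D.σ s * p.c = -D.h q.w p.w := by
    have h7 : D.σ s * p.c * (D.ε * D.σ D.ε) + D.h q.w p.w = 0 := by
      have h8 := congrArg D.σ h5
      have h9 := D.swap p.w q.w
      simp only [map_zero, map_add, map_mul, D.σσ] at h8
      rw [h9]
      linear_combination (-D.ε) * h8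
    rw [hε, mul_one] at h7
    linear_combination h7
  congr 1
  ext
  · rw [PQDatum.T.mul_w, PQDatum.sc_w, PQDatum.refl_w, add_comm]
    congr 2
    rw [map_neg]
    field_simp
    linear_combination -h6
  · rw [PQDatum.T.mul_c, PQDatum.sc_c, PQDatum.refl_c, PQDatum.sc_w, D.smul_right, map_neg, map_neg, D.σσ]
    linear_combination s * h6

/-! ### Automorphisms of the positive part -/

theorem conj_rel {g : G} {a a' : F} {p p' r : D.T} {b : F} (h1 : g * x a * g⁻¹ = x a')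
    (h2 : g * z₂ p * g⁻¹ = z₂ p') (h3 : g * z₁ (D.sc a p) * g⁻¹ = z₁ r)
    (h4 : g * y (-(D.ε * a * D.σ p.c)) * g⁻¹ = y b) :
    D.sc a' p' = r ∧ -(D.ε * a' * D.σ p'.c) = b := by
  apply P.comp_zy
  rw [← P.x_z₂, ← h1, ← h2, br_conj, P.x_z₂, mul_conj, h3, h4]

theorem N_mem' {t : F} (ht : t ≠ 0) {j : ZMod (2 * 4)} {g : G} (hg : g ∈ X j) :
    (N X x t)⁻¹ * g * N X x t ∈ X (2 * 1 + (4 : ℕ) - j) :=
  (P.S.refl (P.mx t) (P.x_ne ht)).mem' hg

theorem M_mem' {p : D.T} (hp : p.c ≠ 0) {j : ZMod (2 * 4)} {g : G} (hg : g ∈ X j) :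
    (M X z₂ p)⁻¹ * g * M X z₂ p ∈ X (2 * 4 + (4 : ℕ) - j) :=
  (P.S.refl (P.mz₂ p) (P.z₂_ne hp)).mem' hg

theorem N1_z₂ (p : D.T) : N X x 1 * z₂ p * (N X x 1)⁻¹ = z₁ p := by
  rw [P.N_z₂ one_ne_zero, PQDatum.sc_one]

theorem N1_z₁ (p : D.T) : N X x 1 * z₁ p * (N X x 1)⁻¹ = z₂ (D.sc (-1) p) := by
  rw [P.N_z₁ one_ne_zero, inv_one]

theorem N1_y (b : F) : N X x 1 * y b * (N X x 1)⁻¹ = y (D.ε * D.σ b) := by
  rw [P.N_y one_ne_zero, map_one, inv_one, mul_one, mul_one]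

theorem N1_z₁' (p : D.T) : (N X x 1)⁻¹ * z₁ p * N X x 1 = z₂ p := by
  rw [← P.N1_z₂ p]; group

omit P in
/-- the opposite root elements -/
noncomputable def x' (X : ZMod (2 * 4) → Subgroup G) (x : F → G) (a : F) : G :=
  N X x 1 * x (-a) * (N X x 1)⁻¹

theorem exists_c_ne : ∃ p : D.T, p.c ≠ 0 := by
  obtain ⟨g, hg, h1⟩ := P.S.exists_ne_one 4
  obtain ⟨p, rfl⟩ := (P.z₂_mem _).1 hg
  refine ⟨p, fun h => h1 ?_⟩
  rw [PQDatum.T.c_eq_zero_iff.1 h, P.z₂_one]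

omit [AddCommGroup V] [Module F V] P in
theorem N1_x (a : F) : N X x 1 * x a * (N X x 1)⁻¹ = x' X x (-a) := by
  unfold x'; rw [neg_neg]

theorem N1_x' (a : F) : N X x 1 * x' X x a * (N X x 1)⁻¹ = x (-a) := by
  obtain ⟨p, hp⟩ := P.exists_c_ne
  obtain ⟨a', ha'⟩ := (P.x_mem _).1 (P.N_mem one_ne_zero
    (P.N_mem one_ne_zero (P.mx (-a)) : _ ∈ X 5) : _ ∈ X 1)
  have key := P.conj_rel (g := N X x 1 * N X x 1) (a := -a) (a' := a') (p := p) (p' := D.sc (-1) p)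
    (r := D.sc (-1) (D.sc (-a) p)) (b := -(D.ε * (-a) * D.σ p.c))
    (by rw [ha']; group)
    (by rw [← P.N1_z₁, ← P.N1_z₂ p]; group)
    (by rw [← P.N1_z₂ (D.sc (-1) (D.sc (-a) p)), ← P.N1_z₁]; group)
    (by
      set b := -(D.ε * (-a) * D.σ p.c)
      have e : b = D.ε * D.σ (D.ε * D.σ b) := by
        rw [map_mul, D.σσ]
        linear_combination (-b) * D.ε_mul
      conv_rhs => rw [e, ← P.N1_y, ← P.N1_y]
      group)
  have h2 := key.2
  rw [PQDatum.sc_c, map_neg, map_one, neg_one_mul, neg_neg, one_mul] at h2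
  have h3 : a' = -a := by
    have h4 : (D.ε * D.σ p.c) * a' = (D.ε * D.σ p.c) * (-a) := by linear_combination -h2
    exact mul_left_cancel₀ (mul_ne_zero D.ε_ne (D.σ_ne hp)) h4
  rw [← h3, ha']
  unfold x'
  group

omit P in
/-- the opposite root elements -/
noncomputable def z₂' (X : ZMod (2 * 4) → Subgroup G) (z₂ : D.T → G) (r : D.T) (hr : r.c ≠ 0)
    (q : D.T) : G :=
  M X z₂ r * z₂ (D.unrefl r hr (D.sc (D.σ r.c) q)) * (M X z₂ r)⁻¹

theorem M_z₁' {p : D.T} (hp : p.c ≠ 0) (q : D.T) :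
    (M X z₂ p)⁻¹ * z₁ q * M X z₂ p = z₁ (D.unrefl p hp q) := by
  have h := P.M_z₁ hp (D.unrefl p hp q)
  rw [PQDatum.refl_unrefl] at h
  rw [← h]; group

theorem M_z₂ {r : D.T} (hr : r.c ≠ 0) {p : D.T} (hp : p.c ≠ 0) (q : D.T) :
    M X z₂ p * z₂ q * (M X z₂ p)⁻¹ = z₂' X z₂ r hr (D.sc (D.σ p.c)⁻¹ (D.refl p hp q)) := by
  obtain ⟨q', hq'⟩ := (P.z₂_mem _).1 (P.M_mem' hr (P.M_mem hp (P.mz₂ q) : _ ∈ X 0) : _ ∈ X 4)
  have key := P.conj_rel (g := (M X z₂ r)⁻¹ * M X z₂ p) (a := 1)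
    (a' := D.ε⁻¹ * (D.σ r.c)⁻¹ * (D.ε * D.σ p.c * 1)) (p := q) (p' := q')
    (r := D.unrefl r hr (D.refl p hp (D.sc 1 q))) (b := r.c * (p.c⁻¹ * (-(D.ε * 1 * D.σ q.c))))
    (by rw [← P.M_y' hr, ← P.M_x hp]; group)
    (by rw [hq']; group)
    (by rw [← P.M_z₁' hr, ← P.M_z₁ hp]; group)
    (by rw [← P.M_x' hr, ← P.M_y hp]; group)
  have h2 := key.1
  rw [PQDatum.sc_one] at h2
  have hσr := D.σ_ne hr
  have hσp := D.σ_ne hp
  have hε := D.ε_ne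
  have h3 : q' = D.unrefl r hr (D.sc (D.σ r.c) (D.sc (D.σ p.c)⁻¹ (D.refl p hp q))) := by
    rw [PQDatum.sc_sc, PQDatum.unrefl_sc, ← h2, PQDatum.sc_sc]
    have e : D.σ r.c * (D.σ p.c)⁻¹ * (D.ε⁻¹ * (D.σ r.c)⁻¹ * (D.ε * D.σ p.c * 1)) = 1 := by
      field_simp
    rw [e, PQDatum.sc_one]
  unfold z₂'
  rw [← h3, hq']; group

theorem z₂'_eq {r : D.T} (hr : r.c ≠ 0) {p : D.T} (hp : p.c ≠ 0) (q : D.T) :
    z₂' X z₂ r hr q = z₂' X z₂ p hp q := by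
  have h := P.M_z₂ hr hp (D.unrefl p hp (D.sc (D.σ p.c) q))
  rw [PQDatum.refl_unrefl, PQDatum.sc_sc, inv_mul_cancel₀ (D.σ_ne hp), PQDatum.sc_one] at h
  exact h.symm

omit [AddCommGroup V] [Module F V] P in
theorem exists_x' (S : Sys 4 X) (hx : ∀ g, g ∈ X 1 ↔ ∃ a, x a = g) (h1 : x 1 ≠ 1) {g : G} (hg : g ∈ X 5) :
    ∃ a, x' X x a = g := by
  have h2 : (N X x 1)⁻¹ * g * N X x 1 ∈ X 1 := (S.refl ((hx _).2 ⟨1, rfl⟩) h1).mem' hg
  obtain ⟨a, ha⟩ := (hx _).1 h2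
  refine ⟨-a, ?_⟩
  unfold x'
  rw [neg_neg, ha]; group

theorem x'_mem (g : G) : g ∈ X 5 ↔ ∃ a, x' X x a = g := by
  refine ⟨fun h => exists_x' P.S P.x_mem (P.x_ne one_ne_zero) h, ?_⟩
  rintro ⟨a, rfl⟩
  exact (P.N_mem one_ne_zero (P.mx (-a)) :)

theorem z₂'_mem {r : D.T} (hr : r.c ≠ 0) (g : G) : g ∈ X 0 ↔ ∃ a, z₂' X z₂ r hr a = g := by
  constructor
  · intro hg
    obtain ⟨q, hq⟩ := (P.z₂_mem _).1 (P.M_mem' hr hg : _ ∈ X 4)
    refine ⟨D.sc (D.σ r.c)⁻¹ (D.refl r hr q), ?_⟩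
    unfold z₂'
    rw [PQDatum.sc_sc, mul_inv_cancel₀ (D.σ_ne hr), PQDatum.sc_one, PQDatum.unrefl_refl, hq]; group
  · rintro ⟨a, rfl⟩
    exact P.M_mem hr (P.mz₂ _)

theorem x'_add (a b : F) : x' X x (a + b) = x' X x a * x' X x b := by
  unfold x'; rw [neg_add, P.x_add, mul_conj]

theorem x'_neg (a : F) : x' X x (-a) = (x' X x a)⁻¹ := _root_.Cfsg.Agent.TitsThree.B2Pkg.add_neg' P.x'_add a

theorem z₂'_mul {r : D.T} (hr : r.c ≠ 0) (p q : D.T) :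
    z₂' X z₂ r hr (p * q) = z₂' X z₂ r hr p * z₂' X z₂ r hr q := by
  unfold z₂'
  rw [PQDatum.sc_mul]
  have e : D.unrefl r hr (D.sc (D.σ r.c) p * D.sc (D.σ r.c) q) =
      D.unrefl r hr (D.sc (D.σ r.c) p) * D.unrefl r hr (D.sc (D.σ r.c) q) :=
    D.refl_mul _ _ _ _
  rw [e, P.z₂_mul, mul_conj]

theorem z₂'_inv {r : D.T} (hr : r.c ≠ 0) (p : D.T) :
    z₂' X z₂ r hr p⁻¹ = (z₂' X z₂ r hr p)⁻¹ := mul_inv' (P.z₂'_mul hr) p

/-! ### The partners -/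

theorem lam_x {t : F} (ht : t ≠ 0) : lam X 1 (x t) = x' X x (-t⁻¹) := by
  obtain ⟨p, hp⟩ := P.exists_c_ne
  obtain ⟨r, hr⟩ := (P.x'_mem _).1 (P.S.lam_mem (P.mx t) (P.x_ne ht))
  have hk : kap X 1 (x t) ∈ X 5 := P.S.kap_mem (P.mx t) (P.x_ne ht)
  -- first computation
  have h1 : lam X 1 (x t) * z₁ p * (lam X 1 (x t))⁻¹ = z₁ p *
      (y (D.ε * t * D.σ (D.sc (-t⁻¹) p).c) * z₂ (D.sc (-t⁻¹) p)) := by
    have h2 := P.N_z₁ ht p
    set q := D.sc (-t⁻¹) p with hq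
    have h3 : z₂ q * kap X 1 (x t) = kap X 1 (x t) * z₂ q := P.S.comm_one 4 (P.mz₂ q) hk
    have h4 := P.cxz₂ (-t) q
    have e1 : D.sc (-t) q = p := by
      rw [hq, PQDatum.sc_sc]
      have : -t * -t⁻¹ = 1 := by field_simp
      rw [this, PQDatum.sc_one]
    rw [e1, P.x_neg, inv_inv] at h4
    have e2 : -(D.ε * -t * D.σ q.c) = D.ε * t * D.σ q.c := by ring
    rw [e2] at h4
    rw [← h4]
    have h5 : x t * (lam X 1 (x t) * z₁ p * (lam X 1 (x t))⁻¹) * (x t)⁻¹ = z₂ q := by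
      have h6 : kap X 1 (x t) * (x t * (lam X 1 (x t) * z₁ p * (lam X 1 (x t))⁻¹) * (x t)⁻¹) *
          (kap X 1 (x t))⁻¹ = z₂ q := by
        rw [← h2, N_eq]; group
      have h7 : z₂ q = (kap X 1 (x t))⁻¹ * z₂ q * kap X 1 (x t) := by
        rw [mul_assoc, h3]; group
      rw [h7, ← h6]; group
    rw [← h5]; group
  -- second computation
  have h2 : lam X 1 (x t) * z₁ p * (lam X 1 (x t))⁻¹ = z₁ p *
      (y (D.σ r * p.c + D.h (D.sc r p).w p.w) * z₂ (D.sc r p)) := by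
    rw [← hr]
    unfold x'
    have e1 : N X x 1 * x (-r) * (N X x 1)⁻¹ * z₁ p * (N X x 1 * x (-r) * (N X x 1)⁻¹)⁻¹ =
        N X x 1 * (x (-r) * ((N X x 1)⁻¹ * z₁ p * N X x 1) * (x (-r))⁻¹) * (N X x 1)⁻¹ := by group
    rw [e1, P.N1_z₁', P.cxz₂, mul_conj, mul_conj, P.N1_z₁, P.N1_y, P.N1_z₂, PQDatum.sc_sc]
    have e2 : (-1 : F) * -r = r := by ring
    have e3 : D.ε * D.σ (-(D.ε * -r * D.σ p.c)) = D.σ r * p.c := by
      simp only [map_neg, map_mul, D.σσ]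
      linear_combination (D.σ r * p.c) * D.ε_mul
    rw [e2, e3]
    have h3 := mul_inv_eq_iff_eq_mul.1 (P.cz₂z₁ (D.sc r p) p)
    have h4 := (P.y_z₂ (D.σ r * p.c) (D.sc r p)).eq
    have h5 := (P.y_z₁ (D.σ r * p.c) p).eq
    calc z₂ (D.sc r p) * (y (D.σ r * p.c) * z₁ p)
        = z₂ (D.sc r p) * (z₁ p * y (D.σ r * p.c)) := by rw [h5]
      _ = z₂ (D.sc r p) * z₁ p * y (D.σ r * p.c) := by group
      _ = z₁ p * y (D.h (D.sc r p).w p.w) * z₂ (D.sc r p) * y (D.σ r * p.c) := by rw [h3]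
      _ = z₁ p * y (D.h (D.sc r p).w p.w) * (z₂ (D.sc r p) * y (D.σ r * p.c)) := by group
      _ = z₁ p * y (D.h (D.sc r p).w p.w) * (y (D.σ r * p.c) * z₂ (D.sc r p)) := by rw [h4]
      _ = _ := by rw [add_comm, P.y_add]; group
  have h3 := (P.comp_yz (mul_left_cancel (h1.symm.trans h2))).1
  rw [PQDatum.sc_c, PQDatum.sc_w, D.smul_left, map_mul, map_mul, D.σσ, map_neg, map_inv₀] at h3
  have h4 := p.rel
  have hσt := D.σ_ne ht
  have hσp := D.σ_ne hp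
  have hε := D.ε_ne
  -- `σ r = -σ(t)⁻¹`
  have h5 : D.σ r = D.σ (-t⁻¹) := by
    rw [map_neg, map_inv₀]
    have h6 : (D.ε * D.σ p.c) * D.σ r = (D.ε * D.σ p.c) * -(D.σ t)⁻¹ := by
      have h7 : D.ε * t * (-(D.σ t)⁻¹ * -t⁻¹ * D.σ p.c) = D.ε * D.σ p.c * (D.σ t)⁻¹ := by
        field_simp
      rw [h7] at h3
      linear_combination D.σ r * h4 + h3
    exact mul_left_cancel₀ (mul_ne_zero hε hσp) h6
  rw [← hr, D.σ.injective h5]

theorem kap_x {t : F} (ht : t ≠ 0) : kap X 1 (x t) = x' X x (-t⁻¹) := by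
  have h0 : -t ≠ 0 := neg_ne_zero.2 ht
  have h := P.S.kap_inv (P.mx (-t)) (P.x_ne h0)
  rw [P.lam_x h0, P.x_neg, inv_inv] at h
  rw [h, ← P.x'_neg, inv_neg, neg_neg]

theorem N_form {t : F} (ht : t ≠ 0) : N X x t = x' X x (-t⁻¹) * x t * x' X x (-t⁻¹) := by
  rw [N_eq, P.kap_x ht, P.lam_x ht]

theorem N1_form : N X x 1 = x 1 * x' X x (-1) * x 1 := by
  have h := P.N_form one_ne_zero
  rw [inv_one] at h
  have h1 := P.N1_x' (-1)
  have h2 := N1_x (X := X) (x := x) 1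
  rw [neg_neg] at h1
  calc N X x 1 = N X x 1 * N X x 1 * (N X x 1)⁻¹ := by group
    _ = N X x 1 * (x' X x (-1) * x 1 * x' X x (-1)) * (N X x 1)⁻¹ := by rw [← h]
    _ = _ := by rw [mul_conj, mul_conj, h1, h2]

theorem lam_z₂ {p : D.T} (hp : p.c ≠ 0) :
    lam X 4 (z₂ p) = z₂' X z₂ p hp (D.sc (-(D.ε * p.c⁻¹)) p) := by
  have hl : lam X 4 (z₂ p) ∈ X 0 := P.S.lam_mem (P.mz₂ p) (P.z₂_ne hp)
  have hk : kap X 4 (z₂ p) ∈ X 0 := P.S.kap_mem (P.mz₂ p) (P.z₂_ne hp)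
  obtain ⟨q, hq⟩ := (P.z₂_mem _).1 (P.M_mem' hp hl : _ ∈ X 4)
  have hq' : lam X 4 (z₂ p) = M X z₂ p * z₂ q * (M X z₂ p)⁻¹ := by rw [hq]; group
  -- first computation
  have h1 : lam X 4 (z₂ p) * y 1 * (lam X 4 (z₂ p))⁻¹ = x p.c⁻¹ *
      (z₁ (D.sc (-p.c⁻¹) p⁻¹) * y (D.ε * p.c⁻¹ * D.σ p⁻¹.c)) := by
    have h2 := P.M_y hp 1
    rw [mul_one] at h2
    rw [← P.cz₂x, P.z₂_inv, inv_inv]
    have h3 : kap X 4 (z₂ p) * x p.c⁻¹ = x p.c⁻¹ * kap X 4 (z₂ p) := P.S.comm_one 0 hk (P.mx _)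
    have h6 : kap X 4 (z₂ p) * (z₂ p * (lam X 4 (z₂ p) * y 1 * (lam X 4 (z₂ p))⁻¹) * (z₂ p)⁻¹) *
        (kap X 4 (z₂ p))⁻¹ = x p.c⁻¹ := by
      rw [← h2, M_eq]; group
    have h7 : x p.c⁻¹ = (kap X 4 (z₂ p))⁻¹ * x p.c⁻¹ * kap X 4 (z₂ p) := by
      rw [mul_assoc, ← h3]; group
    have h8 : z₂ p * (lam X 4 (z₂ p) * y 1 * (lam X 4 (z₂ p))⁻¹) * (z₂ p)⁻¹ = x p.c⁻¹ := by
      rw [h7, ← h6]; group
    rw [← h8]; group
  -- second computation
  have h2 : lam X 4 (z₂ p) * y 1 * (lam X 4 (z₂ p))⁻¹ =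
      x (p.c⁻¹ * (D.ε * (D.ε⁻¹ * (D.σ p.c)⁻¹ * 1) * D.σ q.c)) *
      (z₁ (D.tr (-(p.c⁻¹ * (D.ε * (D.ε⁻¹ * (D.σ p.c)⁻¹ * 1) * D.σ q.c)))
        (D.ε * D.σ p.c * (D.ε⁻¹ * (D.σ p.c)⁻¹ * 1)) *
        D.refl p hp (D.sc (-(D.ε⁻¹ * (D.σ p.c)⁻¹ * 1)) q)) *
        y (D.ε * D.σ p.c * (D.ε⁻¹ * (D.σ p.c)⁻¹ * 1))) := by
    rw [hq']
    have e1 : M X z₂ p * z₂ q * (M X z₂ p)⁻¹ * y 1 * (M X z₂ p * z₂ q * (M X z₂ p)⁻¹)⁻¹ =
        M X z₂ p * (z₂ q * ((M X z₂ p)⁻¹ * y 1 * M X z₂ p) * (z₂ q)⁻¹) * (M X z₂ p)⁻¹ := by group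
    rw [e1, P.M_y' hp, P.cz₂x, mul_conj, mul_conj, P.M_x hp, P.M_z₁ hp, P.M_y hp]
    set s := D.ε⁻¹ * (D.σ p.c)⁻¹ * 1 with hs
    set v := p.c⁻¹ * (D.ε * s * D.σ q.c) with hv
    set b := D.ε * D.σ p.c * s with hb
    have h3 := mul_inv_eq_iff_eq_mul.1 (P.cxy (-v) b)
    have h4 := (P.y_z₁ b (D.refl p hp (D.sc (-s) q))).eq
    have h5 := (P.x_z₁ v (D.refl p hp (D.sc (-s) q))).eq
    calc y b * (z₁ (D.refl p hp (D.sc (-s) q)) * x v)
        = y b * (x v * z₁ (D.refl p hp (D.sc (-s) q))) := by rw [h5]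
      _ = x v * (x (-v) * y b) * x v * z₁ (D.refl p hp (D.sc (-s) q)) := by rw [P.x_neg]; group
      _ = x v * (z₁ (D.tr (-v) b) * y b * x (-v)) * x v * z₁ (D.refl p hp (D.sc (-s) q)) := by rw [h3]
      _ = x v * (z₁ (D.tr (-v) b) * (y b * z₁ (D.refl p hp (D.sc (-s) q)))) := by rw [P.x_neg]; group
      _ = _ := by rw [h4, P.z₁_mul]; group
  have h3 := h1.symm.trans h2
  have h4 : x p.c⁻¹ * (z₁ (D.sc (-p.c⁻¹) p⁻¹) * (y (D.ε * p.c⁻¹ * D.σ p⁻¹.c) * z₂ 1)) =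
      x (p.c⁻¹ * (D.ε * (D.ε⁻¹ * (D.σ p.c)⁻¹ * 1) * D.σ q.c)) *
      (z₁ (D.tr (-(p.c⁻¹ * (D.ε * (D.ε⁻¹ * (D.σ p.c)⁻¹ * 1) * D.σ q.c)))
        (D.ε * D.σ p.c * (D.ε⁻¹ * (D.σ p.c)⁻¹ * 1)) *
        D.refl p hp (D.sc (-(D.ε⁻¹ * (D.σ p.c)⁻¹ * 1)) q)) *
        (y (D.ε * D.σ p.c * (D.ε⁻¹ * (D.σ p.c)⁻¹ * 1)) * z₂ 1)) := by
    simpa only [P.z₂_one, mul_one] using h3
  obtain ⟨h5, h6, -, -⟩ := P.comp h4
  have hσ := D.σ_ne hp
  have hε := D.ε_ne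
  have h7 : D.σ q.c = D.σ p.c := by
    have h8 : p.c⁻¹ * (D.ε * (D.ε⁻¹ * (D.σ p.c)⁻¹ * 1) * D.σ q.c) = p.c⁻¹ * ((D.σ p.c)⁻¹ * D.σ q.c) := by
      field_simp
    rw [h8] at h5
    have h9 := mul_left_cancel₀ (inv_ne_zero hp) ((mul_one _).trans h5)
    have h10 : D.σ p.c * ((D.σ p.c)⁻¹ * D.σ q.c) = D.σ q.c := by field_simp
    rw [← h10, ← h9, mul_one]
  have h8 : q.c = p.c := D.σ.injective h7
  have h9 := congrArg PQDatum.T.w h6
  rw [PQDatum.T.mul_w, PQDatum.tr_w, zero_add, PQDatum.refl_sc, PQDatum.sc_w, PQDatum.sc_w,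
    PQDatum.T.inv_w] at h9
  rw [hq', P.M_z₂ hp hp]
  congr 1
  ext
  · rw [PQDatum.sc_w, PQDatum.sc_w]
    have h10 : (D.refl p hp q).w = -((D.σ (D.ε⁻¹ * (D.σ p.c)⁻¹))⁻¹ * D.σ p.c⁻¹) • p.w := by
      have h11 : D.σ (-(D.ε⁻¹ * (D.σ p.c)⁻¹ * 1)) ≠ 0 := by
        apply D.σ_ne
        rw [mul_one, neg_ne_zero]
        exact mul_ne_zero (inv_ne_zero hε) (inv_ne_zero hσ)
      have h12 : (D.refl p hp q).w = (D.σ (-(D.ε⁻¹ * (D.σ p.c)⁻¹ * 1)))⁻¹ • (D.σ (-p.c⁻¹) • -p.w) := by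
        rw [h9, smul_smul, inv_mul_cancel₀ h11, one_smul]
      rw [h12, smul_neg, smul_neg, smul_smul, ← neg_smul]
      congr 1
      rw [mul_one, map_neg, map_neg, inv_neg]
      ring
    rw [h10, smul_smul]
    congr 1
    simp only [map_neg, map_mul, map_inv₀, D.σσ]
    have e : D.σ D.ε ≠ 0 := D.σ_ne hε
    field_simp
  · rw [PQDatum.sc_c, PQDatum.refl_c, PQDatum.sc_c, h8]
    simp only [map_neg, map_mul, map_inv₀, D.σσ]
    have h13 := D.ε_mul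
    field_simp
    linear_combination -h13

theorem kap_z₂ {p : D.T} (hp : p.c ≠ 0) :
    kap X 4 (z₂ p) = z₂' X z₂ p hp (D.sc (-(D.σ p.c)⁻¹) p) := by
  have h0 : p⁻¹.c ≠ 0 := D.inv_c_ne hp
  have h := P.S.kap_inv (P.mz₂ p⁻¹) (P.z₂_ne h0)
  rw [P.lam_z₂ h0, P.z₂_inv, inv_inv] at h
  rw [h, ← P.z₂'_inv, P.z₂'_eq h0 hp]
  congr 1
  rw [← PQDatum.sc_inv, inv_inv]
  congr 2
  rw [PQDatum.T.inv_c]
  have := D.ε_ne
  have := D.σ_ne hp
  field_simp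

theorem lam_z₂' {r : D.T} (hr : r.c ≠ 0) {p : D.T} (hp : p.c ≠ 0) :
    lam X 4 (z₂ p) = z₂' X z₂ r hr (D.sc (-(D.ε * p.c⁻¹)) p) := by
  rw [P.lam_z₂ hp, P.z₂'_eq hp hr]

theorem M_form {r : D.T} (hr : r.c ≠ 0) {p : D.T} (hp : p.c ≠ 0) :
    M X z₂ p = z₂' X z₂ r hr (D.sc (-(D.σ p.c)⁻¹) p) * z₂ p *
      z₂' X z₂ r hr (D.sc (-(D.ε * p.c⁻¹)) p) := by
  rw [M_eq, P.kap_z₂ hp, P.lam_z₂ hp, P.z₂'_eq hp hr, P.z₂'_eq hp hr]

omit P in
/-- the opposite root elements -/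
noncomputable def y' (X : ZMod (2 * 4) → Subgroup G) (x : F → G) (z₂ : D.T → G) (r : D.T) (b : F) : G :=
  M X z₂ r * x' X x (-(D.σ r.c * D.σ b)) * (M X z₂ r)⁻¹

omit P in
/-- the opposite root elements -/
noncomputable def z₁' (X : ZMod (2 * 4) → Subgroup G) (x : F → G) (z₂ : D.T → G) (r : D.T)
    (hr : r.c ≠ 0) (q : D.T) : G :=
  N X x 1 * z₂' X z₂ r hr q * (N X x 1)⁻¹

omit P in
/-- the package -/
noncomputable def maps (X : ZMod (2 * 4) → Subgroup G) (x y : F → G) (z₁ z₂ : D.T → G) (r : D.T)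
    (hr : r.c ≠ 0) : B2Maps D G where
  x := x
  x' := x' X x
  y := y
  y' := y' X x z₂ r
  z₁ := z₁
  z₂ := z₂
  z₁' := z₁' X x z₂ r hr
  z₂' := z₂' X z₂ r hr

theorem nI_eq (r : D.T) (hr : r.c ≠ 0) : (maps X x y z₁ z₂ r hr).nI = N X x 1 := P.N1_form.symm

theorem nII_eq (r : D.T) (hr : r.c ≠ 0) {p : D.T} (hp : p.c ≠ 0) :
    (maps X x y z₁ z₂ r hr).nII p = M X z₂ p := (P.M_form hr hp).symm

theorem refl_N {t : F} (ht : t ≠ 0) : Refl X 1 (N X x t) := P.S.refl (P.mx t) (P.x_ne ht)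

theorem refl_M {p : D.T} (hp : p.c ≠ 0) : Refl X 4 (M X z₂ p) := P.S.refl (P.mz₂ p) (P.z₂_ne hp)

theorem lam_N {t : F} (ht : t ≠ 0) {j : ZMod (2 * 4)} {g : G} (hg : g ∈ X j) (h1 : g ≠ 1) :
    lam X (2 * 1 + (4 : ℕ) - j) (N X x t * g * (N X x t)⁻¹) = N X x t * lam X j g * (N X x t)⁻¹ :=
  lam_conj P.S (P.refl_N ht) hg h1

theorem lam_M {p : D.T} (hp : p.c ≠ 0) {j : ZMod (2 * 4)} {g : G} (hg : g ∈ X j) (h1 : g ≠ 1) :
    lam X (2 * 4 + (4 : ℕ) - j) (M X z₂ p * g * (M X z₂ p)⁻¹) =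
      M X z₂ p * lam X j g * (M X z₂ p)⁻¹ :=
  lam_conj P.S (P.refl_M hp) hg h1

private theorem lam_Ne {t : F} (ht : t ≠ 0) {j k : ZMod (2 * 4)} {g : G} (hg : g ∈ X j) (h1 : g ≠ 1)
    (e : 2 * 1 + (4 : ℕ) - j = k) : lam X k (N X x t * g * (N X x t)⁻¹) = N X x t * lam X j g * (N X x t)⁻¹ :=
  e ▸ P.lam_N ht hg h1

private theorem lam_Me {p : D.T} (hp : p.c ≠ 0) {j k : ZMod (2 * 4)} {g : G} (hg : g ∈ X j) (h1 : g ≠ 1)
    (e : 2 * 4 + (4 : ℕ) - j = k) :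
    lam X k (M X z₂ p * g * (M X z₂ p)⁻¹) = M X z₂ p * lam X j g * (M X z₂ p)⁻¹ :=
  e ▸ P.lam_M hp hg h1

/-- (Λ2) -/
theorem lam_z₁ {r : D.T} (hr : r.c ≠ 0) {p : D.T} (hp : p.c ≠ 0) :
    lam X 2 (z₁ p) = z₁' X x z₂ r hr (D.sc (-(D.ε * p.c⁻¹)) p) := by
  have h : lam X 2 (N X x 1 * z₂ p * (N X x 1)⁻¹) = N X x 1 * lam X 4 (z₂ p) * (N X x 1)⁻¹ :=
    lam_Ne P one_ne_zero (P.mz₂ p) (P.z₂_ne hp) (by decide +kernel)
  rw [P.N1_z₂, P.lam_z₂' hr hp] at h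
  exact h

/-- (Λ3) -/
theorem lam_y {r : D.T} (hr : r.c ≠ 0) {b : F} (hb : b ≠ 0) :
    lam X 3 (y b) = y' X x z₂ r (D.ε⁻¹ * (D.σ b)⁻¹) := by
  have hε := D.ε_ne
  have hσ := D.σ_ne hr
  have hσb := D.σ_ne hb
  have ht : D.ε⁻¹ * (D.σ r.c)⁻¹ * b ≠ 0 :=
    mul_ne_zero (mul_ne_zero (inv_ne_zero hε) (inv_ne_zero hσ)) hb
  have h : lam X 3 (M X z₂ r * x (D.ε⁻¹ * (D.σ r.c)⁻¹ * b) * (M X z₂ r)⁻¹) =
      M X z₂ r * lam X 1 (x (D.ε⁻¹ * (D.σ r.c)⁻¹ * b)) * (M X z₂ r)⁻¹ := by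
    exact lam_Me P hr (P.mx _) (P.x_ne ht) (by decide +kernel)
  rw [P.M_x hr, P.lam_x ht] at h
  have e : D.ε * D.σ r.c * (D.ε⁻¹ * (D.σ r.c)⁻¹ * b) = b := by field_simp
  rw [e] at h
  rw [h]
  unfold y'
  congr 3
  have h13 := D.ε_mul
  have e2 : D.σ D.ε ≠ 0 := D.σ_ne hε
  simp only [map_mul, map_inv₀, D.σσ, D.σε]
  field_simp

theorem nII_x' {r : D.T} (hr : r.c ≠ 0) {p : D.T} (hp : p.c ≠ 0) (a : F) :
    M X z₂ p * x' X x a * (M X z₂ p)⁻¹ = y' X x z₂ r (-(p.c⁻¹ * D.σ a)) := by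
  by_cases ha : a = 0
  · subst ha
    have h0 : x' X x 0 = 1 := by unfold x'; rw [neg_zero, P.x_zero]; group
    unfold y'
    rw [map_zero, mul_zero, neg_zero, map_zero, mul_zero, neg_zero, h0]; group
  have hε := D.ε_ne
  have hσ := D.σ_ne hp
  have hσa := D.σ_ne ha
  have ht : -a⁻¹ ≠ 0 := neg_ne_zero.2 (inv_ne_zero ha)
  have h : lam X 3 (M X z₂ p * x (-a⁻¹) * (M X z₂ p)⁻¹) =
      M X z₂ p * lam X 1 (x (-a⁻¹)) * (M X z₂ p)⁻¹ := by
    exact lam_Me P hp (P.mx _) (P.x_ne ht) (by decide +kernel)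
  have e : -(-a⁻¹)⁻¹ = a := by rw [inv_neg, neg_neg, inv_inv]
  have hb : D.ε * D.σ p.c * -a⁻¹ ≠ 0 := mul_ne_zero (mul_ne_zero hε hσ) ht
  rw [P.M_x hp, P.lam_x ht, e, P.lam_y hr hb] at h
  rw [← h]
  congr 1
  simp only [map_mul, map_inv₀, map_neg, D.σσ, D.σε]
  field_simp

theorem nII_y' {r : D.T} (hr : r.c ≠ 0) {p : D.T} (hp : p.c ≠ 0) (b : F) :
    M X z₂ p * y' X x z₂ r b * (M X z₂ p)⁻¹ = x' X x (-(D.ε⁻¹ * p.c * D.σ b)) := by
  have hε := D.ε_ne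
  have hσ := D.σ_ne hp
  by_cases hb : b = 0
  · subst hb
    have h0 : x' X x 0 = 1 := by unfold x'; rw [neg_zero, P.x_zero]; group
    unfold y'
    rw [map_zero, mul_zero, mul_zero, neg_zero, h0]; group
  have hσb := D.σ_ne hb
  have hb1 : D.ε * (D.σ b)⁻¹ ≠ 0 := mul_ne_zero hε (inv_ne_zero hσb)
  have h : lam X 1 (M X z₂ p * y (D.ε * (D.σ b)⁻¹) * (M X z₂ p)⁻¹) =
      M X z₂ p * lam X 3 (y (D.ε * (D.σ b)⁻¹)) * (M X z₂ p)⁻¹ := by
    exact lam_Me P hp (P.my _) (P.y_ne hb1) (by decide +kernel)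
  have ht : p.c⁻¹ * (D.ε * (D.σ b)⁻¹) ≠ 0 := mul_ne_zero (inv_ne_zero hp) hb1
  have e : D.ε⁻¹ * (D.σ (D.ε * (D.σ b)⁻¹))⁻¹ = b := by
    simp only [map_mul, map_inv₀, D.σσ, D.σε]
    field_simp
  rw [P.M_y hp, P.lam_x ht, P.lam_y hr hb1, e] at h
  rw [← h]
  congr 1
  field_simp

theorem nI_y' {r : D.T} (hr : r.c ≠ 0) (b : F) :
    N X x 1 * y' X x z₂ r b * (N X x 1)⁻¹ = y' X x z₂ r (D.ε⁻¹ * D.σ b) := by
  have hε := D.ε_ne
  by_cases hb : b = 0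
  · subst hb
    have h0 : x' X x 0 = 1 := by unfold x'; rw [neg_zero, P.x_zero]; group
    unfold y'
    rw [map_zero, mul_zero, mul_zero, neg_zero, map_zero, mul_zero, neg_zero, h0]; group
  have hσb := D.σ_ne hb
  have hb1 : D.ε * (D.σ b)⁻¹ ≠ 0 := mul_ne_zero hε (inv_ne_zero hσb)
  have h : lam X 3 (N X x 1 * y (D.ε * (D.σ b)⁻¹) * (N X x 1)⁻¹) =
      N X x 1 * lam X 3 (y (D.ε * (D.σ b)⁻¹)) * (N X x 1)⁻¹ := by
    exact lam_Ne P one_ne_zero (P.my _) (P.y_ne hb1) (by decide +kernel)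
  have e : D.ε⁻¹ * (D.σ (D.ε * (D.σ b)⁻¹))⁻¹ = b := by
    simp only [map_mul, map_inv₀, D.σσ, D.σε]
    field_simp
  have hb2 : D.ε * D.σ (D.ε * (D.σ b)⁻¹) ≠ 0 := mul_ne_zero hε (D.σ_ne hb1)
  rw [P.N1_y, P.lam_y hr hb2, P.lam_y hr hb1, e] at h
  rw [← h]
  congr 1
  simp only [map_mul, map_inv₀, D.σσ, D.σε]
  field_simp

theorem z₂'_one {r : D.T} (hr : r.c ≠ 0) : z₂' X z₂ r hr 1 = 1 := mul_one' (P.z₂'_mul hr)

theorem z₁'_mul {r : D.T} (hr : r.c ≠ 0) (p q : D.T) :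
    z₁' X x z₂ r hr (p * q) = z₁' X x z₂ r hr p * z₁' X x z₂ r hr q := by
  unfold z₁'; rw [P.z₂'_mul, mul_conj]

theorem z₁'_one {r : D.T} (hr : r.c ≠ 0) : z₁' X x z₂ r hr 1 = 1 := mul_one' (P.z₁'_mul hr)

theorem y'_add (r : D.T) (a b : F) : y' X x z₂ r (a + b) = y' X x z₂ r a * y' X x z₂ r b := by
  unfold y'
  rw [map_add, mul_add, neg_add, P.x'_add, mul_conj]

omit P in
theorem exists_sc {q : D.T} (hq : q.c ≠ 0) : ∃ p : D.T, p.c ≠ 0 ∧ D.sc (-(D.ε * p.c⁻¹)) p = q := by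
  have hε := D.ε_ne
  have hσ := D.σ_ne hq
  have hm := D.ε_mul
  have hε' : D.σ D.ε ≠ 0 := D.σ_ne hε
  have e : (D.sc (-(D.ε⁻¹ * (D.σ q.c)⁻¹)) q).c = (D.σ q.c)⁻¹ := by
    rw [PQDatum.sc_c]
    simp only [map_mul, map_inv₀, map_neg, D.σσ, D.σε]
    field_simp
  refine ⟨D.sc (-(D.ε⁻¹ * (D.σ q.c)⁻¹)) q, ?_, ?_⟩
  · rw [e]; exact inv_ne_zero hσ
  · rw [e, PQDatum.sc_sc, inv_inv]
    have e2 : -(D.ε * D.σ q.c) * -(D.ε⁻¹ * (D.σ q.c)⁻¹) = 1 := by field_simp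
    rw [e2, PQDatum.sc_one]

omit P in
theorem sc_c_ne {a : F} (ha : a ≠ 0) {p : D.T} (hp : p.c ≠ 0) : (D.sc a p).c ≠ 0 := by
  rw [PQDatum.sc_c]
  exact mul_ne_zero (mul_ne_zero ha (D.σ_ne ha)) hp

theorem nI_z₁' {r : D.T} (hr : r.c ≠ 0) (q : D.T) :
    N X x 1 * z₁' X x z₂ r hr q * (N X x 1)⁻¹ = z₂' X z₂ r hr (D.sc (-1) q) := by
  by_cases hq : q.c = 0
  · rw [PQDatum.T.c_eq_zero_iff.1 hq, D.sc_T_one, P.z₂'_one, P.z₁'_one]; group
  obtain ⟨p, hp, rfl⟩ := exists_sc hq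
  have h : lam X 4 (N X x 1 * z₁ p * (N X x 1)⁻¹) = N X x 1 * lam X 2 (z₁ p) * (N X x 1)⁻¹ := by
    exact lam_Ne P one_ne_zero (P.mz₁ p) (P.z₁_ne hp) (by decide +kernel)
  have h1 : (D.sc (-1) p).c ≠ 0 := sc_c_ne (neg_ne_zero.2 one_ne_zero) hp
  rw [P.N1_z₁, P.lam_z₂' hr h1, P.lam_z₁ hr hp] at h
  rw [← h]
  congr 1
  rw [PQDatum.sc_sc, PQDatum.sc_sc, PQDatum.sc_c]
  congr 1
  rw [map_neg, map_one]
  ring

theorem nII_z₁' {r : D.T} (hr : r.c ≠ 0) {p : D.T} (hp : p.c ≠ 0) (q : D.T) :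
    M X z₂ p * z₁' X x z₂ r hr q * (M X z₂ p)⁻¹ = z₁' X x z₂ r hr (D.refl p hp q) := by
  by_cases hq : q.c = 0
  · have h1 : (D.refl p hp q).c = 0 := hq
    rw [PQDatum.T.c_eq_zero_iff.1 h1, PQDatum.T.c_eq_zero_iff.1 hq, P.z₁'_one]; group
  obtain ⟨s, hs, rfl⟩ := exists_sc hq
  have h : lam X 2 (M X z₂ p * z₁ s * (M X z₂ p)⁻¹) = M X z₂ p * lam X 2 (z₁ s) * (M X z₂ p)⁻¹ := by
    exact lam_Me P hp (P.mz₁ s) (P.z₁_ne hs) (by decide +kernel)
  have h1 : (D.refl p hp s).c ≠ 0 := hs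
  rw [P.M_z₁ hp, P.lam_z₁ hr h1, P.lam_z₁ hr hs] at h
  rw [← h, PQDatum.refl_sc, PQDatum.refl_c]

theorem nII_z₂' {r : D.T} (hr : r.c ≠ 0) {p : D.T} (hp : p.c ≠ 0) (q : D.T) :
    M X z₂ p * z₂' X z₂ r hr q * (M X z₂ p)⁻¹ = z₂ (D.sc (D.ε⁻¹ * p.c) (D.refl p hp q)) := by
  have h0 : p⁻¹.c ≠ 0 := D.inv_c_ne hp
  have h := P.M_z₂ hr h0 (D.sc (D.ε⁻¹ * p.c) (D.refl p hp q))
  have e1 : D.refl p⁻¹ h0 (D.sc (D.ε⁻¹ * p.c) (D.refl p hp q)) = D.sc (D.ε⁻¹ * p.c) q := by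
    rw [PQDatum.refl_sc]
    congr 1
    exact D.unrefl_refl p hp q
  rw [e1, PQDatum.sc_sc, PQDatum.T.inv_c, map_mul, D.σσ, D.σε] at h
  have e2 : (D.ε⁻¹ * p.c)⁻¹ * (D.ε⁻¹ * p.c) = 1 := inv_mul_cancel₀ (mul_ne_zero (inv_ne_zero D.ε_ne) hp)
  rw [e2, PQDatum.sc_one, P.M_inv hp] at h
  rw [← h]; group

/-- **The package.** -/
theorem rel {r : D.T} (hr : r.c ≠ 0) : B2Rel (maps X x y z₁ z₂ r hr) where
  x_add := P.x_add
  x'_add := P.x'_add
  y_add := P.y_add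
  y'_add := P.y'_add r
  z₁_mul := P.z₁_mul
  z₂_mul := P.z₂_mul
  z₁'_mul := P.z₁'_mul hr
  z₂'_mul := P.z₂'_mul hr
  x_z₂ := P.x_z₂
  z₁_z₂ := P.z₁_z₂
  x_y := P.x_y
  x_z₁ := P.x_z₁
  y_z₁ := P.y_z₁
  y_z₂ := P.y_z₂
  nI_x a := by rw [P.nI_eq]; exact N1_x a
  nI_x' a := by rw [P.nI_eq]; exact P.N1_x' a
  nI_y b := by rw [P.nI_eq]; exact P.N1_y b
  nI_y' b := by rw [P.nI_eq]; exact P.nI_y' hr b
  nI_z₁ p := by rw [P.nI_eq]; exact P.N1_z₁ p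
  nI_z₂ p := by rw [P.nI_eq]; exact P.N1_z₂ p
  nI_z₁' p := by rw [P.nI_eq]; exact P.nI_z₁' hr p
  nI_z₂' p := by rw [P.nI_eq]; rfl
  nII_x p hp a := by rw [P.nII_eq r hr hp]; exact P.M_x hp a
  nII_y p hp b := by rw [P.nII_eq r hr hp]; exact P.M_y hp b
  nII_x' p hp a := by rw [P.nII_eq r hr hp]; exact P.nII_x' hr hp a
  nII_y' p hp b := by rw [P.nII_eq r hr hp]; exact P.nII_y' hr hp b
  nII_z₁ p hp q := by rw [P.nII_eq r hr hp]; exact P.M_z₁ hp q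
  nII_z₁' p hp q := by rw [P.nII_eq r hr hp]; exact P.nII_z₁' hr hp q
  nII_z₂ p hp q := by rw [P.nII_eq r hr hp]; exact P.M_z₂ hr hp q
  nII_z₂' p hp q := by rw [P.nII_eq r hr hp]; exact P.nII_z₂' hr hp q

/-! ### Generation -/

theorem top_of_gen (gen : (⨆ i, X i) = ⊤) {K : Subgroup G} (h1 : X 1 ≤ K) (h5 : X 5 ≤ K) (h4 : X 4 ≤ K)
    (h0 : X 0 ≤ K) : K = ⊤ := by
  obtain ⟨r, hr⟩ := P.exists_c_ne
  have hN : N X x 1 ∈ K := by
    rw [P.N1_form]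
    exact mul_mem (mul_mem (h1 (P.mx _)) (h5 ((P.x'_mem _).2 ⟨_, rfl⟩))) (h1 (P.mx _))
  have hM : M X z₂ r ∈ K := by
    rw [P.M_form hr hr]
    exact mul_mem (mul_mem (h0 ((P.z₂'_mem hr _).2 ⟨_, rfl⟩)) (h4 (P.mz₂ _)))
      (h0 ((P.z₂'_mem hr _).2 ⟨_, rfl⟩))
  have hc : ∀ {n g : G}, n ∈ K → n⁻¹ * g * n ∈ K → g ∈ K := by
    intro n g hn hg
    have e : g = n * (n⁻¹ * g * n) * n⁻¹ := by group
    rw [e]
    exact mul_mem (mul_mem hn hg) (inv_mem hn)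
  have h2 : X 2 ≤ K := fun g hg => hc hN (h4 ((P.N_mem' one_ne_zero hg :) : _ ∈ X 4))
  have h3 : X 3 ≤ K := fun g hg => hc hM (h1 (P.M_mem' hr hg : _ ∈ X 1))
  have h6 : X 6 ≤ K := fun g hg => hc hN (h0 (P.N_mem' one_ne_zero hg : _ ∈ X 0))
  have h7 : X 7 ≤ K := fun g hg => hc hM (h5 (P.M_mem' hr hg : _ ∈ X 5))
  rw [eq_top_iff, ← gen]
  refine iSup_le fun i => ?_
  have hi : i = 0 ∨ i = 1 ∨ i = 2 ∨ i = 3 ∨ i = 4 ∨ i = 5 ∨ i = 6 ∨ i = 7 := by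
    revert i; decide
  rcases hi with rfl | rfl | rfl | rfl | rfl | rfl | rfl | rfl <;> assumption

end PB

section borel

variable {G : Type u} [Group G] {X : ZMod (2 * 4) → Subgroup G} (S : Sys 4 X)

include S

theorem norm_right (i : ZMod (2 * 4)) {k : ℕ} (hk : k < 4) :
    X (i + (k : ℕ)) ≤ Subgroup.normalizer ((seg X i k : Subgroup G) : Set G) := by
  intro b hb
  rw [Subgroup.mem_normalizer_iff]
  intro y
  refine ⟨fun hy => S.conj_right i hk hb hy, fun hy => ?_⟩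
  have := S.conj_right i hk (inv_mem hb) hy
  have e : b⁻¹ * (b * y * b⁻¹) * b⁻¹⁻¹ = y := by group
  rwa [e] at this

theorem norm_left (i : ZMod (2 * 4)) {k : ℕ} (hk : k < 4) :
    X i ≤ Subgroup.normalizer ((seg X (i + 1) k : Subgroup G) : Set G) := by
  intro b hb
  rw [Subgroup.mem_normalizer_iff]
  intro y
  refine ⟨fun hy => S.conj_left i hk hb hy, fun hy => ?_⟩
  have := S.conj_left i hk (inv_mem hb) hy
  have e : b⁻¹ * (b * y * b⁻¹) * b⁻¹⁻¹ = y := by group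
  rwa [e] at this

/-- `X 5` meets `⟨X 1, …, X 4⟩` trivially. -/
theorem not_mem_five {g : G} (hg : g ∈ X 5) (h1 : g ≠ 1) : g ∉ seg X 1 4 := by
  intro hU
  have hN : seg X 1 4 ≤ Subgroup.normalizer ((seg X 1 3 : Subgroup G) : Set G) := by
    rw [seg_succ X 1 3]
    exact sup_le Subgroup.le_normalizer (norm_right S 1 (k := 3) (by norm_num))
  obtain ⟨v, w, hv, hw, hr⟩ := S.exists_isMu hg h1
  have hv1 : v ∈ X 1 := hv
  have hw1 : w ∈ X 1 := hw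
  have h14 : X 1 ≤ seg X 1 4 := le_seg X 1 (k := 4) (r := 0) (by norm_num)
  have hn : v * g * w ∈ Subgroup.normalizer ((seg X 1 3 : Subgroup G) : Set G) :=
    hN (mul_mem (mul_mem (h14 hv1) hU) (h14 hw1))
  obtain ⟨t, ht, ht1⟩ := S.exists_ne_one 4
  have h2 : (v * g * w)⁻¹ * t * (v * g * w) ∈ X 2 := hr.mem' ht
  have h3 : (v * g * w)⁻¹ * t * (v * g * w) ∈ seg X 1 3 := le_seg X 1 (k := 3) (r := 1) (by norm_num) h2
  have h4 := (Subgroup.mem_normalizer_iff.1 hn _).1 h3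
  have e : v * g * w * ((v * g * w)⁻¹ * t * (v * g * w)) * (v * g * w)⁻¹ = t := by group
  rw [e] at h4
  exact ht1 (S.inter_right (k := 3) 1 (by norm_num) t ht h4)

/-- `X 0` meets `⟨X 1, …, X 4⟩` trivially. -/
theorem not_mem_zero {g : G} (hg : g ∈ X 0) (h1 : g ≠ 1) : g ∉ seg X 1 4 := by
  intro hU
  have hN : seg X 1 4 ≤ Subgroup.normalizer ((seg X 2 3 : Subgroup G) : Set G) := by
    rw [seg_succ_left X 1 3]
    exact sup_le (norm_left S 1 (k := 3) (by norm_num)) Subgroup.le_normalizer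
  obtain ⟨v, w, hv, hw, hr⟩ := S.exists_isMu hg h1
  have hv1 : v ∈ X 4 := hv
  have hw1 : w ∈ X 4 := hw
  have h14 : X 4 ≤ seg X 1 4 := le_seg X 1 (k := 4) (r := 3) (by norm_num)
  have hn : v * g * w ∈ Subgroup.normalizer ((seg X 2 3 : Subgroup G) : Set G) :=
    hN (mul_mem (mul_mem (h14 hv1) hU) (h14 hw1))
  obtain ⟨t, ht, ht1⟩ := S.exists_ne_one 1
  have h2 : (v * g * w)⁻¹ * t * (v * g * w) ∈ X 3 := hr.mem' ht
  have h3 : (v * g * w)⁻¹ * t * (v * g * w) ∈ seg X 2 3 := le_seg X 2 (k := 3) (r := 1) (by norm_num) h2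
  have h4 := (Subgroup.mem_normalizer_iff.1 hn _).1 h3
  have e : v * g * w * ((v * g * w)⁻¹ * t * (v * g * w)) * (v * g * w)⁻¹ = t := by group
  rw [e] at h4
  exact ht1 (S.inter_left 1 (k := 3) (by norm_num) ht h4)

end borel

namespace PB

variable {G : Type u} [Group G] {D : PQDatum F V} {X : ZMod (2 * 4) → Subgroup G} {x y : F → G}
  {z₁ z₂ : D.T → G} (P : PB D X x y z₁ z₂)

include P

theorem x'_ne {a : F} (ha : a ≠ 0) : x' X x a ≠ 1 := by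
  intro h
  apply P.x_ne (neg_ne_zero.2 ha)
  unfold x' at h
  simpa only [_root_.conj_eq_one_iff] using h

theorem z₂'_ne {r : D.T} (hr : r.c ≠ 0) {p : D.T} (hp : p.c ≠ 0) : z₂' X z₂ r hr p ≠ 1 := by
  intro h
  have h1 : (D.sc (D.σ r.c) p).c ≠ 0 := sc_c_ne (D.σ_ne hr) hp
  have h2 : (D.unrefl r hr (D.sc (D.σ r.c) p)).c ≠ 0 := h1
  apply P.z₂_ne h2
  unfold z₂' at h
  simpa only [_root_.conj_eq_one_iff] using h

/-- The package, with generation and the position of the opposite root elements. -/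
theorem exists_pkg (gen : (⨆ i, X i) = ⊤) : ∃ m : B2Maps D G, B2Rel m ∧
    Subgroup.closure (Set.range m.x ∪ Set.range m.x' ∪ Set.range m.z₂ ∪ Set.range m.z₂') = ⊤ ∧
    (∃ a, m.x' a ∉ Subgroup.closure (Set.range m.x ∪ Set.range m.y ∪ Set.range m.z₁ ∪ Set.range m.z₂)) ∧
    ∃ p, m.z₂' p ∉ Subgroup.closure (Set.range m.x ∪ Set.range m.y ∪ Set.range m.z₁ ∪ Set.range m.z₂) := by
  obtain ⟨r, hr⟩ := P.exists_c_ne
  have hle : Subgroup.closure (Set.range x ∪ Set.range y ∪ Set.range z₁ ∪ Set.range z₂) ≤ seg X 1 4 := by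
    rw [Subgroup.closure_le]
    have h1 : X 1 ≤ seg X 1 4 := le_seg X 1 (k := 4) (r := 0) (by norm_num)
    have h2 : X 2 ≤ seg X 1 4 := le_seg X 1 (k := 4) (r := 1) (by norm_num)
    have h3 : X 3 ≤ seg X 1 4 := le_seg X 1 (k := 4) (r := 2) (by norm_num)
    have h4 : X 4 ≤ seg X 1 4 := le_seg X 1 (k := 4) (r := 3) (by norm_num)
    rintro g (((⟨a, rfl⟩ | ⟨a, rfl⟩) | ⟨p, rfl⟩) | ⟨p, rfl⟩)
    · exact h1 (P.mx _)
    · exact h3 (P.my _)
    · exact h2 (P.mz₁ _)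
    · exact h4 (P.mz₂ _)
  refine ⟨maps X x y z₁ z₂ r hr, P.rel hr, ?_, ⟨1, fun h => ?_⟩, ⟨r, fun h => ?_⟩⟩
  · apply P.top_of_gen gen
    · intro g hg
      obtain ⟨a, rfl⟩ := (P.x_mem _).1 hg
      exact Subgroup.subset_closure (Or.inl (Or.inl (Or.inl ⟨a, rfl⟩)))
    · intro g hg
      obtain ⟨a, rfl⟩ := (P.x'_mem _).1 hg
      exact Subgroup.subset_closure (Or.inl (Or.inl (Or.inr ⟨a, rfl⟩)))
    · intro g hg
      obtain ⟨a, rfl⟩ := (P.z₂_mem _).1 hg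
      exact Subgroup.subset_closure (Or.inl (Or.inr ⟨a, rfl⟩))
    · intro g hg
      obtain ⟨a, rfl⟩ := (P.z₂'_mem hr _).1 hg
      exact Subgroup.subset_closure (Or.inr ⟨a, rfl⟩)
  · exact not_mem_five P.S ((P.x'_mem _).2 ⟨1, rfl⟩) (P.x'_ne one_ne_zero) (hle h)
  · exact not_mem_zero P.S ((P.z₂'_mem hr _).2 ⟨r, rfl⟩) (P.z₂'_ne hr hr) (hle h)

end PB

/-! ### From an abstract pseudo-quadratic system -/

/-- The positive relations over an abstract system give the positive relations over its datum. -/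
theorem PB.of_pos {G : Type u} [Group G] {T : Type*} [Group T] {Q : PQAbs.Sys F T}
    {X : ZMod (2 * 4) → Subgroup G} (S : Sys 4 X) {x y : F → G} {z₁ z₂ : T → G}
    (h : QuadPos.Pos Q (X 1) (X 2) (X 3) (X 4) x y z₁ z₂) :
    PB Q.datum X x y (fun p => z₁ (Q.equiv.symm p)) (fun p => z₂ (Q.equiv.symm p)) where
  S := S
  x_add := h.x_add
  y_add := h.y_add
  z₁_mul p q := by rw [map_mul, h.z₁_mul]
  z₂_mul p q := by rw [map_mul, h.z₂_mul]
  x_inj := h.x_inj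
  y_inj := h.y_inj
  z₁_inj := h.z₁_inj.comp Q.equiv.symm.injective
  z₂_inj := h.z₂_inj.comp Q.equiv.symm.injective
  x_mem := h.x_mem
  z₁_mem g := by
    rw [h.z₁_mem]
    exact ⟨fun ⟨p, hp⟩ => ⟨Q.equiv p, by rw [Q.equiv.symm_apply_apply, hp]⟩, fun ⟨p, hp⟩ => ⟨_, hp⟩⟩
  y_mem := h.y_mem
  z₂_mem g := by
    rw [h.z₂_mem]
    exact ⟨fun ⟨p, hp⟩ => ⟨Q.equiv p, by rw [Q.equiv.symm_apply_apply, hp]⟩, fun ⟨p, hp⟩ => ⟨_, hp⟩⟩
  x_z₂ a p := by
    obtain ⟨q, rfl⟩ := Q.equiv.surjective p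
    rw [← Q.equiv_smul, Q.equiv.symm_apply_apply, Q.equiv.symm_apply_apply, h.x_z₂]
    rfl
  z₁_z₂ p q := by
    obtain ⟨p, rfl⟩ := Q.equiv.surjective p
    obtain ⟨q, rfl⟩ := Q.equiv.surjective q
    rw [Q.equiv.symm_apply_apply, Q.equiv.symm_apply_apply, h.z₁_z₂, Q.datum_h]
  x_y a b := by rw [← Q.equiv_tr, Q.equiv.symm_apply_apply, h.x_y]
  x_z₁ a p := h.x_z₁ a _
  y_z₁ b p := h.y_z₁ b _
  y_z₂ b p := h.y_z₂ b _

end Cfsg.Agent.SplitTwo.QuadB2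

private theorem dce_3dd9eecfc8dd : _root_.True := by
  try have : _root_.True := by simp only [_root_.Cfsg.Agent.TitsThree.B2Pkg.PQDatum.unrefl.congr_simp]
  exact _root_.True.intro
end

-- part: SplitTwo/QuadB2Final
section
set_option linter.all false
open scoped Cfsg.Agent.FastGrp

/-!
# Finite simple groups with a root group system of type `B₂` and positive relations are of Lie type (S1144)

`lieConcl_of_pos`, and the mirrored version `lieConcl_of_pos'`.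
-/

set_option autoImplicit false

namespace Cfsg.Agent.SplitTwo.QuadB2Final

open Cfsg.Agent.TitsThree.B2Pkg Cfsg.Agent.TitsThree.PQAbs Cfsg.Agent.TitsThree
  Cfsg.Agent.SplitTwo.QuadFinal Cfsg.Agent.TitsThree.Top

universe u v w

section congr

variable {F : Type*} [Field F] {F' : Type*} [Field F'] {T : Type*} [Group T]

/-- Change of the field. -/
def congr (Q : PQAbs.Sys F T) (e : F' ≃+* F) : PQAbs.Sys F' T where
  σ := (e.trans Q.σ).trans e.symm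
  σσ x := by
    change e.symm (Q.σ (e (e.symm (Q.σ (e x))))) = x
    rw [e.apply_symm_apply, Q.σσ, e.symm_apply_apply]
  ε := e.symm Q.ε
  ε_mul := by
    change e.symm Q.ε * e.symm (Q.σ (e (e.symm Q.ε))) = 1
    rw [e.apply_symm_apply, ← map_mul, Q.ε_mul, map_one]
  c p := e.symm (Q.c p)
  h p q := e.symm (Q.h p q)
  smul a p := Q.smul (e a) p
  tr a := Q.tr (e a)
  h_mul p q r := by rw [Q.h_mul, map_add]
  h_swap p q := by
    change e.symm (Q.h q p) = e.symm Q.ε * e.symm (Q.σ (e (e.symm (Q.h p q))))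
    rw [e.apply_symm_apply, ← map_mul, ← Q.h_swap]
  c_mul p q := by rw [Q.c_mul, map_sub, map_add]
  c_herm p := by
    change e.symm (Q.c p) + e.symm Q.ε * e.symm (Q.σ (e (e.symm (Q.c p)))) = -e.symm (Q.h p p)
    rw [e.apply_symm_apply, ← map_mul, ← map_add, Q.c_herm, map_neg]
  h_smul a p q := by rw [Q.h_smul, map_mul, e.symm_apply_apply]
  c_smul a p := by
    change e.symm (Q.c (Q.smul (e a) p)) = a * e.symm (Q.σ (e a)) * e.symm (Q.c p)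
    rw [Q.c_smul, map_mul, map_mul, e.symm_apply_apply]
  h_tr a p := by rw [Q.h_tr, map_zero]
  c_tr a := by
    change e.symm (Q.c (Q.tr (e a))) = a - e.symm Q.ε * e.symm (Q.σ (e a))
    rw [Q.c_tr, map_sub, map_mul, e.symm_apply_apply]
  eq_one p h := Q.eq_one p ((map_eq_zero_iff _ e.symm.injective).1 h)

theorem pos_congr {G : Type*} [Group G] {Q : PQAbs.Sys F T} (e : F' ≃+* F) {U1 U2 U3 U4 : Subgroup G}
    {x y : F → G} {z₁ z₂ : T → G} (h : QuadPos.Pos Q U1 U2 U3 U4 x y z₁ z₂) :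
    QuadPos.Pos (congr Q e) U1 U2 U3 U4 (fun a => x (e a)) (fun a => y (e a)) z₁ z₂ where
  x_add a b := by rw [map_add, h.x_add]
  y_add a b := by rw [map_add, h.y_add]
  z₁_mul := h.z₁_mul
  z₂_mul := h.z₂_mul
  x_inj := h.x_inj.comp e.injective
  y_inj := h.y_inj.comp e.injective
  z₁_inj := h.z₁_inj
  z₂_inj := h.z₂_inj
  x_mem g := by
    rw [h.x_mem]
    exact ⟨fun ⟨a, ha⟩ => ⟨e.symm a, by rw [e.apply_symm_apply, ha]⟩, fun ⟨a, ha⟩ => ⟨_, ha⟩⟩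
  z₁_mem := h.z₁_mem
  y_mem g := by
    rw [h.y_mem]
    exact ⟨fun ⟨a, ha⟩ => ⟨e.symm a, by rw [e.apply_symm_apply, ha]⟩, fun ⟨a, ha⟩ => ⟨_, ha⟩⟩
  z₂_mem := h.z₂_mem
  x_z₂ a p := by
    change _ = z₁ (Q.smul (e (e.symm (Q.σ (e a)))) p) *
      y (e (-(e.symm Q.ε * a * e.symm (Q.σ (e (e.symm (Q.c p)))))))
    rw [h.x_z₂, e.apply_symm_apply, e.apply_symm_apply, map_neg, map_mul, map_mul, e.apply_symm_apply,
      e.apply_symm_apply]
  z₁_z₂ p q := by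
    change _ = y (e (-e.symm (Q.h q p)))
    rw [h.z₁_z₂, map_neg, e.apply_symm_apply]
  x_y a b := by
    change _ = z₁ (Q.tr (e (e.symm (Q.σ (e a)) * b)))
    rw [h.x_y, map_mul, e.apply_symm_apply]
  x_z₁ a p := h.x_z₁ _ p
  y_z₁ b p := h.y_z₁ _ p
  y_z₂ b p := h.y_z₂ _ p

end congr

/-- A finite field lives in `Type`. -/
theorem exists_field (F : Type u) [Field F] [Finite F] :
    ∃ (F' : Type) (_ : Field F'), Finite F' ∧ Nonempty (F' ≃+* F) := by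
  let e := (Finite.equivFin F).symm
  let i : Field (Fin (Nat.card F)) := e.field
  exact ⟨Fin (Nat.card F), i, inferInstance, ⟨e.ringEquiv⟩⟩

/-- Positive relations in a root group system of type `B₂`. -/
theorem lieConcl_of_pos_sys {G : Type u} [Group G] [Finite G] [IsSimpleGroup G]
    {X : ZMod (2 * 4) → Subgroup G} (S : Sys 4 X) (gen : (⨆ i, X i) = ⊤) {F : Type v} [Field F] [Finite F]
    {T : Type w} [Group T] {Q : PQAbs.Sys F T} {x y : F → G} {z₁ z₂ : T → G}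
    (h : QuadPos.Pos Q (X 1) (X 2) (X 3) (X 4) x y z₁ z₂) : LieConcl G := by
  obtain ⟨F', i1, i2, ⟨e⟩⟩ := exists_field F
  have h' := pos_congr e h
  set Q' := congr Q e
  have P := QuadB2.PB.of_pos S h'
  have hT : Finite T := Finite.of_injective _ h.z₂_inj
  have hV : Finite Q'.V := by
    have : Finite (T ⧸ Q'.trSub) := inferInstance
    exact this
  obtain ⟨p, hp⟩ := P.exists_c_ne
  obtain ⟨m, hm, h1, h2, h3⟩ := P.exists_pkg gen
  refine lieConcl_of_pkg (D := Q'.datum) (fun c hc => Q'.datum_ok_zero hc) Q'.datum_surj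
    ⟨p.w, p.c, p.ok, hp⟩ ⟨m, hm, ?_, ?_, ?_⟩
  · rw [genSet_eq]; exact h1
  · rw [posSet_eq]; exact h2
  · rw [posSet_eq]; exact h3

/-- **Root group systems of type `B₂`**, positive relations in the order `X 1, …, X 4`. -/
theorem lieConcl_of_pos {G : Type u} [Group G] [Finite G] [IsSimpleGroup G] (R : RootSys 4 G)
    {F : Type v} [Field F] [Finite F] {T : Type w} [Group T] {Q : PQAbs.Sys F T} {x y : F → G}
    {z₁ z₂ : T → G} (h : QuadPos.Pos Q (R.X 1) (R.X 2) (R.X 3) (R.X 4) x y z₁ z₂) : LieConcl G :=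
  lieConcl_of_pos_sys R.toSys R.gen h

/-- **Root group systems of type `B₂`**, positive relations in the order `X 4, …, X 1`. -/
theorem lieConcl_of_pos' {G : Type u} [Group G] [Finite G] [IsSimpleGroup G] (R : RootSys 4 G)
    {F : Type v} [Field F] [Finite F] {T : Type w} [Group T] {Q : PQAbs.Sys F T} {x y : F → G}
    {z₁ z₂ : T → G} (h : QuadPos.Pos Q (R.X 4) (R.X 3) (R.X 2) (R.X 1) x y z₁ z₂) : LieConcl G := by
  have S : Sys 4 (fun j => R.X (-(j + 3))) := R.toSys.neg.shift 3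
  refine lieConcl_of_pos_sys S ?_ h
  rw [eq_top_iff, ← R.gen]
  refine iSup_le fun i => ?_
  have e : i = -(-i - 3 + 3) := by ring
  conv_lhs => rw [e]
  exact le_iSup (fun j => R.X (-(j + 3))) (-i - 3)

end Cfsg.Agent.SplitTwo.QuadB2Final
end

-- part: SplitTwo/QuadOfRoot788
section
set_option linter.all false
open scoped Cfsg.Agent.FastGrp

/-!
# Root group systems with `m = 4` satisfy the hypotheses of `QuadBase.Quad` (S1144)
-/

set_option autoImplicit false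

namespace Cfsg.Agent.SplitTwo.QuadOfRoot788

open Cfsg.Agent.SplitTwo

universe u

variable {G : Type u} [Group G] {X : ZMod (2 * 4) → Subgroup G}

theorem seg_two {i : ZMod (2 * 4)} (S : Sys 4 X) {x : G} (hx : x ∈ seg X i 2) :
    ∃ b ∈ X i, ∃ c ∈ X (i + 1), b * c = x := by
  obtain ⟨b, hb, c, hc, e⟩ := (S.mem_seg_succ_left i (k := 1) (by norm_num)).mp hx
  rw [seg_one] at hc
  exact ⟨b, hb, c, hc, e⟩

/-- `a⁻¹ x a x⁻¹ = (μ(a)⁻¹ x μ(a)) (μ(x) a μ(x)⁻¹)`. -/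
theorem k14 (S : Sys 4 X) {a x : G} (ha : a ∈ X 1) (ha1 : a ≠ 1) (hx : x ∈ X 4) (hx1 : x ≠ 1) :
    a⁻¹ * x * a * x⁻¹ = ((muMap X 1 a)⁻¹ * x * muMap X 1 a) * (muMap X 4 x * a * (muMap X 4 x)⁻¹) := by
  have h4 : (4 : ZMod (2 * 4)) = 1 + (((4 - 1 : ℕ)) : ZMod (2 * 4)) := by decide
  have h4' : (4 : ZMod (2 * 4)) = 1 + ((2 + 1 : ℕ) : ZMod (2 * 4)) := by decide
  have h1 := S.comm 1 2 (by norm_num) a⁻¹ (inv_mem ha) x (by rw [← h4']; exact hx)
  rw [commutatorElement_def, inv_inv] at h1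
  obtain ⟨c, hc, d, hd, e⟩ := seg_two S h1
  have e1 := S.tw_left (i := 1) ha ha1 (by rw [← h4]; exact hx) hc (d := d) (by rw [seg_one]; exact hd) e.symm
  have e2 := S.tw_right (i := 1) (a := a) (x := x) (c := d) (d := c) ha (by rw [← h4]; exact hx) hx1
    (by
      have : (1 : ZMod (2 * 4)) + ((4 - 2 : ℕ) : ZMod (2 * 4)) = 1 + 1 + 1 := by decide
      rw [this]; exact hd)
    (by rw [seg_one]; exact hc) e.symm
  rw [← h4] at e2
  rw [e1, e2, e]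

/-- An element of `X (i + 2)` centralising `X i` is centralised by the mu-elements of `X i`. -/
theorem fix_right (S : Sys 4 X) {i : ZMod (2 * 4)} {a c : G} (ha : a ∈ X i) (ha1 : a ≠ 1)
    (hc : c ∈ X (i + 1 + 1)) (hcomm : ∀ a' ∈ X i, a' * c = c * a') :
    muMap X i a * c * (muMap X i a)⁻¹ = c := by
  have hk := S.kap_mem ha ha1
  have hl := S.lam_mem ha ha1
  have hr := S.refl ha ha1
  have hi4 : i + ((4 : ℕ) : ZMod (2 * 4)) = i + 1 + 1 + 1 + 1 := by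
    have : ((4 : ℕ) : ZMod (2 * 4)) = 1 + 1 + 1 + 1 := by decide
    rw [this]; ring
  rw [hi4] at hk hl
  set k := kap X i a with hkd
  set l := lam X i a with hld
  -- first `λ c λ⁻¹ = c`
  have hu : l * c * l⁻¹ * c⁻¹ ∈ X (i + 1 + 1 + 1) := by
    have h1 := S.comm (i + 1 + 1) 1 (by norm_num) c hc l
      (by
        have : i + 1 + 1 + ((1 + 1 : ℕ) : ZMod (2 * 4)) = i + 1 + 1 + 1 + 1 := by push_cast; ring
        rw [this]; exact hl)
    rw [seg_one, commutatorElement_def] at h1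
    have e : l * c * l⁻¹ * c⁻¹ = (c * l * c⁻¹ * l⁻¹)⁻¹ := by group
    rw [e]
    exact inv_mem h1
  set u := l * c * l⁻¹ * c⁻¹ with hud
  have hlc : l * c * l⁻¹ = u * c := by rw [hud]; group
  have hmem := hr.mem hc
  have e1 : 2 * i + ((4 : ℕ) : ZMod (2 * 4)) - (i + 1 + 1) = i + 1 + 1 := by
    have : ((4 : ℕ) : ZMod (2 * 4)) = 1 + 1 + 1 + 1 := by decide
    rw [this]; ring
  rw [e1] at hmem
  have e2 : muMap X i a * c * (muMap X i a)⁻¹ = k * (a * u * a⁻¹ * c) * k⁻¹ := by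
    unfold muMap
    rw [← hkd, ← hld]
    calc k * a * l * c * (k * a * l)⁻¹ = k * (a * (l * c * l⁻¹) * a⁻¹) * k⁻¹ := by group
      _ = k * (a * (u * c) * a⁻¹) * k⁻¹ := by rw [hlc]
      _ = k * (a * u * (c * a⁻¹)) * k⁻¹ := by group
      _ = k * (a * u * (a⁻¹ * c)) * k⁻¹ := by rw [hcomm a⁻¹ (inv_mem ha)]
      _ = k * (a * u * a⁻¹ * c) * k⁻¹ := by group
  -- `a u a⁻¹ u⁻¹ = p q`, `p ∈ X (i+1)`, `q ∈ X (i+2)`
  have h4' : i + 1 + 1 + 1 = i + ((2 + 1 : ℕ) : ZMod (2 * 4)) := by push_cast; ring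
  have h3 := S.comm i 2 (by norm_num) a ha u (by rw [← h4']; exact hu)
  rw [commutatorElement_def] at h3
  obtain ⟨p, hp, q, hq, epq⟩ := seg_two S h3
  -- `p = 1`
  have hp1 : p = 1 := by
    have h5 : k⁻¹ * (muMap X i a * c * (muMap X i a)⁻¹) * k = p * (q * u * c) := by
      rw [e2]
      have h6 : p * (q * u * c) = (p * q) * u * c := by group
      rw [h6, epq]; group
    have h7 : k⁻¹ * (muMap X i a * c * (muMap X i a)⁻¹) * k ∈ seg X (i + 1 + 1) 2 := by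
      have h8 := S.conj_seg_right (i + 1 + 1) (k := 1) (l := 2) (by norm_num) (by norm_num) (b := k⁻¹)
        (by
          have : i + 1 + 1 + ((2 : ℕ) : ZMod (2 * 4)) = i + 1 + 1 + 1 + 1 := by push_cast; ring
          rw [this]; exact inv_mem hk) (x := muMap X i a * c * (muMap X i a)⁻¹)
        (by rw [seg_one]; exact hmem)
      rwa [inv_inv] at h8
    rw [h5] at h7
    have h9 : q * u * c ∈ seg X (i + 1 + 1) 2 := by
      refine mul_mem (mul_mem ?_ ?_) ?_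
      · have := le_seg X (i + 1 + 1) (k := 2) (r := 0) (by norm_num)
        rw [Nat.cast_zero, add_zero] at this
        exact this hq
      · have := le_seg X (i + 1 + 1) (k := 2) (r := 1) (by norm_num)
        rw [Nat.cast_one] at this
        exact this hu
      · have := le_seg X (i + 1 + 1) (k := 2) (r := 0) (by norm_num)
        rw [Nat.cast_zero, add_zero] at this
        exact this hc
    apply S.inter_left (i + 1) (k := 2) (by norm_num) hp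
    have h10 : p = (p * (q * u * c)) * (q * u * c)⁻¹ := by group
    rw [h10]
    exact mul_mem h7 (inv_mem h9)
  -- `u = 1`
  have hu1 : u = 1 := by
    by_contra hne
    have ha' := inv_mem ha
    have e3 : (a⁻¹)⁻¹ * u * a⁻¹ * u⁻¹ = 1 * q := by
      rw [inv_inv, one_mul, ← epq, hp1, one_mul]
    have h11 := S.tw_left (i := i) (a := a⁻¹) (x := u) (c := 1) (d := q) ha' (inv_ne_one.mpr ha1)
      (by
        have : i + ((4 - 1 : ℕ) : ZMod (2 * 4)) = i + 1 + 1 + 1 := by push_cast; ring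
        rw [this]; exact hu)
      (one_mem _) (by rw [seg_one]; exact hq) e3
    apply hne
    have h12 : u = muMap X i a⁻¹ * ((muMap X i a⁻¹)⁻¹ * u * muMap X i a⁻¹) * (muMap X i a⁻¹)⁻¹ := by group
    rw [h12, h11]; group
  -- conclude
  have e4 : muMap X i a * c * (muMap X i a)⁻¹ = k * c * k⁻¹ := by
    rw [e2, hu1]
    group
  have h13 : (muMap X i a * c * (muMap X i a)⁻¹) * c⁻¹ ∈ X (i + 1 + 1 + 1) := by
    rw [e4]
    have h1 := S.comm (i + 1 + 1) 1 (by norm_num) c hc k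
      (by
        have : i + 1 + 1 + ((1 + 1 : ℕ) : ZMod (2 * 4)) = i + 1 + 1 + 1 + 1 := by push_cast; ring
        rw [this]; exact hk)
    rw [seg_one, commutatorElement_def] at h1
    have e : k * c * k⁻¹ * c⁻¹ = (c * k * c⁻¹ * k⁻¹)⁻¹ := by group
    rw [e]
    exact inv_mem h1
  have h14 := S.inter_left (i + 1 + 1) (k := 1) (by norm_num) (mul_mem hmem (inv_mem hc))
    (by rw [seg_one]; exact h13)
  exact mul_inv_eq_one.mp h14

/-- An element of `X (i - 2)` centralising `X i` is centralised by the mu-elements of `X i`. -/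
theorem fix_left (S : Sys 4 X) {i : ZMod (2 * 4)} {a c : G} (ha : a ∈ X i) (ha1 : a ≠ 1)
    (hc : c ∈ X (i - 1 - 1)) (hcomm : ∀ a' ∈ X i, a' * c = c * a') :
    muMap X i a * c * (muMap X i a)⁻¹ = c := by
  have e : -(-i) = i := neg_neg i
  have ha' : a ∈ (fun j => X (-j)) (-i) := by
    change a ∈ X (-(-i)); rw [e]; exact ha
  have h := fix_right S.neg (i := -i) (a := a) (c := c) ha' ha1
    (by
      change c ∈ X (-(-i + 1 + 1))
      have e2 : -(-i + 1 + 1) = i - 1 - 1 := by ring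
      rw [e2]; exact hc)
    (by
      intro a' h'
      change a' ∈ X (-(-i)) at h'
      rw [e] at h'
      exact hcomm a' h')
  rw [S.muMap_neg (i := -i) (by rw [e]; exact ha) ha1, e] at h
  exact h

/-- **The four positive root groups of a root group system with `m = 4` form a `Quad`.** -/
theorem quad (S : Sys 4 X) :
    QuadBase.Quad (X 1) (X 2) (X 3) (X 4) (fun a => (muMap X 1 a)⁻¹) (fun x => muMap X 4 x) where
  c12 a ha b hb := S.comm_one 1 ha (by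
    have : (1 : ZMod (2 * 4)) + 1 = 2 := by decide
    rw [this]; exact hb)
  c23 a ha b hb := S.comm_one 2 ha (by
    have : (2 : ZMod (2 * 4)) + 1 = 3 := by decide
    rw [this]; exact hb)
  c34 a ha b hb := S.comm_one 3 ha (by
    have : (3 : ZMod (2 * 4)) + 1 = 4 := by decide
    rw [this]; exact hb)
  inf23 b hb hb' := by
    refine S.inter_left 2 (k := 1) (by norm_num) hb ?_
    rw [seg_one]
    have : (2 : ZMod (2 * 4)) + 1 = 3 := by decide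
    rw [this]; exact hb'
  k13 a ha c hc := by
    have h := S.comm 1 1 (by norm_num) a⁻¹ (inv_mem ha) c (by
      have : (1 : ZMod (2 * 4)) + ((1 + 1 : ℕ) : ZMod (2 * 4)) = 3 := by decide
      rw [this]; exact hc)
    rw [seg_one, commutatorElement_def, inv_inv] at h
    have : (1 : ZMod (2 * 4)) + 1 = 2 := by decide
    rw [this] at h
    exact h
  k24 b hb x hx := by
    have h := S.comm 2 1 (by norm_num) b⁻¹ (inv_mem hb) x (by
      have : (2 : ZMod (2 * 4)) + ((1 + 1 : ℕ) : ZMod (2 * 4)) = 4 := by decide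
      rw [this]; exact hx)
    rw [seg_one, commutatorElement_def, inv_inv] at h
    have : (2 : ZMod (2 * 4)) + 1 = 3 := by decide
    rw [this] at h
    exact h
  k14 a ha ha1 x hx hx1 := by
    rw [inv_inv]
    exact k14 S ha ha1 hx hx1
  m_inv a ha ha1 := by rw [S.muMap_inv ha ha1]
  n_inv x hx hx1 := by rw [S.muMap_inv hx hx1]
  m4 a ha ha1 x hx := by
    rw [inv_inv]
    have h := (S.refl ha ha1).mem' hx
    have : 2 * (1 : ZMod (2 * 4)) + ((4 : ℕ) : ZMod (2 * 4)) - 4 = 2 := by decide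
    rwa [this] at h
  m2 a ha ha1 x hx := by
    rw [inv_inv]
    have h := (S.refl ha ha1).mem' hx
    have : 2 * (1 : ZMod (2 * 4)) + ((4 : ℕ) : ZMod (2 * 4)) - 2 = 4 := by decide
    rwa [this] at h
  m3 a ha ha1 x hx := by
    rw [inv_inv]
    have h := (S.refl ha ha1).mem' hx
    have : 2 * (1 : ZMod (2 * 4)) + ((4 : ℕ) : ZMod (2 * 4)) - 3 = 3 := by decide
    rwa [this] at h
  n1 a ha ha1 x hx := by
    have h := (S.refl ha ha1).mem hx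
    have : 2 * (4 : ZMod (2 * 4)) + ((4 : ℕ) : ZMod (2 * 4)) - 1 = 3 := by decide
    rwa [this] at h
  n3 a ha ha1 x hx := by
    have h := (S.refl ha ha1).mem hx
    have : 2 * (4 : ZMod (2 * 4)) + ((4 : ℕ) : ZMod (2 * 4)) - 3 = 1 := by decide
    rwa [this] at h
  n2 a ha ha1 x hx := by
    have h := (S.refl ha ha1).mem hx
    have : 2 * (4 : ZMod (2 * 4)) + ((4 : ℕ) : ZMod (2 * 4)) - 2 = 2 := by decide
    rwa [this] at h
  mm1 a ha ha1 b hb hb1 c hc := by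
    have h1 := (S.refl ha ha1).mem' hc
    have h2 := (S.refl hb hb1).mem h1
    have e : 2 * (1 : ZMod (2 * 4)) + ((4 : ℕ) : ZMod (2 * 4)) - (2 * 1 + ((4 : ℕ) : ZMod (2 * 4)) - 1) = 1 := by
      decide
    rw [e] at h2
    have e2 : ((muMap X 1 b)⁻¹)⁻¹ * (muMap X 1 a)⁻¹ * c * (((muMap X 1 b)⁻¹)⁻¹ * (muMap X 1 a)⁻¹)⁻¹ =
        muMap X 1 b * ((muMap X 1 a)⁻¹ * c * muMap X 1 a) * (muMap X 1 b)⁻¹ := by group
    rw [e2]
    exact h2
  nn4 x hx hx1 y hy hy1 z hz := by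
    have h1 := (S.refl hx hx1).mem hz
    have h2 := (S.refl hy hy1).mem' h1
    have e : 2 * (4 : ZMod (2 * 4)) + ((4 : ℕ) : ZMod (2 * 4)) - (2 * 4 + ((4 : ℕ) : ZMod (2 * 4)) - 4) = 4 := by
      decide
    rw [e] at h2
    have e2 : (muMap X 4 y)⁻¹ * muMap X 4 x * z * ((muMap X 4 y)⁻¹ * muMap X 4 x)⁻¹ =
        (muMap X 4 y)⁻¹ * (muMap X 4 x * z * (muMap X 4 x)⁻¹) * muMap X 4 y := by group
    rw [e2]
    exact h2
  fix3 a ha ha1 c hc hcc := by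
    have h := fix_right S ha ha1 (c := c)
      (by
        have : (1 : ZMod (2 * 4)) + 1 + 1 = 3 := by decide
        rw [this]; exact hc) (fun a' h' => hcc a' h')
    rw [inv_inv]
    conv_lhs => rw [← h]
    group
  fix2 x hx hx1 b hb hbb := by
    exact fix_left S hx hx1 (c := b)
      (by
        have : (4 : ZMod (2 * 4)) - 1 - 1 = 2 := by decide
        rw [this]; exact hb) (fun a' h' => hbb a' h')

/-- `RootSys 4 G` gives a `Quad`. -/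
theorem quad_of_rootSys (R : RootSys 4 G) :
    QuadBase.Quad (R.X 1) (R.X 2) (R.X 3) (R.X 4) (fun a => (muMap R.X 1 a)⁻¹)
      (fun x => muMap R.X 4 x) :=
  quad R.toSys

end Cfsg.Agent.SplitTwo.QuadOfRoot788
end

-- part: SplitTwo/QuadMain
section
set_option linter.all false
open scoped Cfsg.Agent.FastGrp

/-!
# Finite Moufang quadrangles: coordinates

`exists_pos`: the four positive root groups of a finite Moufang quadrangle, in this order or in the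
reversed order, are parametrised by a pseudo-quadratic system over a finite field, with the
positive relations of type `B₂`.
-/

set_option autoImplicit false

universe u

namespace Cfsg.Agent.SplitTwo.QuadMain

open Cfsg.Agent.SplitTwo.QuadBase Cfsg.Agent.SplitTwo.QuadCoord Cfsg.Agent.SplitTwo.QuadNonred
open Cfsg.Agent.SplitTwo.QuadPos Cfsg.Agent.TitsThree.PQAbs

variable {G : Type u} [Group G] {U1 U2 U3 U4 : Subgroup G} {m n : G → G}

/-- Coordinates for the four groups in the given order. -/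
def HasPos (U1 U2 U3 U4 : Subgroup G) : Prop :=
  ∃ (K : Type u) (_ : Field K) (S : Cfsg.Agent.TitsThree.PQAbs.Sys K U4) (x y : K → G)
    (z₁ z₂ : U4 → G), Finite K ∧
    Pos S U1 U2 U3 U4 x y z₁ z₂

theorem of_quad [Finite G] (h : Quad U1 U2 U3 U4 m n) {e : G} (he : e ∈ U1) (he1 : e ≠ 1) {f : G}
    (hf : f ∈ U4) (hf1 : f ≠ 1) : HasPos U1 U2 U3 U4 ∨ HasPos U4 U3 U2 U1 := by
  by_cases h13 : ∀ a ∈ U1, ∀ c ∈ U3, Commute a c
  · exact Or.inl (QuadRed.exists_pos h h13 he he1 hf hf1)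
  by_cases h42 : ∀ x ∈ U4, ∀ b ∈ U2, Commute x b
  · exact Or.inr (QuadRed.exists_pos h.rev h42 hf hf1 he he1)
  by_cases hY4 : ∃ s ∈ Y U4 U2, s ≠ 1
  · refine Or.inl (QuadNonred.exists_pos h he he1 hY4 ?_)
    push Not at h42
    obtain ⟨x, hx, b, hb, hxb⟩ := h42
    exact ⟨x, hx, fun hY => hxb ((mem_Y.1 hY).2 b hb)⟩
  by_cases hY1 : ∃ s ∈ Y U1 U3, s ≠ 1
  · refine Or.inr (QuadNonred.exists_pos h.rev hf hf1 hY1 ?_)
    push Not at h13
    obtain ⟨x, hx, b, hb, hxb⟩ := h13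
    exact ⟨x, hx, fun hY => hxb ((mem_Y.1 hY).2 b hb)⟩
  exfalso
  push Not at hY4 hY1
  apply h13
  -- `U1` and `U3` are abelian
  have c1 : ∀ a ∈ U1, ∀ b ∈ U1, Commute a b := by
    intro a ha b hb
    have h1 : a⁻¹ * b⁻¹ * a * b = 1 := by
      apply hY1
      rw [mem_Y]
      exact ⟨U1.mul_mem (U1.mul_mem (U1.mul_mem (U1.inv_mem ha) (U1.inv_mem hb)) ha) hb,
        fun c hc => h.comm1_mem_Y1 ha hb hc⟩
    change a * b = b * a
    calc a * b = b * a * (a⁻¹ * b⁻¹ * a * b) := by group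
      _ = b * a := by rw [h1, mul_one]
  have c3 : ∀ c ∈ U3, ∀ d ∈ U3, Commute c d := by
    intro c hc d hd
    obtain ⟨a, ha, rfl⟩ := h.Ψ_surj hf hf1 hc
    obtain ⟨b, hb, rfl⟩ := h.Ψ_surj hf hf1 hd
    change _ = _
    rw [← Φ_mul, ← Φ_mul, (c1 a ha b hb).eq]
  intro a ha c hc
  rw [← κ_eq_one_iff]
  obtain ⟨z, hz, hz'⟩ := h.Φ_surj he he1 (h.k13 a ha c hc)
  have hzY : z ∈ Y U4 U2 := by
    rw [mem_Y]
    refine ⟨hz, fun b hb => ?_⟩
    have h3 := (h.hall_witt c3 ha hc (h.m2 e he he1 b hb)).eq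
    rw [← hz', Φ_ne m he1] at h3
    have h4 : m e * (z * b) * (m e)⁻¹ = m e * (b * z) * (m e)⁻¹ := by
      calc m e * (z * b) * (m e)⁻¹ = (m e * z * (m e)⁻¹) * (m e * b * (m e)⁻¹) := by group
        _ = (m e * b * (m e)⁻¹) * (m e * z * (m e)⁻¹) := h3
        _ = m e * (b * z) * (m e)⁻¹ := by group
    exact mul_left_cancel (mul_right_cancel h4)
  rw [← hz', hY4 z hzY, Φ_one_right]

/-- Finite Moufang quadrangles. -/
theorem of_rootSys [Finite G] (R : RootSys 4 G) :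
    HasPos (R.X 1) (R.X 2) (R.X 3) (R.X 4) ∨ HasPos (R.X 4) (R.X 3) (R.X 2) (R.X 1) := by
  obtain ⟨e, he, he1⟩ := (Subgroup.ne_bot_iff_exists_ne_one).1 (R.ne_bot 1) |>.elim
    fun a ha => (⟨a, a.2, fun h => ha (Subtype.ext h)⟩ : ∃ e ∈ R.X 1, e ≠ 1)
  obtain ⟨f, hf, hf1⟩ := (Subgroup.ne_bot_iff_exists_ne_one).1 (R.ne_bot 4) |>.elim
    fun a ha => (⟨a, a.2, fun h => ha (Subtype.ext h)⟩ : ∃ f ∈ R.X 4, f ≠ 1)
  exact of_quad (QuadOfRoot788.quad_of_rootSys R) he he1 hf hf1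

end Cfsg.Agent.SplitTwo.QuadMain
end

-- part: SplitTwo/QuadEnd
section
set_option linter.all false

/-!
# The case `m = 4` of S1144
-/

set_option autoImplicit false

namespace Cfsg.Agent.SplitTwo.QuadEnd

open Cfsg.Agent.TitsThree.Top

universe u

/-- **Case `m = 4`**: a finite simple group with a root group system of type `B₂` is of Lie type. -/
theorem lieConcl {G : Type u} [Group G] [Finite G] [IsSimpleGroup G] (R : RootSys 4 G) : LieConcl G := by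
  rcases QuadMain.of_rootSys R with ⟨K, i1, S, x, y, z₁, z₂, i2, h⟩ | ⟨K, i1, S, x, y, z₁, z₂, i2, h⟩
  · exact QuadB2Final.lieConcl_of_pos R h
  · exact QuadB2Final.lieConcl_of_pos' R h

end Cfsg.Agent.SplitTwo.QuadEnd
end
end
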